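import Groth.Agent.S15592
import Groth.Agent.GrpSchLib.AntiAffineHom
import Groth.Agent.GrpSchLib.MultTypeBC
import Groth.Prelude.Def_Red

/-! A homomorphism from a torus to a proper group is trivial. -/

universe u

open CategoryTheory Limits AlgebraicGeometry MonoidalCategory CartesianMonoidalCategory MonObj
open WithConv

set_option linter.style.haveILetI false

namespace Groth.Agent.AlgGrp25.TorusProper

open GrpSchLib GrpSchLib.AffineHopf

variable {K : Type u} [Field K]

/-- The group algebra map of a map of characters, as a map of spectra. -/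
noncomputable abbrev dMap {M N : Type} [AddCommGroup M] [AddCommGroup N] (φ : M →+ N) :
    sp K (MonoidAlgebra K (Multiplicative N)) ⟶ sp K (MonoidAlgebra K (Multiplicative M)) :=
  spMap (MonoidAlgebra.mapDomainBialgHom K (AddMonoidHom.toMultiplicative φ) :
    MonoidAlgebra K (Multiplicative M) →ₐ[K] MonoidAlgebra K (Multiplicative N))

theorem dMap_comp {M N P : Type} [AddCommGroup M] [AddCommGroup N] [AddCommGroup P] (φ : M →+ N) (ψ : N →+ P) :
    dMap (K := K) ψ ≫ dMap φ = dMap (ψ.comp φ) := by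
  rw [spMap_comp]
  refine congrArg spMap (MonoidAlgebra.algHom_ext (fun m => ?_) (by ext))
  simp

theorem dMap_add {M N : Type} [AddCommGroup M] [AddCommGroup N] (φ ψ : M →+ N) :
    dMap (K := K) (φ + ψ) = dMap φ * dMap ψ := by
  rw [spMap_mul]
  refine congrArg spMap (MonoidAlgebra.algHom_ext (fun m => ?_) (by ext))
  rw [AlgHom.convMul_apply, MonoidAlgebra.comul_single]
  simp [MonoidAlgebra.single_mul_single]

theorem dMap_zero (M N : Type) [AddCommGroup M] [AddCommGroup N] : dMap (K := K) (0 : M →+ N) = 1 := by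
  refine (congrArg spMap (MonoidAlgebra.algHom_ext (fun m => ?_) (by ext))).trans
    (map_one (Spec.mapMulEquiv (R := K) (S := MonoidAlgebra K (Multiplicative M))
      (T := MonoidAlgebra K (Multiplicative N))))
  simp [AlgHom.convOne_apply, MonoidAlgebra.one_def]

theorem dMap_id (M : Type) [AddCommGroup M] :
    dMap (K := K) (AddMonoidHom.id M) = 𝟙 (sp K (MonoidAlgebra K (Multiplicative M))) := by
  rw [← spMap_id]
  refine congrArg spMap (MonoidAlgebra.algHom_ext (fun m => ?_) (by ext))
  simp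

variable {A : Over (Spec (CommRingCat.of K))} [GrpObj A] [IsProper A.hom]

/-- A homomorphism from the multiplicative group to a proper group is trivial. -/
theorem eq_one_of_iso_Gm {G : Over (Spec (CommRingCat.of K))} [GrpObj G]
    (e : Grp.mk G ≅ Grp.mk (Red.Gm (Spec (CommRingCat.of K)))) (v : G ⟶ A) [IsMonHom v] : v = 1 := by
  let a : AlgGrp.Action G A :=
    { act := (fst G A ≫ v) * snd G A
      one_act := by
        apply AlgGrp.Action.hom_ext_lift₂
        intro T t x
        rw [lift_whiskerRight_assoc, MonObj.comp_mul, lift_fst_assoc, lift_snd, leftUnitor_hom, lift_snd,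
          Category.assoc, IsMonHom.one_hom v, show t ≫ η[A] = (1 : T ⟶ A) by
            rw [Hom.one_def, toUnit_unique t (toUnit T)], _root_.one_mul]
      mul_act := by
        apply AlgGrp.Action.hom_ext_lift₃
        intro T g g' x
        rw [lift_whiskerRight_assoc, ← Hom.mul_def, lift_lift_associator_hom_assoc, lift_whiskerLeft_assoc]
        simp only [MonObj.comp_mul, lift_fst_assoc, lift_snd]
        rw [MonObj.mul_comp, _root_.mul_assoc] }
  obtain ⟨x, hx⟩ := S15592.result K G A (Or.inr ⟨e⟩) η[A] a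
  have h : lift (𝟙 G) (toUnit G ≫ x) ≫ a.act = toUnit G ≫ x := hx G (𝟙 G)
  simp only [a, MonObj.comp_mul, lift_fst_assoc, lift_snd, Category.id_comp] at h
  exact mul_eq_right.mp h

/-- A homomorphism from a split torus to a proper group is trivial. -/
theorem eq_one_of_split (r : ℕ) (v : sp K (MonoidAlgebra K (Multiplicative (Fin r → ℤ))) ⟶ A) [IsMonHom v] :
    v = 1 := by
  classical
  have hgen : ∀ i : Fin r, dMap (Pi.evalAddMonoidHom (fun _ => ℤ) i) ≫ v = 1 := fun i => by
    obtain ⟨e⟩ := nonempty_DS_iso K ℤ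
    exact eq_one_of_iso_Gm e _
  let res : Finset (Fin r) → ((Fin r → ℤ) →+ (Fin r → ℤ)) := fun s =>
    ∑ i ∈ s, (AddMonoidHom.single (fun _ => ℤ) i).comp (Pi.evalAddMonoidHom (fun _ => ℤ) i)
  have hs : ∀ s, dMap (res s) ≫ v = 1 := by
    intro s
    induction s using Finset.induction with
    | empty => simp only [res, Finset.sum_empty, dMap_zero, MonObj.one_comp]
    | @insert i s hi ih =>
      rw [show res (insert i s) = (AddMonoidHom.single (fun _ => ℤ) i).comp (Pi.evalAddMonoidHom (fun _ => ℤ) i) + res s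
        from Finset.sum_insert hi, dMap_add, MonObj.mul_comp, ih, _root_.mul_one, ← dMap_comp, Category.assoc,
        hgen, MonObj.comp_one]
  have huniv : res Finset.univ = AddMonoidHom.id _ := by
    refine AddMonoidHom.ext fun m => funext fun j => ?_
    simp [res, Pi.single_apply]
  have h := hs Finset.univ
  rwa [huniv, dMap_id, Category.id_comp] at h

/-- A torus becomes split over a field extension. -/
theorem exists_split_field {k : Type u} [Field k] {T : Over (Spec (CommRingCat.of k))} [GrpObj T]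
    (hT : Red.IsTorus T) :
    ∃ (L : Type u) (_ : Field L) (φ : k →+* L) (r : ℕ),
      Nonempty (Grp.mk (Red.bc (Spec.map (CommRingCat.ofHom φ)) T) ≅
        Grp.mk (sp L (MonoidAlgebra L (Multiplicative (Fin r → ℤ))))) := by
  obtain ⟨S', f, -, hf, -, hloc⟩ := hT
  obtain ⟨s', -⟩ := hf.surj (IsLocalRing.closedPoint k)
  obtain ⟨U, hs, r, ⟨e⟩⟩ := hloc s'
  let z : U.toScheme := ⟨s', hs⟩
  let t : Spec (U.toScheme.residueField z) ⟶ U.toScheme := U.toScheme.fromSpecResidueField z
  obtain ⟨φ, hφ⟩ : ∃ φ : CommRingCat.of k ⟶ U.toScheme.residueField z, Spec.map φ = t ≫ U.ι ≫ f :=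
    ⟨_, Spec.map_preimage _⟩
  refine ⟨U.toScheme.residueField z, inferInstance, φ.hom, r, ?_⟩
  obtain ⟨e₁⟩ := MultTypeBC.bc_congr (show Spec.map (CommRingCat.ofHom φ.hom) = t ≫ U.ι ≫ f from hφ) T
  obtain ⟨e₂⟩ := MultTypeBC.bc_bc t (U.ι ≫ f) T
  obtain ⟨e₃⟩ := MultTypeBC.bc_iso t e
  obtain ⟨e₄⟩ := MultTypeBC.bc_DS t (Fin r → ℤ)
  obtain ⟨e₅⟩ := nonempty_DS_iso (U.toScheme.residueField z) (Fin r → ℤ)
  exact ⟨e₁ ≪≫ e₂.symm ≪≫ e₃ ≪≫ e₄ ≪≫ e₅.symm⟩

/-- A homomorphism from a torus to a proper group is trivial. -/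
theorem eq_one {T A : Over (Spec (CommRingCat.of K))} [GrpObj T] [GrpObj A] [IsProper A.hom] (hT : Red.IsTorus T)
    (v : T ⟶ A) [IsMonHom v] : v = 1 := by
  obtain ⟨L, _, φ, r, ⟨e⟩⟩ := exists_split_field hT
  let σ := Spec.map (CommRingCat.ofHom φ)
  let F := Over.pullback σ
  haveI : IsProper (F.obj A).hom := inferInstanceAs (IsProper (pullback.snd A.hom σ))
  let w : sp L (MonoidAlgebra L (Multiplicative (Fin r → ℤ))) ⟶ Red.bc σ T := e.inv.hom.hom
  haveI : IsMonHom w := e.inv.hom.isMonHom_hom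
  haveI : IsMonHom (F.map v) := (F.mapGrp.map (Grp.ofHom v)).hom.isMonHom_hom
  have h := eq_one_of_split r (w ≫ F.map v)
  have e1 : (e.hom.hom.hom : Red.bc σ T ⟶ _) ≫ w = 𝟙 _ := congrArg (fun z => z.hom.hom) e.hom_inv_id
  refine AntiAffine.eq_of_map_eq φ ?_
  calc F.map v = (e.hom.hom.hom ≫ w) ≫ F.map v := by rw [e1, Category.id_comp]
    _ = 1 := by rw [Category.assoc, h, MonObj.comp_one]
    _ = F.map 1 := (map_one F.homMonoidHom).symm

end Groth.Agent.AlgGrp25.TorusProper
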