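import Groth.Agent.AlgGrp25.AntiAff
import Groth.Agent.GrpSchLib.NormalQuot
import Groth.Agent.GrpSchLib.Descent
import Groth.Agent.GrpSchLib.HomFlat
import Groth.Agent.S3280

/-! An extension of a proper group by an affine normal subgroup is the product of that subgroup and the anti-affine
part. -/

universe u

open CategoryTheory Limits AlgebraicGeometry MonoidalCategory CartesianMonoidalCategory MonObj GrpObj

set_option linter.style.haveILetI false

namespace Groth.Agent.AlgGrp25

open GrpSchLib

variable {k : Type u} [Field k]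

/-- A morphism from a connected proper scheme to an affine scheme has one point as image. -/
theorem map_eq_of_proper_affine {A Q : Over (Spec (CommRingCat.of k))} [IsProper A.hom] [ConnectedSpace A.left]
    [IsAffine Q.left] [LocallyOfFiniteType Q.hom] (f : A ⟶ Q) (a b : A.left) : f.left a = f.left b := by
  haveI : IsSeparated Q.hom := inferInstance
  haveI : IsProper (f.left ≫ Q.hom) := by rw [Over.w f]; infer_instance
  haveI : IsProper f.left := IsProper.of_comp f.left Q.hom
  let Z := f.left.image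
  haveI : Surjective f.left.toImage := ⟨by
    rw [← Set.range_eq_univ, ← f.left.toImage.isClosedMap.isClosed_range.closure_eq]
    exact f.left.toImage.denseRange.closure_range⟩
  haveI : UniversallyClosed (f.left.toImage ≫ (f.left.imageι ≫ Q.hom)) := by
    rw [Scheme.Hom.toImage_imageι_assoc, Over.w f]; infer_instance
  haveI : UniversallyClosed (f.left.imageι ≫ Q.hom) :=
    UniversallyClosed.of_comp_surjective f.left.toImage (f.left.imageι ≫ Q.hom)
  haveI : IsProper (f.left.imageι ≫ Q.hom) := {}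
  haveI : IsFinite (f.left.imageι ≫ Q.hom) :=
    IsFinite.iff_isProper_and_isAffineHom.mpr ⟨inferInstance, inferInstance⟩
  haveI : DiscreteTopology Z := by
    have h := (f.left.imageι ≫ Q.hom).isDiscrete_preimage_singleton (IsLocalRing.closedPoint k)
    exact isDiscrete_univ_iff.mp (h.mono fun x _ => Subsingleton.elim (α := ↥(Spec (CommRingCat.of k))) _ _)
  haveI : PreconnectedSpace Z :=
    (Function.Surjective.connectedSpace f.left.toImage.surjective f.left.toImage.continuous).toPreconnectedSpace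
  have h := PreconnectedSpace.trivial_of_discrete (X := Z)
  rw [← Scheme.Hom.toImage_imageι f.left, Scheme.Hom.comp_apply, Scheme.Hom.comp_apply,
    Subsingleton.elim (f.left.toImage a) (f.left.toImage b)]

variable {G N A M I : Over (Spec (CommRingCat.of k))} [GrpObj G] [GrpObj N] [GrpObj A] [GrpObj M] [GrpObj I]
  [LocallyOfFiniteType G.hom] [QuasiCompact G.hom]

/-- `G = N · G_ant` on points. -/
theorem surjective_mul_antiAffPart (i : N ⟶ G) [IsMonHom i] [IsClosedImmersion i.left] [IsAffine N.left]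
    (hN : AlgGrp.IsNormalHom i) [IsProper A.hom] [ConnectedSpace A.left] (q : G ⟶ A) [IsMonHom q] [Surjective q.left]
    [Flat q.left] (hq : AlgGrp.IsKernel i q) {j : M ⟶ G} {p : G ⟶ I} (h : IsAntiAffPart j p) :
    Surjective ((i ⊗ₘ j) ≫ μ[G]).left := by
  haveI := h.isMonHom_p; haveI := h.flat_p; haveI := h.surjective_p; haveI := h.affine; haveI := h.lft; haveI := h.qc
  haveI : LocallyOfFiniteType N.hom := by rw [← Over.w i]; infer_instance
  haveI : QuasiCompact N.hom := by rw [← Over.w i]; infer_instance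
  haveI : IsMonHom (i ≫ p) := inferInstance
  obtain ⟨N', _, p', i', hp', hi', hpi, hc', hfl', hs', hlft', hqc'⟩ := ImageFactor.exists_image (i ≫ p)
  haveI := hp'; haveI := hi'; haveI := hc'; haveI := hfl'; haveI := hs'; haveI := hlft'; haveI := hqc'
  have hn' : AlgGrp.IsNormalHom i' := by
    intro T x n
    obtain ⟨T₁, c₁, g₁, hc₁, hg₁⟩ := (isCover_of_flat_surjective p).exists_pullback x
    obtain ⟨T₂, c₂, n₂, hc₂, hn₂⟩ := (isCover_of_flat_surjective p').exists_pullback (c₁ ≫ n)
    obtain ⟨n₃, hn₃⟩ := hN T₂ (c₂ ≫ g₁) n₂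
    haveI : Mono i'.left := inferInstance
    have e : (n₃ ≫ p') ≫ i' = (c₂ ≫ c₁) ≫ (x * (n ≫ i') * x⁻¹) := by
      rw [Category.assoc, hpi, ← Category.assoc, ← hn₃, MonObj.mul_comp, MonObj.mul_comp, GrpObj.inv_comp,
        MonObj.comp_mul, MonObj.comp_mul, GrpObj.comp_inv]
      simp only [Category.assoc, hg₁]
      rw [← hpi, ← reassoc_of% hn₂]
    obtain ⟨w, hw⟩ := exists_fac_of_cover (hc₂.comp hc₁) i' _ (n₃ ≫ p') e
    exact ⟨w, hw.symm⟩
  obtain ⟨Q, _, π, hπ, hQa, hQl, hπf, hπs, hπk⟩ := NormalQuot.exists_quot I N' i' hn'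
  haveI := hπ; haveI := hQa; haveI := hQl
  have hiφ : i ≫ p ≫ π = toUnit N ≫ η[Q] := by
    rw [← Category.assoc, ← hpi, Category.assoc, hπk.w, ← Category.assoc, comp_toUnit]
  obtain ⟨φ', hφ', hqφ, -⟩ := S3280.result k G N A Q q i hq (p ≫ π) hiφ
  constructor
  intro g
  let pt : ↥(Spec (CommRingCat.of k)) := IsLocalRing.closedPoint k
  have hz : π.left (p.left g) = η[Q].left pt := by
    rw [← Scheme.Hom.comp_apply, ← Over.comp_left, ← hqφ, Over.comp_left, Scheme.Hom.comp_apply,
      map_eq_of_proper_affine φ' (q.left g) (η[A].left pt), ← Scheme.Hom.comp_apply, ← Over.comp_left,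
      IsMonHom.one_hom φ']
  obtain ⟨y, hy, -⟩ := Scheme.exists_preimage_of_isPullback
    ((hπk : IsPullback i' (toUnit N') π η[Q]).map (Over.forget _)) (p.left g) pt hz
  obtain ⟨n, rfl⟩ := p'.left.surjective y
  have hne : (i ≫ p).left n = p.left g := by
    rw [← hpi, Over.comp_left, Scheme.Hom.comp_apply]; exact hy
  obtain ⟨z, hz1, hz2⟩ := Scheme.Pullback.exists_preimage_pullback n g hne
  let T : Over (Spec (CommRingCat.of k)) := Over.mk (pullback.fst (i ≫ p).left p.left ≫ N.hom)
  let a : T ⟶ N := Over.homMk (pullback.fst (i ≫ p).left p.left) rfl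
  let b : T ⟶ G := Over.homMk (pullback.snd (i ≫ p).left p.left) (by
    show pullback.snd _ _ ≫ G.hom = pullback.fst _ _ ≫ N.hom
    rw [← Over.w p, ← pullback.condition_assoc, Over.w (i ≫ p)])
  have hab : (a ≫ i) ≫ p = b ≫ p := by
    rw [Category.assoc]; exact Over.OverMorphism.ext pullback.condition
  obtain ⟨l, hl⟩ := h.exists_lift ((a ≫ i)⁻¹ * b) (by rw [MonObj.mul_comp, GrpObj.inv_comp, hab, inv_mul_cancel])
  have e : lift a l ≫ (i ⊗ₘ j) ≫ μ[G] = b := by
    rw [← Category.assoc, lift_map, ← Hom.mul_def, hl, mul_inv_cancel_left]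
  refine ⟨(lift a l).left z, ?_⟩
  rw [← Scheme.Hom.comp_apply, ← Over.comp_left, e]
  exact hz2

end Groth.Agent.AlgGrp25
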