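import Groth.Agent.GrpSchLib.AffineHopf
import Groth.Agent.GrpSchLib.Kunneth
import Groth.Prelude.Def_AlgGrp
import Groth.Prelude.Def_ChGrp

/-! Points with values in algebras: extensionality along injective maps, and universality. -/

universe u

open CategoryTheory Limits AlgebraicGeometry MonoidalCategory CartesianMonoidalCategory MonObj

set_option linter.style.haveILetI false

namespace Groth.Agent.AlgGrp25

open GrpSchLib.AffineHopf GrpSchLib

/-- An affine morphism between affine schemes inducing a bijection on functions is an isomorphism. -/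
theorem isIso_of_affine_of_bijective {X Y : Scheme.{u}} [IsAffine X] [IsAffine Y] (f : X ⟶ Y)
    (hf : Function.Bijective f.appTop) : IsIso f := by
  haveI : IsIso f.appTop := (ConcreteCategory.isIso_iff_bijective _).mpr hf
  exact (MorphismProperty.arrow_mk_iso_iff (MorphismProperty.isomorphisms _) (arrowIsoSpecΓOfIsAffine f)).mpr
    (inferInstanceAs (IsIso (Spec.map f.appTop)))

/-- Morphisms from an affine scheme to a separated one are determined by their restriction along an injective ring map. -/
theorem spec_ext_of_injective {R R' : Type u} [CommRing R] [CommRing R'] (φ : R →+* R') (hφ : Function.Injective φ)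
    {Y S : Scheme.{u}} (s : Y ⟶ S) [IsSeparated s] {f g : Spec (CommRingCat.of R) ⟶ Y} (h : f ≫ s = g ≫ s)
    (e : Spec.map (CommRingCat.ofHom φ) ≫ f = Spec.map (CommRingCat.ofHom φ) ≫ g) : f = g := by
  let fg : Spec (CommRingCat.of R) ⟶ pullback s s := pullback.lift f g h
  let Δ := pullback.diagonal s
  let c := pullback.fst fg Δ
  haveI : IsClosedImmersion c := inferInstance
  haveI : IsAffine (pullback fg Δ) := isAffine_of_isAffineHom c
  let w : Spec (CommRingCat.of R') ⟶ pullback fg Δ :=
    pullback.lift (Spec.map (CommRingCat.ofHom φ)) (Spec.map (CommRingCat.ofHom φ) ≫ f) (by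
      apply pullback.hom_ext
      · simp [fg, Δ, pullback.lift_fst]
      · simp [fg, Δ, pullback.lift_snd, e])
  have hw : w ≫ c = Spec.map (CommRingCat.ofHom φ) := pullback.lift_fst _ _ _
  have hinj : Function.Injective (Spec.map (CommRingCat.ofHom φ)).appTop := by
    intro x y hxy
    have h0 := Scheme.ΓSpecIso_naturality (CommRingCat.ofHom φ)
    have hx : φ ((Scheme.ΓSpecIso (CommRingCat.of R)).hom x) = φ ((Scheme.ΓSpecIso (CommRingCat.of R)).hom y) := by
      have ex := congr($h0 x)
      have ey := congr($h0 y)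
      exact ex.symm.trans ((congrArg (Scheme.ΓSpecIso (CommRingCat.of R')).hom hxy).trans ey)
    exact (ConcreteCategory.bijective_of_isIso (Scheme.ΓSpecIso (CommRingCat.of R)).hom).1 (hφ hx)
  have hc : Function.Bijective c.appTop := by
    refine ⟨?_, (IsClosedImmersion.isAffine_surjective_of_isAffine c).2⟩
    intro x y hxy
    apply hinj
    rw [← hw, Scheme.Hom.comp_appTop]
    exact congrArg w.appTop hxy
  haveI : IsIso c := isIso_of_affine_of_bijective c hc
  have h2 : fg = (inv c ≫ pullback.snd fg Δ) ≫ Δ := by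
    rw [Category.assoc, IsIso.eq_inv_comp, pullback.condition]
  calc f = fg ≫ pullback.fst s s := (pullback.lift_fst _ _ _).symm
    _ = fg ≫ pullback.snd s s := by rw [h2]; simp [Δ]
    _ = g := pullback.lift_snd _ _ _

variable {k : Type u} [Field k]

theorem sp_ext_of_injective {R R' : Type u} [CommRing R] [CommRing R'] [Algebra k R] [Algebra k R']
    (φ : R →ₐ[k] R') (hφ : Function.Injective φ) {Y : Over (Spec (CommRingCat.of k))} [IsSeparated Y.hom]
    {f g : sp k R ⟶ Y} (e : spMap φ ≫ f = spMap φ ≫ g) : f = g :=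
  Over.OverMorphism.ext (spec_ext_of_injective φ.toRingHom hφ Y.hom ((Over.w f).trans (Over.w g).symm)
    (congrArg CommaMorphism.left e))

/-- An affine scheme over a field is the spectrum of its functions. -/
theorem exists_iso_sp (G : Over (Spec (CommRingCat.of k))) [IsAffine G.left] :
    ∃ (B : Type u) (_ : CommRing B) (_ : Algebra k B), Nonempty (sp k B ≅ G) := by
  obtain ⟨φ, hφ⟩ : ∃ φ : CommRingCat.of k ⟶ Γ(G.left, ⊤), Spec.map φ = G.left.isoSpec.inv ≫ G.hom :=
    ⟨_, Spec.map_preimage _⟩
  exact ⟨Γ(G.left, ⊤), inferInstance, φ.hom.toAlgebra,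
    ⟨Over.isoMk G.left.isoSpec.symm (by exact hφ.symm)⟩⟩

/-- For an affine group it suffices that a point be fixed by all points with values in algebras. -/
theorem isFixedPt_of_algebras {G X : Over (Spec (CommRingCat.of k))} [GrpObj G] [IsAffine G.left]
    (a : AlgGrp.Action G X) (x : 𝟙_ (Over (Spec (CommRingCat.of k))) ⟶ X)
    (h : ∀ (B : Type u) [CommRing B] [Algebra k B] (g : sp k B ⟶ G), lift g (toUnit _ ≫ x) ≫ a.act = toUnit _ ≫ x) :
    a.IsFixedPt x := by
  intro T g
  obtain ⟨B, _, _, ⟨e⟩⟩ := exists_iso_sp G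
  have h1 := congrArg ((g ≫ e.inv) ≫ ·) (h B e.hom)
  simp only [← Category.assoc, comp_lift] at h1
  rw [Category.assoc g e.inv e.hom, e.inv_hom_id, Category.comp_id, toUnit_unique ((g ≫ e.inv) ≫ toUnit _) (toUnit T)] at h1
  exact h1

end Groth.Agent.AlgGrp25
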