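import Groth.Agent.AlgGrp25.AffProper
import Groth.Agent.GrpSchLib.ImageFactor

/-! Homomorphisms from affine groups to proper groups, images of affine normal subgroups. -/

universe u

open CategoryTheory Limits AlgebraicGeometry MonoidalCategory CartesianMonoidalCategory MonObj GrpObj

set_option linter.style.haveILetI false

namespace Groth.Agent.AlgGrp25

open GrpSchLib

variable {k : Type u} [Field k]

theorem subsingleton_of_finite_connected {X : Scheme.{u}} (f : X ⟶ Spec (CommRingCat.of k)) [IsFinite f]
    [PreconnectedSpace X] : Subsingleton X := by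
  haveI : DiscreteTopology X := by
    have h := f.isDiscrete_preimage_singleton (IsLocalRing.closedPoint k)
    exact isDiscrete_univ_iff.mp (h.mono fun x _ => Subsingleton.elim (α := ↥(Spec (CommRingCat.of k))) _ _)
  exact PreconnectedSpace.trivial_of_discrete (X := X)

/-- A surjection from a proper scheme onto an affine connected one: the target is a point. -/
theorem subsingleton_of_surjective_proper {P R : Over (Spec (CommRingCat.of k))} [IsProper P.hom] [IsAffine R.left]
    [LocallyOfFiniteType R.hom] [PreconnectedSpace R.left] (v : P ⟶ R) [Surjective v.left] : Subsingleton R.left := by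
  haveI : UniversallyClosed (v.left ≫ R.hom) := by rw [Over.w v]; infer_instance
  haveI : UniversallyClosed R.hom := UniversallyClosed.of_comp_surjective v.left R.hom
  haveI : IsProper R.hom := {}
  haveI : IsFinite R.hom := IsFinite.iff_isProper_and_isAffineHom.mpr ⟨inferInstance, inferInstance⟩
  exact subsingleton_of_finite_connected R.hom

variable {N A : Over (Spec (CommRingCat.of k))} [GrpObj N] [GrpObj A]

theorem isMonHom_of_comp_mono {X Y Z : Over (Spec (CommRingCat.of k))} [GrpObj X] [GrpObj Y] [GrpObj Z]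
    (a : X ⟶ Y) (b : Y ⟶ Z) [IsMonHom b] [Mono b] [IsMonHom (a ≫ b)] : IsMonHom a where
  one_hom := by rw [← cancel_mono b, Category.assoc, IsMonHom.one_hom (a ≫ b), IsMonHom.one_hom b]
  mul_hom := by
    rw [← cancel_mono b, Category.assoc, IsMonHom.mul_hom (a ≫ b), Category.assoc, IsMonHom.mul_hom b,
      MonoidalCategory.tensorHom_comp_tensorHom_assoc]

/-- A homomorphism from a reduced connected affine group to a proper group is trivial. -/
theorem eq_one_of_affine_to_proper [IsAffine N.left] [LocallyOfFiniteType N.hom] [IsReduced N.left]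
    [ConnectedSpace N.left] [IsProper A.hom] (φ : N ⟶ A) [IsMonHom φ] : φ = 1 := by
  haveI : QuasiCompact N.hom := inferInstance
  obtain ⟨I, _, p, i, hp, hi, hpi, hci, hf, hs, hl, hq⟩ := ImageFactor.exists_image φ
  haveI := hp; haveI := hi; haveI := hci; haveI := hf; haveI := hs; haveI := hl; haveI := hq
  haveI : IsProper I.hom := by rw [← Over.w i]; infer_instance
  haveI : ConnectedSpace I.left := p.left.surjective.connectedSpace p.left.continuous
  obtain ⟨K, _, c, hc, hcc, hcn, hck⟩ := exists_kernel p
  haveI := hc; haveI := hcc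
  obtain ⟨Q, _, π, hπ, hQa, hQl, hπf, hπs, hπk⟩ := NormalQuot.exists_quot N K c hcn
  haveI := hπ; haveI := hQa; haveI := hQl
  obtain ⟨v, hv, hpv, -⟩ := S3280.result k N K I Q p c hck π hπk.w
  let pt : ↥(Spec (CommRingCat.of k)) := IsLocalRing.closedPoint k
  haveI : Surjective c.left := ⟨fun x => by
    have h : π.left x = η[Q].left pt := by
      rw [← hpv, Over.comp_left, Scheme.Hom.comp_apply, map_eq_of_proper_affine v (p.left x) (η[I].left pt),
        ← Scheme.Hom.comp_apply, ← Over.comp_left]
      haveI := hv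
      rw [IsMonHom.one_hom v]
    obtain ⟨y, hy, -⟩ := Scheme.exists_preimage_of_isPullback
      ((hπk : IsPullback c (toUnit K) π η[Q]).map (Over.forget _)) x pt h
    exact ⟨y, hy⟩⟩
  haveI : IsIso c.left := isIso_of_isClosedImmersion_of_surjective c.left
  haveI : IsIso ((Over.forget _).map c) := inferInstanceAs (IsIso c.left)
  haveI : IsIso c := isIso_of_reflects_iso c (Over.forget _)
  have hc1 : c ≫ p = 1 := hck.w
  rw [← hpi, ← cancel_epi c, reassoc_of% hc1, MonObj.one_comp, MonObj.comp_one]

variable {G' G N' A' : Over (Spec (CommRingCat.of k))} [GrpObj G'] [GrpObj G] [GrpObj N'] [GrpObj A']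
  [LocallyOfFiniteType G'.hom] [QuasiCompact G'.hom] [LocallyOfFiniteType G.hom] [QuasiCompact G.hom]

/-- A surjective homomorphism maps the affine normal kernel of a map to a proper group onto the connected one. -/
theorem surjective_of_kernels (f : G' ⟶ G) [IsMonHom f] [Surjective f.left] [IsReduced G.left]
    (i' : N' ⟶ G') [IsMonHom i'] [IsClosedImmersion i'.left] (hn' : AlgGrp.IsNormalHom i')
    [IsProper A'.hom] (q' : G' ⟶ A') [IsMonHom q'] [Surjective q'.left] [Flat q'.left] (hk' : AlgGrp.IsKernel i' q')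
    (i : N ⟶ G) [IsMonHom i] [IsClosedImmersion i.left] [IsAffine N.left] [ConnectedSpace N.left]
    [IsSeparated A.hom]
    (q : G ⟶ A) [IsMonHom q] (hk : AlgGrp.IsKernel i q)
    (h : A' ⟶ A) [IsMonHom h] (hfac : q' ≫ h = f ≫ q) (g : N' ⟶ N) [IsMonHom g] (hg : g ≫ i = i' ≫ f) :
    Surjective g.left := by
  haveI : LocallyOfFiniteType N.hom := by rw [← Over.w i]; infer_instance
  haveI : QuasiCompact N.hom := by rw [← Over.w i]; infer_instance
  haveI : LocallyOfFiniteType N'.hom := by rw [← Over.w i']; infer_instance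
  haveI : QuasiCompact N'.hom := by rw [← Over.w i']; infer_instance
  haveI : QuasiCompact f.left := by
    haveI := AntiAffine.isSeparated_grp G
    haveI : QuasiCompact (f.left ≫ G.hom) := by rw [Over.w f]; infer_instance
    exact QuasiCompact.of_comp f.left G.hom
  haveI : Flat f.left := flat_of_surjective_hom f
  haveI : Mono i.left := inferInstance
  haveI : Mono i := (Over.forget _).mono_of_mono_map (inferInstanceAs (Mono i.left))
  obtain ⟨M, _, p, m, hp, hm, hpm, hcm, hfl, hps, hMl, hMq⟩ := ImageFactor.exists_image g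
  haveI := hp; haveI := hm; haveI := hcm; haveI := hfl; haveI := hps; haveI := hMl; haveI := hMq
  haveI : Mono m.left := inferInstance
  haveI : Mono (m ≫ i).left := by rw [Over.comp_left]; infer_instance
  have hnm : AlgGrp.IsNormalHom m := by
    intro T x n
    obtain ⟨T₁, c₁, g₁, hc₁, hg₁⟩ := (isCover_of_flat_surjective f).exists_pullback (x ≫ i)
    obtain ⟨T₂, c₂, n₂, hc₂, hn₂⟩ := (isCover_of_flat_surjective p).exists_pullback (c₁ ≫ n)
    obtain ⟨n₃, hn₃⟩ := hn' T₂ (c₂ ≫ g₁) n₂
    have e : (n₃ ≫ p) ≫ m ≫ i = (c₂ ≫ c₁) ≫ ((x * (n ≫ m) * x⁻¹) ≫ i) := by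
      rw [Category.assoc, reassoc_of% hpm, hg, ← Category.assoc, ← hn₃, MonObj.mul_comp, MonObj.mul_comp,
        GrpObj.inv_comp, MonObj.mul_comp, MonObj.mul_comp, GrpObj.inv_comp, MonObj.comp_mul, MonObj.comp_mul,
        GrpObj.comp_inv]
      simp only [Category.assoc, hg₁]
      rw [← hg, ← hpm, Category.assoc, ← reassoc_of% hn₂]
    obtain ⟨w, hw⟩ := exists_fac_of_cover (hc₂.comp hc₁) (m ≫ i) _ (n₃ ≫ p) e
    refine ⟨w, ?_⟩
    rw [← cancel_mono i, Category.assoc]
    exact hw.symm
  obtain ⟨R, _, π, hπ, hRa, hRl, hπf, hπs, hπk⟩ := NormalQuot.exists_quot N M m hnm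
  haveI := hπ; haveI := hRa; haveI := hRl; haveI := hπf; haveI := hπs
  haveI : ConnectedSpace R.left := π.left.surjective.connectedSpace π.left.continuous
  obtain ⟨P, _, jP, hjP, hjPc, -, hjPk⟩ := exists_kernel h
  haveI := hjP; haveI := hjPc
  haveI : IsProper P.hom := by rw [← Over.w jP]; infer_instance
  obtain ⟨X, _, xj, hxj, hxc, -, hxk⟩ := exists_kernel (f ≫ q)
  haveI := hxj; haveI := hxc
  haveI : LocallyOfFiniteType X.hom := by rw [← Over.w xj]; infer_instance
  haveI : QuasiCompact X.hom := by rw [← Over.w xj]; infer_instance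
  haveI : Mono jP.left := inferInstance
  haveI : Mono jP := (Over.forget _).mono_of_mono_map (inferInstanceAs (Mono jP.left))
  have hw : (xj ≫ q') ≫ h = toUnit X ≫ η[A] := by rw [Category.assoc, hfac]; exact hxk.w
  let t : X ⟶ P := hjPk.lift (xj ≫ q') (toUnit X) hw
  have ht : t ≫ jP = xj ≫ q' := hjPk.lift_fst _ _ _
  haveI : IsMonHom t := by
    haveI : IsMonHom (t ≫ jP) := by rw [ht]; infer_instance
    exact isMonHom_of_comp_mono t jP
  have hsqX : IsPullback t xj jP q' := by
    refine IsPullback.of_right ?_ ht hjPk.flip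
    rw [comp_toUnit, hfac]
    exact hxk.flip
  haveI : Surjective t.left := MorphismProperty.of_isPullback (P := @Surjective) (hsqX.map (Over.forget _)).flip
    ‹Surjective q'.left›
  haveI : Flat t.left := MorphismProperty.of_isPullback (P := @Flat) (hsqX.map (Over.forget _)).flip ‹Flat q'.left›
  let u : X ⟶ N := hk.lift (xj ≫ f) (toUnit X) (by rw [Category.assoc]; exact hxk.w)
  have hu : u ≫ i = xj ≫ f := hk.lift_fst _ _ _
  haveI : IsMonHom u := by
    haveI : IsMonHom (u ≫ i) := by rw [hu]; infer_instance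
    exact isMonHom_of_comp_mono u i
  have hsqU : IsPullback u xj i f := by
    refine IsPullback.of_right ?_ hu hk.flip
    rw [comp_toUnit]
    exact hxk.flip
  haveI : Surjective u.left := MorphismProperty.of_isPullback (P := @Surjective) (hsqU.map (Over.forget _)).flip
    ‹Surjective f.left›
  let w : N' ⟶ X := hxk.lift i' (toUnit N') (by
    rw [← hfac, reassoc_of% (hk'.w : i' ≫ q' = toUnit N' ≫ η[A']), IsMonHom.one_hom h])
  have hwi : w ≫ xj = i' := hxk.lift_fst _ _ _
  have hwk : AlgGrp.IsKernel w t := by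
    refine IsPullback.of_right (h₁₂ := xj) (h₂₂ := jP) (v₁₃ := q') ?_ ?_ hsqX.flip
    · rw [hwi, IsMonHom.one_hom jP]
      exact hk'
    · rw [← cancel_mono jP, Category.assoc, ht, reassoc_of% hwi, Category.assoc, IsMonHom.one_hom jP]
      exact hk'.w
  have hwg : w ≫ u = g := by rw [← cancel_mono i, Category.assoc, hu, reassoc_of% hwi, hg]
  obtain ⟨v, hv, htv, -⟩ := S3280.result k X N' P R t w hwk (u ≫ π) (by
    rw [← Category.assoc, hwg, ← hpm, Category.assoc, hπk.w, ← Category.assoc, comp_toUnit])
  haveI : Surjective v.left := by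
    haveI : Surjective (t.left ≫ v.left) := by rw [← Over.comp_left, htv, Over.comp_left]; infer_instance
    exact Surjective.of_comp t.left v.left
  haveI : Subsingleton R.left := subsingleton_of_surjective_proper v
  constructor
  intro x
  let pt : ↥(Spec (CommRingCat.of k)) := IsLocalRing.closedPoint k
  obtain ⟨y, hy, -⟩ := Scheme.exists_preimage_of_isPullback
    ((hπk : IsPullback m (toUnit M) π η[R]).map (Over.forget _)) x pt (Subsingleton.elim (α := ↥R.left) _ _)
  obtain ⟨z, rfl⟩ := p.left.surjective y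
  exact ⟨z, by rw [← hpm, Over.comp_left, Scheme.Hom.comp_apply]; exact hy⟩

end Groth.Agent.AlgGrp25
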