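import Groth.Agent.GrpSchLib.AffinizationKer
import Groth.Agent.GrpSchLib.AntiAffineHom
import Groth.Agent.GrpSchLib.KernelGrp

/-! The largest anti-affine subgroup of an algebraic group, as the kernel of a map onto an affine group. -/

universe u

open CategoryTheory Limits AlgebraicGeometry MonoidalCategory CartesianMonoidalCategory MonObj GrpObj

set_option linter.style.haveILetI false

namespace Groth.Agent.AlgGrp25

open GrpSchLib

variable {k : Type u} [Field k]

/-- `j : M ⟶ G` is the anti-affine part: the kernel of a flat surjection of `G` onto an affine algebraic group. -/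
structure IsAntiAffPart {G M I : Over (Spec (CommRingCat.of k))} [GrpObj G] [GrpObj M] [GrpObj I]
    (j : M ⟶ G) (p : G ⟶ I) : Prop where
  isMonHom_j : IsMonHom j
  isClosedImmersion_j : IsClosedImmersion j.left
  normal : AlgGrp.IsNormalHom j
  isMonHom_p : IsMonHom p
  flat_p : Flat p.left
  surjective_p : Surjective p.left
  kernel : AlgGrp.IsKernel j p
  affine : IsAffine I.left
  lft : LocallyOfFiniteType I.hom
  qc : QuasiCompact I.hom
  lft_M : LocallyOfFiniteType M.hom
  qc_M : QuasiCompact M.hom
  antiAffine : Function.Bijective M.hom.appTop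
  bijective_appTop : Function.Bijective p.left.appTop

/-- Every algebraic group over a field has an anti-affine part. -/
theorem exists_antiAffPart (G : Over (Spec (CommRingCat.of k))) [GrpObj G] [LocallyOfFiniteType G.hom]
    [QuasiCompact G.hom] :
    ∃ (M I : Over (Spec (CommRingCat.of k))) (_ : GrpObj M) (_ : GrpObj I) (j : M ⟶ G) (p : G ⟶ I),
      IsAntiAffPart j p := by
  haveI := AntiAffine.isSeparated_grp G
  obtain ⟨I, gI, p, hp, hI, hlft, hfl, hs, hb⟩ := Affinization.exists_affinization G
  haveI := hp; haveI := hI; haveI := hlft; haveI := hfl; haveI := hs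
  haveI : IsSeparated I.hom := AntiAffine.isSeparated_grp I
  obtain ⟨M, gM, j, hj, hjc, hn, hk⟩ := GrpSchLib.exists_kernel p
  haveI := hj; haveI := hjc
  haveI : IsIso p.left.appTop := (ConcreteCategory.isIso_iff_bijective _).mpr hb
  let m : I.left ⟶ Spec Γ(G.left, ⊤) := I.left.toSpecΓ ≫ inv (Spec.map p.left.appTop)
  have hm : G.left.toSpecΓ = p.left ≫ m := by
    rw [← Category.assoc, Scheme.toSpecΓ_naturality, Category.assoc, IsIso.hom_inv_id, Category.comp_id]
  have hq : QuasiCompact I.hom := inferInstance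
  haveI : QuasiCompact (j.left ≫ G.hom) := inferInstance
  haveI hMl : LocallyOfFiniteType M.hom := by rw [← Over.w j]; infer_instance
  haveI hMq : QuasiCompact M.hom := by rw [← Over.w j]; infer_instance
  refine ⟨M, I, gM, gI, j, p, ⟨hj, hjc, hn, hp, hfl, hs, hk, hI, hlft, hq, hMl, hMq, ?_, hb⟩⟩
  have hk' : IsPullback j.left (toUnit M).left p.left η[I].left :=
    (hk : IsPullback j (toUnit M) p η[I]).map (Over.forget _)
  have hη : η[G].left ≫ G.left.toSpecΓ = η[I].left ≫ m := by
    rw [hm, ← Category.assoc, ← Over.comp_left, IsMonHom.one_hom p]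
  have hk'' : IsPullback j.left (toUnit M).left G.left.toSpecΓ (η[G].left ≫ G.left.toSpecΓ) := by
    rw [hη, hm]
    exact hk'.of_iso (Iso.refl _) (Iso.refl _) (Iso.refl _) (asIso m) ((Category.comp_id _).trans (Category.id_comp _).symm)
      ((Category.comp_id _).trans (Category.id_comp _).symm) (by simp) (by simp)
  obtain ⟨_, -, -, hbij⟩ := AffinizationKer.main G
  let e : M.left ≅ (AffinizationKer.ker G).left := hk''.isoPullback
  have he : e.hom ≫ (AffinizationKer.ker G).hom = M.hom := by
    show hk''.isoPullback.hom ≫ pullback.snd _ _ ≫ _ = _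
    rw [IsPullback.isoPullback_hom_snd_assoc]
    exact Over.w (toUnit M)
  rw [← he, Scheme.Hom.comp_appTop]
  haveI : IsIso e.hom.appTop := inferInstanceAs (IsIso ((Scheme.Hom.app e.hom) ⊤))
  exact (ConcreteCategory.bijective_of_isIso e.hom.appTop).comp hbij

namespace IsAntiAffPart

variable {G M I : Over (Spec (CommRingCat.of k))} [GrpObj G] [GrpObj M] [GrpObj I] {j : M ⟶ G} {p : G ⟶ I}

theorem exists_lift (h : IsAntiAffPart j p) {T : Over (Spec (CommRingCat.of k))} (g : T ⟶ G) (hg : g ≫ p = 1) :
    ∃ l : T ⟶ M, l ≫ j = g :=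
  ⟨(h.kernel : IsPullback j (toUnit M) p η[I]).lift g (toUnit T) hg, IsPullback.lift_fst _ _ _ _⟩

/-- Every pointed map from an anti-affine group lands in the anti-affine part. -/
theorem pointed_factor (h : IsAntiAffPart j p) {H : Over (Spec (CommRingCat.of k))} [GrpObj H]
    (hH : Function.Bijective H.hom.appTop) (f : H ⟶ G) (hf : η[H] ≫ f = η[G]) : ∃ l : H ⟶ M, l ≫ j = f := by
  haveI := h.isMonHom_p; haveI := h.affine
  refine h.exists_lift f ?_
  have h1 := AntiAffine.eq_const_of_isAffine hH (f ≫ p) η[H]
  rw [← Category.assoc η[H] f p, hf, IsMonHom.one_hom p] at h1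
  exact h1

/-- If the anti-affine part is trivial, the group is isomorphic to the affine quotient. -/
theorem mono_p (h : IsAntiAffPart j p) (hM : IsIso M.hom) : Mono p := by
  haveI := h.isMonHom_p
  refine ⟨fun {T} a b hab => ?_⟩
  obtain ⟨l, hl⟩ := h.exists_lift (a * b⁻¹) (by rw [MonObj.mul_comp, GrpObj.inv_comp, hab, mul_inv_cancel])
  have : l = 1 := Over.OverMorphism.ext ((cancel_mono M.hom).mp ((Over.w l).trans (Over.w (1 : T ⟶ M)).symm))
  haveI := h.isMonHom_j
  rw [‹l = 1›, MonObj.one_comp] at hl
  exact mul_inv_eq_one.mp hl.symm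

end IsAntiAffPart

end Groth.Agent.AlgGrp25
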