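import Groth.Agent.AlgGrp25.AntiAff
import Groth.Agent.Chev24.Structure
import Groth.Agent.Lib.AVMulN
import Groth.Agent.H23.MaxAbelian
import Groth.Agent.GrpSchLib.QuotAffine
import Groth.Agent.GrpSchLib.HomFlat
import Groth.Agent.GrpSchLib.HomClosedRange
import Groth.Agent.GrpSchLib.HomFinite
import Groth.Agent.GrpSchLib.IsogenyFibre
import Groth.Agent.AlgGrpH24.QuasiKer
import Groth.Agent.H23.TopDim
import Groth.Agent.S16130

/-! Multiplication by an integer on an anti-affine group is an isogeny (algebraically closed field). -/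

universe u

open CategoryTheory Limits AlgebraicGeometry MonoidalCategory CartesianMonoidalCategory MonObj GrpObj

set_option linter.style.haveILetI false
set_option backward.isDefEq.respectTransparency false
set_option backward.isDefEq.respectTransparency.types false

namespace Groth.Agent.AlgGrp25.AntiPow

variable {k : Type u} [Field k]

/-- The power map is a homomorphism on a commutative group. -/
theorem isMonHom_pow {G : Over (Spec (CommRingCat.of k))} [GrpObj G] [IsCommMonObj G] (n : ℕ) :
    IsMonHom (𝟙 G ^ n : G ⟶ G) :=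
  AlgGrpH24.isMonHom_of_forall_mul _ fun a b => by
    simp only [MonObj.comp_pow, Category.comp_id]
    exact mul_pow a b n

variable [IsAlgClosed k] {G : Over (Spec (CommRingCat.of k))} [GrpObj G] [Smooth G.hom] [QuasiCompact G.hom]
  [IsCommMonObj G]

theorem exists_pt_closed {X : Over (Spec (CommRingCat.of k))} [LocallyOfFiniteType X.hom] {z : X.left}
    (hz : IsClosed ({z} : Set X.left)) :
    ∃ g : 𝟙_ (Over (Spec (CommRingCat.of k))) ⟶ X, g.left (IsLocalRing.closedPoint k) = z :=
  ⟨Over.homMk (pointOfClosedPoint X.hom z hz) (pointOfClosedPoint_comp X.hom z hz),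
    pointOfClosedPoint_apply X.hom z hz _⟩

theorem eq_of_pt_eq {X : Over (Spec (CommRingCat.of k))} [LocallyOfFiniteType X.hom]
    {g g' : 𝟙_ (Over (Spec (CommRingCat.of k))) ⟶ X}
    (h : g.left (IsLocalRing.closedPoint k) = g'.left (IsLocalRing.closedPoint k)) : g = g' := by
  exact Over.OverMorphism.ext (ext_of_apply_closedPoint_eq X.hom (Over.w g) (Over.w g') h)

/-- A surjective map lifts rational points. -/
theorem exists_lift_pt {X Y : Over (Spec (CommRingCat.of k))} [LocallyOfFiniteType X.hom] [QuasiCompact X.hom]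
    [LocallyOfFiniteType Y.hom] (f : X ⟶ Y) [Surjective f.left] (y : 𝟙_ (Over (Spec (CommRingCat.of k))) ⟶ Y) :
    ∃ x, x ≫ f = y := by
  haveI := LocallyOfFiniteType.jacobsonSpace X.hom
  haveI := LocallyOfFiniteType.jacobsonSpace Y.hom
  have hy : IsClosed ({y.left (IsLocalRing.closedPoint k)} : Set Y.left) :=
    ((pointEquivClosedPoint Y.hom) ⟨y.left, Over.w y⟩).2
  obtain ⟨z, hz, hzc⟩ := nonempty_inter_closedPoints (Z := f.left ⁻¹' {y.left (IsLocalRing.closedPoint k)})
    (f.left.surjective _) (hy.preimage f.left.continuous).isLocallyClosed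
  obtain ⟨g, rfl⟩ := exists_pt_closed (mem_closedPoints_iff.mp hzc)
  exact ⟨g, eq_of_pt_eq hz⟩

/-- Powers are surjective on an anti-affine group. -/
theorem surjective_pow (hG : Function.Bijective G.hom.appTop) (n : ℕ) (hn : 1 ≤ n) :
    Surjective (𝟙 G ^ n : G ⟶ G).left := by
  haveI : ConnectedSpace G.left := GrpSchLib.AntiAffine.connectedSpace_of_bijective hG
  haveI : IsSeparated G.hom := GrpSchLib.AntiAffine.isSeparated_grp G
  haveI := isMonHom_pow (G := G) n
  let φ : G ⟶ G := 𝟙 G ^ n
  obtain ⟨K, _, i, hi, hic, hin, hik⟩ := GrpSchLib.exists_kernel φ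
  haveI := hi; haveI := hic
  obtain ⟨Q₁, _, q₁, hq₁m, hq₁s, hq₁f, -, hQ₁l, hQ₁q, -, hq₁k⟩ := AlgGrpH24.exists_quotient_grp i hin
  haveI := hq₁m; haveI := hq₁s; haveI := hq₁f; haveI := hQ₁l; haveI := hQ₁q
  obtain ⟨e, hem, he, hec⟩ := Chev24.exists_closedImmersion_factor q₁ i hq₁k φ hik
  haveI := hem; haveI := hec
  have hen : AlgGrp.IsNormalHom e := fun T g x => ⟨x, by rw [_root_.mul_comm g, mul_inv_cancel_right]⟩
  obtain ⟨R, _, r, hrm, hrs, hrf, hrlfp, hRl, hRq, hRsep, hrk⟩ := AlgGrpH24.exists_quotient_grp e hen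
  haveI := hrm; haveI := hrs; haveI := hrf; haveI := hRl; haveI := hRq; haveI := hRsep
  haveI : Smooth R.hom := GrpSchLib.smooth_of_quotient r
  haveI : IsReduced R.left := GrpSchLib.isReduced_of_smooth_field R.hom
  haveI : ConnectedSpace R.left := Function.Surjective.connectedSpace r.left.surjective r.left.continuous
  have hR : Function.Bijective R.hom.appTop := by
    haveI : Epi r.left := Flat.epi_of_flat_of_surjective r.left
    have h1 : Function.Injective r.left.appTop := GrpSchLib.AntiAffine.appTop_injective_of_epi r.left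
    have h2 : Function.Bijective (r.left.appTop ∘ R.hom.appTop) := by
      have e0 : (r.left ≫ R.hom).appTop = G.hom.appTop := congrArg (fun f => f.appTop) (Over.w r)
      rw [Scheme.Hom.comp_appTop] at e0
      have : (⇑r.left.appTop ∘ ⇑R.hom.appTop) = ⇑G.hom.appTop := by rw [← e0]; rfl
      rw [this]; exact hG
    exact ⟨h2.1.of_comp, Function.Surjective.of_comp_left h2.2 h1⟩
  obtain ⟨L, A, _, _, l, q, hlm, hlc, hLs, hLcon, hLa, hln, hqm, hqf, hqs, hlq, hAp, hAs, hAcon⟩ :=
    Chev24.exists_chevalley (G := G)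
  haveI := hlm; haveI := hlc; haveI := hqm; haveI := hqf; haveI := hqs; haveI := hAp; haveI := hAs; haveI := hAcon
  haveI := hLs; haveI := hLa
  haveI : LocallyOfFiniteType L.hom := inferInstance
  haveI : QuasiCompact L.hom := by rw [← Over.w l]; infer_instance
  haveI : GeometricallyReduced A.hom := GrpSchLib.IsogenyFibre.geometricallyReduced_of_smooth' A.hom
  haveI : GeometricallyIntegral A.hom := H23.MaxAbelian.geometricallyIntegral_of_connected A
  haveI : Surjective (𝟙 A ^ n : A ⟶ A).left := AVMulN.surjective_pow n hn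
  haveI : QuasiCompact (l ≫ r).left := by
    haveI : QuasiCompact ((l ≫ r).left ≫ R.hom) := by rw [Over.w]; infer_instance
    exact QuasiCompact.of_comp (l ≫ r).left R.hom
  haveI : Surjective (l ≫ r).left := by
    haveI := LocallyOfFiniteType.jacobsonSpace R.hom
    have hcl := GrpSchLib.HomClosedRange.isClosed_range (l ≫ r)
    refine ⟨Set.range_eq_univ.mp ?_⟩
    by_contra hne
    obtain ⟨z, hz, hzc⟩ := nonempty_inter_closedPoints (Z := (Set.range (l ≫ r).left)ᶜ)
      (Set.nonempty_compl.mpr hne) hcl.isOpen_compl.isLocallyClosed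
    obtain ⟨y, rfl⟩ := exists_pt_closed (mem_closedPoints_iff.mp hzc)
    obtain ⟨g, hg⟩ := exists_lift_pt r y
    obtain ⟨a, ha⟩ := exists_lift_pt (𝟙 A ^ n) (g ≫ q)
    obtain ⟨b, hb⟩ := exists_lift_pt q a
    have hgb : ((b ^ n)⁻¹ * g) ≫ q = 1 := by
      rw [MonObj.mul_comp, GrpObj.inv_comp, MonObj.pow_comp, hb, ← ha, MonObj.comp_pow, Category.comp_id,
        inv_mul_cancel]
    have hker : AlgGrp.IsKernel l q := hlq
    let x := (hker : IsPullback l (toUnit L) q η[A]).lift ((b ^ n)⁻¹ * g) (𝟙 _) (by
      rw [hgb, Category.id_comp, MonObj.one_eq_one])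
    have hx : x ≫ l = (b ^ n)⁻¹ * g := IsPullback.lift_fst _ _ _ _
    refine hz ⟨x.left (IsLocalRing.closedPoint k), ?_⟩
    have hbn : (b ^ n) ≫ r = 1 := by
      have h1 : b ^ n = b ≫ q₁ ≫ e := by
        rw [he]; simp only [φ, MonObj.comp_pow, Category.comp_id]
      rw [h1, Category.assoc, Category.assoc, show e ≫ r = 1 from (hrk : IsPullback e (toUnit Q₁) r η[R]).w.trans
        (by rw [MonObj.one_eq_one, MonObj.comp_one]), MonObj.comp_one, MonObj.comp_one]
    have : x ≫ l ≫ r = y := by
      rw [← Category.assoc, hx, MonObj.mul_comp, GrpObj.inv_comp, hbn, inv_one, _root_.one_mul, hg]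
    rw [← this]
    rfl
  haveI : Flat (l ≫ r).left := GrpSchLib.flat_of_surjective_hom (l ≫ r)
  haveI : IsAffine R.left := GrpSchLib.isAffine_of_quotient (l ≫ r)
  haveI : IsIso R.hom := by
    haveI : IsIso R.hom.appTop := (ConcreteCategory.isIso_iff_bijective _).mpr hR
    have hn := Scheme.isoSpec_hom_naturality R.hom
    haveI : IsIso (R.hom ≫ (Spec (CommRingCat.of k)).isoSpec.hom) := by rw [← hn]; infer_instance
    exact IsIso.of_isIso_comp_right R.hom (Spec (CommRingCat.of k)).isoSpec.hom
  have hr1 : r = 1 := Over.OverMorphism.ext ((cancel_mono R.hom).mp ((Over.w r).trans (Over.w (1 : G ⟶ R)).symm))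
  let s := (hrk : IsPullback e (toUnit Q₁) r η[R]).lift (𝟙 G) (toUnit G) (by
    rw [Category.id_comp, hr1, MonObj.one_eq_one, MonObj.comp_one])
  have hs : s ≫ e = 𝟙 G := IsPullback.lift_fst _ _ _ _
  haveI : Surjective e.left := by
    haveI : Surjective (s.left ≫ e.left) := by rw [← Over.comp_left, hs, Over.id_left]; infer_instance
    exact Surjective.of_comp s.left e.left
  show Surjective φ.left
  rw [← he, Over.comp_left]
  infer_instance

/-- The left regular action through a homomorphism. -/
noncomputable def homAct {H : Over (Spec (CommRingCat.of k))} [GrpObj H] (f : H ⟶ G) [IsMonHom f] :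
    AlgGrp.Action H G where
  act := (fst H G ≫ f) * snd H G
  one_act := by
    rw [MonObj.comp_mul, whiskerRight_fst_assoc, whiskerRight_snd, IsMonHom.one_hom f, MonObj.one_eq_one,
      MonObj.comp_one, _root_.one_mul]
    exact (leftUnitor_hom _).symm
  mul_act := by
    simp only [MonObj.comp_mul, whiskerRight_fst_assoc, whiskerLeft_fst_assoc,
      whiskerRight_snd, associator_hom_fst_assoc, associator_hom_snd_fst_assoc, associator_hom_snd_snd,
      whiskerLeft_snd]
    rw [show μ[H] = fst H H * snd H H by rw [Hom.mul_def, lift_fst_snd, Category.id_comp]]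
    simp only [MonObj.mul_comp, MonObj.comp_mul, _root_.mul_assoc]

omit [IsAlgClosed k] [Smooth G.hom] [QuasiCompact G.hom] [IsCommMonObj G] in
theorem homAct_orbitMap {H : Over (Spec (CommRingCat.of k))} [GrpObj H] (f : H ⟶ G) [IsMonHom f] :
    (homAct f).orbitMap η[G] = f := by
  show lift (𝟙 H) (toUnit H ≫ η[G]) ≫ ((fst H G ≫ f) * snd H G) = f
  rw [MonObj.comp_mul, lift_fst_assoc, Category.id_comp, lift_snd, MonObj.one_eq_one, MonObj.comp_one,
    _root_.mul_one]

omit [IsCommMonObj G] in
/-- A surjective endomorphism has finite kernel, hence is finite. -/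
theorem isFinite_of_surjective (f : G ⟶ G) [IsMonHom f] [Surjective f.left] : IsFinite f.left := by
  haveI : IsSeparated G.hom := GrpSchLib.AntiAffine.isSeparated_grp G
  haveI : IsReduced G.left := GrpSchLib.isReduced_of_smooth_field G.hom
  haveI : QuasiCompact f.left := by
    haveI : QuasiCompact (f.left ≫ G.hom) := by rw [Over.w]; infer_instance
    exact QuasiCompact.of_comp f.left G.hom
  haveI : LocallyOfFiniteType f.left := by
    haveI : LocallyOfFiniteType (f.left ≫ G.hom) := by rw [Over.w]; infer_instance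
    exact locallyOfFiniteType_of_comp f.left G.hom
  have h := S16130.result k G G (homAct f) η[G]
  rw [homAct_orbitMap] at h
  have hr : topologicalKrullDim ↥(Set.range f.left.base) = topologicalKrullDim ↥G.left := by
    rw [Set.range_eq_univ.mpr f.left.surjective]
    exact IsHomeomorph.topologicalKrullDim_eq _ (Homeomorph.Set.univ G.left).isHomeomorph
  rw [hr] at h
  haveI : CompactSpace G.left := QuasiCompact.compactSpace_of_compactSpace G.hom
  haveI : Nonempty G.left := ⟨(η[G] : 𝟙_ _ ⟶ G).left (IsLocalRing.closedPoint k)⟩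
  obtain ⟨η₀, -, -, hdim⟩ := VarDim.exists_deg_eq_topologicalKrullDim (p := G.hom)
  rw [hdim] at h
  let P := Limits.pullback f.left (η[G]).left
  haveI : LocallyOfFiniteType (𝟙_ (Over (Spec (CommRingCat.of k)))).hom :=
    inferInstanceAs (LocallyOfFiniteType (𝟙 (Spec (CommRingCat.of k))))
  haveI : IsLocallyNoetherian (𝟙_ (Over (Spec (CommRingCat.of k)))).left :=
    inferInstanceAs (IsLocallyNoetherian (Spec (CommRingCat.of k)))
  haveI : CompactSpace (𝟙_ (Over (Spec (CommRingCat.of k)))).left :=
    inferInstanceAs (CompactSpace (Spec (CommRingCat.of k)))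
  haveI : LocallyOfFiniteType (η[G]).left := by
    haveI : LocallyOfFiniteType ((η[G]).left ≫ G.hom) := by rw [Over.w]; infer_instance
    exact locallyOfFiniteType_of_comp (η[G]).left G.hom
  haveI : IsLocallyNoetherian P := LocallyOfFiniteType.isLocallyNoetherian (pullback.snd f.left (η[G]).left)
  haveI : CompactSpace P := QuasiCompact.compactSpace_of_compactSpace (pullback.snd f.left (η[G]).left)
  haveI : IsNoetherian P := {}
  have hP : topologicalKrullDim ↥P ≤ 0 := by
    generalize topologicalKrullDim ↥P = d at h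
    generalize (VarDim.deg G.hom η₀) = m at h
    cases d with
    | bot => exact bot_le
    | coe d =>
      cases d with
      | top =>
        have h' : ((m : ℕ∞) : WithBot ℕ∞) = (((m : ℕ∞) + ⊤ : ℕ∞) : WithBot ℕ∞) := h
        rw [WithBot.coe_inj, add_top] at h'
        exact absurd h' (ENat.natCast_ne_top m)
      | coe d =>
        have : m = m + d := by exact_mod_cast h
        rw [show d = 0 by omega]
        simp
  exact GrpSchLib.HomFinite.isFinite_of_discrete_ker f (H23.TopDim.finite_discrete_of_dim_le_zero hP).2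

end Groth.Agent.AlgGrp25.AntiPow
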