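import Groth.Agent.AlgGrp25.AntiAff
import Groth.Agent.GrpSchLib.QuotAffine
import Groth.Agent.GrpSchLib.HomFlat
import Groth.Agent.GrpSchLib.AntiAffineSmoothAny
import Groth.Agent.GrpSchLib.SmoothReduced
import Mathlib.AlgebraicGeometry.Morphisms.FlatMono

/-! Small tools on anti-affine groups. -/

universe u

open CategoryTheory Limits AlgebraicGeometry MonoidalCategory CartesianMonoidalCategory MonObj GrpObj

set_option linter.style.haveILetI false
set_option backward.isDefEq.respectTransparency false
set_option backward.isDefEq.respectTransparency.types false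

namespace Groth.Agent.AlgGrp25.AntiTools

variable {k : Type u} [Field k]

/-- An affine anti-affine scheme is the base. -/
theorem isIso_hom_of_affine {X : Over (Spec (CommRingCat.of k))} [IsAffine X.left]
    (hX : Function.Bijective X.hom.appTop) : IsIso X.hom := by
  haveI : IsIso X.hom.appTop := (ConcreteCategory.isIso_iff_bijective _).mpr hX
  have hn := Scheme.isoSpec_hom_naturality X.hom
  haveI : IsIso (X.hom ≫ (Spec (CommRingCat.of k)).isoSpec.hom) := by rw [← hn]; infer_instance
  exact IsIso.of_isIso_comp_right X.hom (Spec (CommRingCat.of k)).isoSpec.hom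

/-- A quotient of an anti-affine scheme is anti-affine. -/
theorem bijective_of_cover {G R : Over (Spec (CommRingCat.of k))} (r : G ⟶ R) [Flat r.left] [Surjective r.left]
    [QuasiCompact r.left] (hG : Function.Bijective G.hom.appTop) : Function.Bijective R.hom.appTop := by
  haveI : Epi r.left := Flat.epi_of_flat_of_surjective r.left
  have h1 : Function.Injective r.left.appTop := GrpSchLib.AntiAffine.appTop_injective_of_epi r.left
  have e0 : (r.left ≫ R.hom).appTop = G.hom.appTop := congrArg (fun f => f.appTop) (Over.w r)
  rw [Scheme.Hom.comp_appTop] at e0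
  have h2 : Function.Bijective (r.left.appTop ∘ R.hom.appTop) := by
    have : (⇑r.left.appTop ∘ ⇑R.hom.appTop) = ⇑G.hom.appTop := by rw [← e0]; rfl
    rw [this]; exact hG
  exact ⟨h2.1.of_comp, Function.Surjective.of_comp_left h2.2 h1⟩

/-- A group with trivial anti-affine part is affine. -/
theorem isAffine_of_trivial {G M I : Over (Spec (CommRingCat.of k))} [GrpObj G] [GrpObj M] [GrpObj I]
    [LocallyOfFiniteType G.hom] [QuasiCompact G.hom] {j : M ⟶ G} {p : G ⟶ I} (h : IsAntiAffPart j p)
    (hM : IsIso M.hom) : IsAffine G.left := by
  haveI := h.flat_p; haveI := h.surjective_p; haveI := h.affine; haveI := h.lft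
  haveI : Mono p := h.mono_p hM
  haveI := LocallyOfFiniteType.isLocallyNoetherian I.hom
  haveI : LocallyOfFiniteType p.left := by
    have : LocallyOfFiniteType (p.left ≫ I.hom) := by rw [Over.w]; infer_instance
    exact locallyOfFiniteType_of_comp p.left I.hom
  haveI : Mono p.left := Over.mono_left_of_mono p
  haveI : IsOpenImmersion p.left := IsOpenImmersion.of_flat_of_mono p.left
  haveI : IsIso p.left := (isIso_iff_isOpenImmersion_and_epi_base _).mpr ⟨inferInstance,
    (TopCat.epi_iff_surjective _).mpr p.left.surjective⟩
  exact IsAffine.of_isIso p.left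

/-- A smooth group receiving a surjective homomorphism from an affine group is affine. -/
theorem isAffine_of_surjective {L R : Over (Spec (CommRingCat.of k))} [GrpObj L] [GrpObj R] [IsAffine L.left]
    [LocallyOfFiniteType L.hom] [Smooth R.hom] [QuasiCompact R.hom] (v : L ⟶ R) [IsMonHom v] [Surjective v.left] :
    IsAffine R.left := by
  haveI : IsReduced R.left := GrpSchLib.isReduced_of_smooth_field R.hom
  haveI : QuasiCompact v.left := by
    haveI : QuasiCompact L.hom := inferInstance
    haveI : QuasiCompact (v.left ≫ R.hom) := by rw [Over.w]; infer_instance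
    haveI : IsSeparated R.hom := GrpSchLib.AntiAffine.isSeparated_grp R
    exact QuasiCompact.of_comp v.left R.hom
  haveI : Flat v.left := GrpSchLib.flat_of_surjective_hom v
  exact GrpSchLib.isAffine_of_quotient v

end Groth.Agent.AlgGrp25.AntiTools
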