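import Groth.Agent.H23.Rigid
import Groth.Prelude.Def_AlgGrp
import Groth.Prelude.Def_ChGrp
import Mathlib.CategoryTheory.Limits.Constructions.Over.Connected

/-! `O_Y = f_* O_X` is stable under flat base change; descent of actions along such morphisms. -/

universe u

open CategoryTheory Limits AlgebraicGeometry TopologicalSpace MonoidalCategory CartesianMonoidalCategory MonObj

set_option linter.style.haveILetI false

namespace Groth.Agent.AlgGrp25.Blanchard

/-- `O = f_* O` is stable under flat base change. -/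
theorem bijective_app_of_isPullback {X' X T Y : Scheme.{u}} {t' : X' ⟶ X} {p : X' ⟶ T} {f : X ⟶ Y} {t : T ⟶ Y}
    (H : IsPullback t' p f t) [QuasiCompact f] [QuasiSeparated f] [Flat t]
    (hf : ∀ U : Y.Opens, Function.Bijective (f.app U)) (U : T.Opens) : Function.Bijective (p.app U) := by
  have aff : ∀ W : T.Opens, IsAffineOpen W → (∃ V : Y.Opens, IsAffineOpen V ∧ W ≤ t ⁻¹ᵁ V) →
      Function.Bijective (p.app W) := by
    rintro W hW ⟨V, hV, hWV⟩
    have hiso := isIso_pushoutSection_of_isQuasiSeparated_of_flat_right H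
      (US := V) (UT := W) (UX := f ⁻¹ᵁ V) (UY := p ⁻¹ᵁ W) hWV le_rfl
      (by
        rw [eq_comm, inf_eq_right, ← Scheme.Hom.comp_preimage, H.w, Scheme.Hom.comp_preimage]
        exact p.preimage_mono hWV)
      hV hW (f.isCompact_preimage hV.isCompact) (f.isQuasiSeparated_preimage hV.isQuasiSeparated)
    rw [isIso_pushoutSection_iff] at hiso
    have : IsIso (f.appLE V (f ⁻¹ᵁ V) le_rfl) := by
      rw [← Scheme.Hom.app_eq_appLE]
      exact (ConcreteCategory.isIso_iff_bijective _).mpr (hf V)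
    have := hiso.isIso_inr_of_isIso
    rw [Scheme.Hom.app_eq_appLE]
    exact ConcreteCategory.bijective_of_isIso _
  have basis : ∀ (x : T) (W₀ : T.Opens), x ∈ W₀ →
      ∃ W : T.Opens, IsAffineOpen W ∧ (∃ V : Y.Opens, IsAffineOpen V ∧ W ≤ t ⁻¹ᵁ V) ∧ x ∈ W ∧ W ≤ W₀ := by
    intro x W₀ hx
    obtain ⟨_, ⟨V, hV, rfl⟩, hxV, -⟩ :=
      Y.isBasis_affineOpens.exists_subset_of_mem_open (Set.mem_univ (t x)) isOpen_univ
    obtain ⟨_, ⟨W, hW, rfl⟩, hxW, hle⟩ :=
      T.isBasis_affineOpens.exists_subset_of_mem_open (show x ∈ W₀ ⊓ t ⁻¹ᵁ V from ⟨hx, hxV⟩) (W₀ ⊓ t ⁻¹ᵁ V).isOpen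
    exact ⟨W, hW, ⟨V, hV, fun y hy => (hle hy).2⟩, hxW, fun y hy => (hle hy).1⟩
  let F : TopCat.Sheaf CommRingCat.{u} T := T.sheaf
  let G : TopCat.Sheaf CommRingCat.{u} T := (TopCat.Sheaf.pushforward _ p.base).obj X'.sheaf
  let φ : F ⟶ G := ⟨p.c⟩
  have : ∀ x : T, IsIso ((TopCat.Presheaf.stalkFunctor CommRingCat.{u} x).map φ.hom) := by
    intro x
    rw [ConcreteCategory.isIso_iff_bijective]
    constructor
    · intro a b hab
      obtain ⟨W₀, hxW₀, a', rfl⟩ := TopCat.Presheaf.exists_germ_eq F.obj a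
      obtain ⟨W₁, hxW₁, b', rfl⟩ := TopCat.Presheaf.exists_germ_eq F.obj b
      rw [TopCat.Presheaf.stalkFunctor_map_germ_apply, TopCat.Presheaf.stalkFunctor_map_germ_apply] at hab
      obtain ⟨W₂, hx₂, i₀, i₁, he⟩ := TopCat.Presheaf.germ_eq G.obj x hxW₀ hxW₁ _ _ hab
      obtain ⟨W, hW, hWV, hxW, hWle⟩ := basis x W₂ hx₂
      refine TopCat.Presheaf.germ_ext _ W hxW (homOfLE hWle ≫ i₀) (homOfLE hWle ≫ i₁) ((aff W hW hWV).1 ?_)
      have := congrArg (G.obj.map (homOfLE hWle).op) he
      have e0 := G.obj.map_comp i₀.op (homOfLE hWle).op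
      have e1 := G.obj.map_comp i₁.op (homOfLE hWle).op
      have this := ((ConcreteCategory.congr_hom e0 _).trans this).trans (ConcreteCategory.congr_hom e1 _).symm
      exact (ConcreteCategory.congr_hom (p.c.naturality (homOfLE hWle ≫ i₀).op) a').trans
        (this.trans (ConcreteCategory.congr_hom (p.c.naturality (homOfLE hWle ≫ i₁).op) b').symm)
    · intro c
      obtain ⟨W₀, hxW₀, c', rfl⟩ := TopCat.Presheaf.exists_germ_eq G.obj c
      obtain ⟨W, hW, hWV, hxW, hWle⟩ := basis x W₀ hxW₀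
      obtain ⟨a, ha⟩ := (aff W hW hWV).2 (G.obj.map (homOfLE hWle).op c')
      refine ⟨TopCat.Presheaf.germ F.obj W x hxW a, ?_⟩
      refine (TopCat.Presheaf.stalkFunctor_map_germ_apply W x hxW φ.hom a).trans ?_
      exact (congrArg (TopCat.Presheaf.germ G.obj W x hxW) ha).trans (TopCat.Presheaf.germ_res_apply G.obj _ _ _ _)
  have : IsIso φ := TopCat.Presheaf.isIso_of_stalkFunctor_map_iso φ
  have : IsIso φ.hom := (TopCat.Sheaf.forget _ _).map_isIso φ
  exact ConcreteCategory.bijective_of_isIso (φ.hom.app (Opposite.op U))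

variable {k : Type u} [Field k] {X Y : Over (Spec (CommRingCat.of k))}

theorem isPullback_snd_whiskerLeft (G : Over (Spec (CommRingCat.of k))) (f : X ⟶ Y) :
    IsPullback (snd G X).left (G ◁ f).left f.left (snd G Y).left := by
  have h : IsPullback (snd G X) (G ◁ f) f (snd G Y) := by
    refine IsPullback.of_isLimit' ⟨by simp⟩ (PullbackCone.IsLimit.mk _
      (fun s => lift (s.snd ≫ fst G Y) s.fst) (fun s => by simp) (fun s => ?_) (fun s m h1 h2 => ?_))
    · apply CartesianMonoidalCategory.hom_ext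
      · simp
      · simpa using s.condition
    · apply CartesianMonoidalCategory.hom_ext
      · rw [lift_fst, ← h2]; simp
      · simpa using h1
  exact h.map (Over.forget _)

variable (f : X ⟶ Y) [IsProper f.left] (hf : ∀ U : Y.left.Opens, Function.Bijective (f.left.app U))

theorem isProper_whisker (G : Over (Spec (CommRingCat.of k))) : IsProper (G ◁ f).left :=
  MorphismProperty.of_isPullback (isPullback_snd_whiskerLeft G f) inferInstance

include hf in
theorem bijective_app_whisker (G : Over (Spec (CommRingCat.of k))) (U : (G ⊗ Y).left.Opens) :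
    Function.Bijective ((G ◁ f).left.app U) := by
  haveI : Flat (snd G Y).left := inferInstanceAs (Flat (pullback.snd G.hom Y.hom))
  exact bijective_app_of_isPullback (isPullback_snd_whiskerLeft G f) hf U

include hf in
/-- `f` is an epimorphism after any base change from the field. -/
theorem cancel_whisker (G : Over (Spec (CommRingCat.of k))) {Z : Over (Spec (CommRingCat.of k))}
    {r r' : G ⊗ Y ⟶ Z} (h : (G ◁ f) ≫ r = (G ◁ f) ≫ r') : r = r' := by
  haveI := isProper_whisker f G
  exact Over.OverMorphism.ext (H23.Rigid.cancel_left _ (bijective_app_whisker f hf G)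
    (H23.Rigid.surjective_of_bijective_app _ (bijective_app_whisker f hf G) (G ◁ f).left.isClosedMap)
    _ _ (congrArg CommaMorphism.left h))

include hf in
theorem exists_factor_whisker (G : Over (Spec (CommRingCat.of k))) {Z : Over (Spec (CommRingCat.of k))}
    (v : G ⊗ X ⟶ Z)
    (h : ∀ p q : ↥(G ⊗ X).left, (G ◁ f).left p = (G ◁ f).left q → v.left p = v.left q) :
    ∃ r : G ⊗ Y ⟶ Z, (G ◁ f) ≫ r = v := by
  haveI := isProper_whisker f G
  have h0 := bijective_app_whisker f hf G
  have hcl := (G ◁ f).left.isClosedMap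
  have hsurj := H23.Rigid.surjective_of_bijective_app _ h0 hcl
  obtain ⟨r, hr⟩ := H23.Rigid.exists_factor (G ◁ f).left h0 hcl v.left fun s => by
    obtain ⟨p, hp⟩ := hsurj s
    exact ⟨v.left p, fun q hq => h q p (hq.trans hp.symm)⟩
  have hw : r ≫ Z.hom = (G ⊗ Y).hom := H23.Rigid.cancel_left _ h0 hsurj _ _ (by
    rw [← Category.assoc, hr, Over.w v, Over.w (G ◁ f)])
  exact ⟨Over.homMk r hw, Over.OverMorphism.ext hr⟩

include hf in
theorem exists_action {G : Over (Spec (CommRingCat.of k))} [GrpObj G] (a : AlgGrp.Action G X)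
    (h : ∀ p q : ↥(G ⊗ X).left, (G ◁ f).left p = (G ◁ f).left q → (a.act ≫ f).left p = (a.act ≫ f).left q) :
    ∃ b : AlgGrp.Action G Y, (G ◁ f) ≫ b.act = a.act ≫ f := by
  obtain ⟨r, hr⟩ := exists_factor_whisker f hf G (a.act ≫ f) h
  have hpt : ∀ (T : Over (Spec (CommRingCat.of k))) (g : T ⟶ G) (x : T ⟶ X),
      lift g (x ≫ f) ≫ r = lift g x ≫ a.act ≫ f := fun T g x => by
    rw [← hr, lift_whiskerLeft_assoc]
  refine ⟨⟨r, ?_, ?_⟩, hr⟩
  · refine cancel_whisker f hf (𝟙_ _) ?_
    apply AlgGrp.Action.hom_ext_lift₂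
    intro T t x
    rw [lift_whiskerLeft_assoc, lift_whiskerLeft_assoc, lift_whiskerRight_assoc, hpt,
      show t ≫ η[G] = (1 : T ⟶ G) by rw [Hom.one_def, toUnit_unique t (toUnit T)],
      AlgGrp.Action.lift_one_act_assoc, leftUnitor_hom, lift_snd]
  · refine cancel_whisker f hf (G ⊗ G) ?_
    apply AlgGrp.Action.hom_ext_lift₃
    intro T g g' x
    rw [lift_whiskerLeft_assoc, lift_whiskerLeft_assoc, lift_whiskerRight_assoc, ← Hom.mul_def, hpt,
      lift_lift_associator_hom_assoc, lift_whiskerLeft_assoc, hpt, ← Category.assoc (lift g' x), hpt,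
      AlgGrp.Action.lift_mul_act_assoc]

end Groth.Agent.AlgGrp25.Blanchard
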