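import Groth.Prelude.Def_W4bk4git07Quot
import Groth.Prelude.Def_ChGrp
import Mathlib.AlgebraicGeometry.Morphisms.FlatDescent
import Mathlib.CategoryTheory.Limits.Constructions.Over.Connected

/-! Equivariant morphisms of principal bundles give cartesian squares. -/

universe u

open CategoryTheory Limits AlgebraicGeometry MonoidalCategory CartesianMonoidalCategory MonObj

set_option linter.style.haveILetI false

namespace Groth.Agent.AlgGrp25.Bundle

variable {S : Scheme.{u}} {H P P' Q Q' : Over S} [GrpObj H]

omit [GrpObj H] in
theorem isPullback_whiskerLeft_left (f : P ⟶ P') :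
    IsPullback (H ◁ f).left (snd H P).left (snd H P').left f.left := by
  have h : IsPullback (H ◁ f) (snd H P) (snd H P') f := by
    refine IsPullback.of_isLimit' ⟨by simp⟩ (PullbackCone.IsLimit.mk _
      (fun s => lift (s.fst ≫ fst H P') s.snd) (fun s => ?_) (fun s => by simp) (fun s m h1 h2 => ?_))
    · apply CartesianMonoidalCategory.hom_ext
      · simp
      · simpa using s.condition.symm
    · apply CartesianMonoidalCategory.hom_ext
      · rw [lift_fst, ← h1]; simp
      · simpa using h2
  exact h.map (Over.forget _)

/-- An equivariant morphism between principal bundles is the base change of the morphism of the bases. -/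
theorem isPullback_of_equivariant (a : AlgGrp.Action H P) (a' : AlgGrp.Action H P') (f : P ⟶ P')
    (hf : a.act ≫ f = (H ◁ f) ≫ a'.act) (q : P ⟶ Q) (q' : P' ⟶ Q') (m : Q ⟶ Q') (hm : q ≫ m = f ≫ q')
    (h : IsPullback a.act.left (snd H P).left q.left q.left)
    (h' : IsPullback a'.act.left (snd H P').left q'.left q'.left)
    [Flat q.left] [Surjective q.left] [QuasiCompact q.left] :
    IsPullback f.left q.left q'.left m.left := by
  have hm' : q.left ≫ m.left = f.left ≫ q'.left := congrArg CommaMorphism.left hm
  have hbig : IsPullback (a.act.left ≫ f.left) (snd H P).left q'.left (q.left ≫ m.left) := by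
    have := (isPullback_whiskerLeft_left (H := H) f).paste_horiz h'
    rw [hm', show a.act.left ≫ f.left = (H ◁ f).left ≫ a'.act.left from congrArg CommaMorphism.left hf]
    exact this
  let c : P.left ⟶ pullback q'.left m.left := pullback.lift f.left q.left hm'.symm
  let L := pullback (pullback.snd q'.left m.left) q.left
  let c' : (H ⊗ P).left ⟶ L := pullback.lift (a.act.left ≫ c) (snd H P).left (by
    rw [Category.assoc, pullback.lift_snd]; exact h.w)
  have hL : IsPullback (pullback.fst (pullback.snd q'.left m.left) q.left ≫ pullback.fst q'.left m.left)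
      (pullback.snd (pullback.snd q'.left m.left) q.left) q'.left (q.left ≫ m.left) :=
    ((IsPullback.of_hasPullback (pullback.snd q'.left m.left) q.left).flip.paste_vert
      (IsPullback.of_hasPullback q'.left m.left).flip).flip
  haveI : IsIso c' := by
    have e : c' = (hbig.isoIsPullback _ _ hL).hom := by
      apply hL.hom_ext
      · rw [IsPullback.isoIsPullback_hom_fst, pullback.lift_fst_assoc, Category.assoc, pullback.lift_fst]
      · rw [IsPullback.isoIsPullback_hom_snd, pullback.lift_snd]
    rw [e]; infer_instance
  have hsq : IsPullback c' a.act.left (pullback.fst (pullback.snd q'.left m.left) q.left) c := by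
    refine IsPullback.of_right (h₁₂ := pullback.snd (pullback.snd q'.left m.left) q.left)
      (h₂₂ := pullback.snd q'.left m.left) ?_ (pullback.lift_fst _ _ _)
      (IsPullback.of_hasPullback (pullback.snd q'.left m.left) q.left).flip
    rw [pullback.lift_snd, pullback.lift_snd]
    exact h.flip
  have hQ : (@Surjective ⊓ @Flat ⊓ @QuasiCompact : MorphismProperty Scheme.{u})
      (pullback.fst (pullback.snd q'.left m.left) q.left) :=
    ⟨⟨inferInstance, inferInstance⟩, inferInstance⟩
  haveI : IsIso c :=
    MorphismProperty.of_isPullback_of_descendsAlong (P := MorphismProperty.isomorphisms Scheme.{u})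
      (Q := @Surjective ⊓ @Flat ⊓ @QuasiCompact) hsq hQ (inferInstanceAs (IsIso c'))
  exact IsPullback.of_iso_pullback ⟨hm'.symm⟩ (asIso c) (pullback.lift_fst _ _ _) (pullback.lift_snd _ _ _)

end Groth.Agent.AlgGrp25.Bundle
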