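import Groth.Agent.S16211
import Mathlib.AlgebraicGeometry.Morphisms.Smooth
import Mathlib.AlgebraicGeometry.Morphisms.Separated
import Mathlib.AlgebraicGeometry.Morphisms.ClosedImmersion

/-! Fixed points of a finite group of order invertible on a smooth separated scheme. -/

universe u v

open CategoryTheory Limits AlgebraicGeometry

set_option linter.style.haveILetI false

namespace Groth.Agent.AlgGrp25.FixedSmooth

/-- The algebra step. -/
theorem smooth_of_fixed {R B C : Type u} [CommRing R] [CommRing B] [CommRing C] [Algebra R B] [Algebra R C]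
    [Algebra.Smooth R B] {G : Type v} [Group G] [Finite G] (σ : G → (B →ₐ[R] B))
    (hone : ∀ b, σ 1 b = b) (hmul : ∀ g h b, σ g (σ h b) = σ (h * g) b) (hG : IsUnit (Nat.card G : R))
    (π : B →ₐ[R] C) (hπ : Function.Surjective π) (hfix : ∀ g b, π (σ g b) = π b)
    (huniv : ∀ (T : Type u) [CommRing T] [Algebra R T] (f : B →ₐ[R] T), (∀ g b, f (σ g b) = f b) →
      ∀ b, π b = 0 → f b = 0) :
    Algebra.Smooth R C := by
  classical
  letI : MulSemiringAction G B :=
    { smul := fun g b => σ g⁻¹ b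
      one_smul := fun b => by show σ 1⁻¹ b = b; rw [inv_one, hone]
      mul_smul := fun g h b => by show σ (g * h)⁻¹ b = σ g⁻¹ (σ h⁻¹ b); rw [hmul, mul_inv_rev]
      smul_zero := fun g => map_zero (σ g⁻¹)
      smul_add := fun g a b => map_add (σ g⁻¹) a b
      smul_one := fun g => map_one (σ g⁻¹)
      smul_mul := fun g a b => map_mul (σ g⁻¹) a b }
  haveI : SMulCommClass G R B := ⟨fun g r b => map_smul (σ g⁻¹) r b⟩
  haveI : Algebra.FinitePresentation R B := Algebra.Smooth.finitePresentation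
  haveI : Algebra.FormallySmooth R B := Algebra.Smooth.formallySmooth
  let I : Ideal B := Ideal.span {x : B | ∃ (g : G) (f : B), x = g • f - f}
  haveI : Algebra.FormallySmooth R (B ⧸ I) := S16211.result R B G hG
  have hle : I ≤ RingHom.ker π := Ideal.span_le.mpr (by
    rintro _ ⟨g, b, rfl⟩
    rw [SetLike.mem_coe, RingHom.mem_ker, map_sub, sub_eq_zero]
    exact hfix g⁻¹ b)
  have hge : RingHom.ker π ≤ I := fun b hb => by
    refine Ideal.Quotient.eq_zero_iff_mem.mp (huniv (B ⧸ I) (Ideal.Quotient.mkₐ R I) (fun g b => ?_) b hb)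
    rw [Ideal.Quotient.mkₐ_eq_mk, Ideal.Quotient.eq]
    refine Ideal.subset_span ⟨g⁻¹, b, ?_⟩
    show σ g b - b = σ g⁻¹⁻¹ b - b
    rw [inv_inv]
  let e : (B ⧸ I) ≃ₐ[R] C := (Ideal.quotientEquivAlgOfEq R (le_antisymm hle hge)).trans
    (Ideal.quotientKerAlgEquivOfSurjective hπ)
  -- finitely many generators
  obtain ⟨s, hs⟩ := (Algebra.FiniteType.out : (⊤ : Subalgebra R B).FG)
  have hfg : I.FG := by
    haveI := Fintype.ofFinite G
    refine ⟨(Finset.univ ×ˢ s).image (fun p : G × B => p.1 • p.2 - p.2), le_antisymm ?_ ?_⟩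
    · refine Ideal.span_le.mpr fun x hx => ?_
      obtain ⟨p, -, rfl⟩ := Finset.mem_image.mp hx
      exact Ideal.subset_span ⟨p.1, p.2, rfl⟩
    · refine Ideal.span_le.mpr ?_
      rintro _ ⟨g, b, rfl⟩
      let J := Ideal.span ((Finset.univ ×ˢ s).image (fun p : G × B => p.1 • p.2 - p.2) : Set B)
      have : (Ideal.Quotient.mkₐ R J).comp (σ g⁻¹) = Ideal.Quotient.mkₐ R J := by
        refine AlgHom.ext_of_adjoin_eq_top hs fun x hx => ?_
        show Ideal.Quotient.mk J (g • x) = Ideal.Quotient.mk J x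
        rw [Ideal.Quotient.eq]
        exact Ideal.subset_span (Finset.mem_image.mpr ⟨(g, x), by simp [Finset.mem_coe.mp hx], rfl⟩)
      exact Ideal.Quotient.eq.mp (AlgHom.congr_fun this b)
  haveI : Algebra.FinitePresentation R (B ⧸ I) := Algebra.FinitePresentation.quotient hfg
  haveI : Algebra.Smooth R (B ⧸ I) := ⟨inferInstance, inferInstance⟩
  exact Algebra.Smooth.of_equiv e

/-- Affine opens inside the preimage of an affine open under a separated morphism meet in an affine open. -/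
theorem isAffineOpen_inf {X S : Scheme.{u}} (f : X ⟶ S) [IsSeparated f] {V : S.Opens} (hV : IsAffineOpen V)
    {U₁ U₂ : X.Opens} (h₁ : IsAffineOpen U₁) (h₂ : IsAffineOpen U₂) (e₁ : U₁ ≤ f ⁻¹ᵁ V) (e₂ : U₂ ≤ f ⁻¹ᵁ V) :
    IsAffineOpen (U₁ ⊓ U₂) := by
  let P := f ⁻¹ᵁ V
  haveI : IsAffine V.toScheme := hV
  haveI : IsSeparated (f ∣_ V) := IsZariskiLocalAtTarget.restrict ‹_› V
  haveI : IsSeparated (terminal.from P.toScheme) := by
    rw [show terminal.from P.toScheme = (f ∣_ V) ≫ terminal.from _ from (terminal.comp_from _).symm]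
    infer_instance
  haveI : IsAffineHom (pullback.diagonal (terminal.from P.toScheme)) := inferInstance
  have hi : ∀ {U : X.Opens}, IsAffineOpen U → U ≤ P → IsAffineOpen (P.ι ⁻¹ᵁ U) := fun hU hUP =>
    (Scheme.Hom.isAffineOpen_iff_of_isOpenImmersion P.ι).mp (by
      rw [Scheme.Hom.image_preimage_eq_opensRange_inf, Scheme.Opens.opensRange_ι, inf_eq_right.mpr hUP]
      exact hU)
  have h := (Scheme.Hom.isAffineOpen_iff_of_isOpenImmersion P.ι).mpr ((hi h₁ e₁).inf (hi h₂ e₂))
  rwa [← Scheme.Hom.preimage_inf, Scheme.Hom.image_preimage_eq_opensRange_inf, Scheme.Opens.opensRange_ι,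
    inf_eq_right.mpr (inf_le_left.trans e₁)] at h

variable {S : Scheme.{u}} {X : Over S} {G : Type v} [Group G] [Finite G] (ρ : G →* Aut X)

theorem comp_eq (g h : G) : (ρ g).hom ≫ (ρ h).hom = (ρ (h * g)).hom := by
  rw [map_mul]; rfl

/-- A fixed point lies in an affine open stable under the group. -/
theorem exists_stable [IsSeparated X.hom] (x : X.left) (hx : ∀ g, (ρ g).hom.left x = x) :
    ∃ (V : S.Opens) (U : X.left.Opens), IsAffineOpen V ∧ IsAffineOpen U ∧ x ∈ U ∧ U ≤ X.hom ⁻¹ᵁ V ∧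
      ∀ g, U ≤ (ρ g).hom.left ⁻¹ᵁ U := by
  classical
  haveI := Fintype.ofFinite G
  obtain ⟨V, hV, hxV, -⟩ := exists_isAffineOpen_mem_and_subset (show X.hom x ∈ (⊤ : S.Opens) from trivial)
  obtain ⟨U₀, hU₀, hxU₀, hle⟩ := exists_isAffineOpen_mem_and_subset (show x ∈ X.hom ⁻¹ᵁ V from hxV)
  let F : G → X.left.Opens := fun g => (ρ g).hom.left ⁻¹ᵁ U₀
  have hF : ∀ g, F g ≤ X.hom ⁻¹ᵁ V := fun g => by
    rw [← Over.w (ρ g).hom, Scheme.Hom.comp_preimage]
    exact fun y hy => hle hy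
  have hne : (Finset.univ : Finset G).Nonempty := Finset.univ_nonempty
  let U := Finset.univ.inf' hne F
  have hU : IsAffineOpen U ∧ U ≤ X.hom ⁻¹ᵁ V := by
    refine Finset.inf'_induction (p := fun O : X.left.Opens => IsAffineOpen O ∧ O ≤ X.hom ⁻¹ᵁ V) hne F ?_ ?_
    · exact fun a ha b hb => ⟨isAffineOpen_inf X.hom hV ha.1 hb.1 ha.2 hb.2, inf_le_left.trans ha.2⟩
    · exact fun g _ => ⟨hU₀.preimage_of_isIso (ρ g).hom.left, hF g⟩
  refine ⟨V, U, hV, hU.1, ?_, hU.2, fun g => ?_⟩
  · refine Finset.inf'_induction (p := fun O : X.left.Opens => x ∈ O) hne F (fun a ha b hb => ⟨ha, hb⟩) ?_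
    intro h _
    show (ρ h).hom.left x ∈ U₀
    rw [hx]
    exact hxU₀
  · intro y hy
    show (ρ g).hom.left y ∈ U
    refine Finset.inf'_induction (p := fun O : X.left.Opens => (ρ g).hom.left y ∈ O) hne F (fun a ha b hb => ⟨ha, hb⟩) ?_
    intro h _
    show (ρ h).hom.left ((ρ g).hom.left y) ∈ U₀
    rw [← Scheme.Hom.comp_apply, ← Over.comp_left, comp_eq]
    exact (Finset.inf'_le F (Finset.mem_univ (h * g)) : U ≤ F (h * g)) hy

variable {Z : Over S} (ι : Z ⟶ X) (hι : ∀ g, ι ≫ (ρ g).hom = ι)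
  (hZ : ∀ (T : Over S) (t : T ⟶ X), (∀ g, t ≫ (ρ g).hom = t) ↔ ∃! t' : T ⟶ Z, t' ≫ ι = t)

include hι hZ in
theorem mono_ι : Mono ι := by
  refine ⟨fun {T} a b h => ?_⟩
  obtain ⟨t', -, huniq⟩ := (hZ T (b ≫ ι)).mp fun g => by rw [Category.assoc, hι]
  exact (huniq a h).trans (huniq b rfl).symm

include hι hZ in
theorem isClosedImmersion_ι [IsSeparated X.hom] : IsClosedImmersion ι.left := by
  classical
  haveI := Fintype.ofFinite G
  have key : ∀ s : Finset G, ∃ (E : Over S) (e : E ⟶ X), IsClosedImmersion e.left ∧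
      ∀ (T : Over S) (t : T ⟶ X), (∃ t', t' ≫ e = t) ↔ ∀ g ∈ s, t ≫ (ρ g).hom = t := by
    intro s
    induction s using Finset.induction with
    | empty =>
      exact ⟨X, 𝟙 X, inferInstanceAs (IsClosedImmersion (𝟙 X.left)), fun T t =>
        ⟨fun _ g hg => absurd hg (Finset.notMem_empty g), fun _ => ⟨t, Category.comp_id t⟩⟩⟩
    | @insert a s _ ih =>
      obtain ⟨E, e, he, hE⟩ := ih
      haveI := he
      haveI : IsSeparated E.hom := by rw [← Over.w e]; infer_instance
      let q := equalizer.ι (e ≫ (ρ a).hom) e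
      haveI : IsClosedImmersion q.left := inferInstance
      refine ⟨_, q ≫ e, by rw [Over.comp_left]; infer_instance, fun T t => ⟨?_, ?_⟩⟩
      · rintro ⟨t', rfl⟩ g hg
        rcases Finset.mem_insert.mp hg with rfl | hg
        · rw [Category.assoc, Category.assoc, equalizer.condition]
        · exact (hE T _).mp ⟨t' ≫ q, Category.assoc _ _ _⟩ g hg
      · intro h
        obtain ⟨t₀, ht₀⟩ := (hE T t).mpr fun g hg => h g (Finset.mem_insert_of_mem hg)
        refine ⟨equalizer.lift t₀ ?_, ?_⟩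
        · rw [← Category.assoc, ht₀, h a (Finset.mem_insert_self _ _)]
        · rw [equalizer.lift_ι_assoc, ht₀]
  obtain ⟨E, e, he, hE⟩ := key Finset.univ
  haveI := he
  haveI := mono_ι ρ ι hι hZ
  haveI : Mono e := (Over.forget _).mono_of_mono_map (inferInstanceAs (Mono e.left))
  obtain ⟨a, ha⟩ := (hE Z ι).mpr fun g _ => hι g
  obtain ⟨b, hb, -⟩ := (hZ E e).mp fun g => (hE E e).mp ⟨𝟙 E, Category.id_comp e⟩ g (Finset.mem_univ g)
  let i : Z ≅ E := ⟨a, b, by rw [← cancel_mono ι, Category.assoc, hb, ha, Category.id_comp],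
    by rw [← cancel_mono e, Category.assoc, ha, hb, Category.id_comp]⟩
  rw [← ha, Over.comp_left]
  haveI : IsIso a.left := inferInstanceAs (IsIso ((Over.forget S).mapIso i).hom)
  infer_instance

include hι hZ in
theorem smooth_hom [IsSeparated X.hom] [Smooth X.hom] (hG : IsUnit (Nat.card G : Γ(S, ⊤))) : Smooth Z.hom := by
  haveI := isClosedImmersion_ι ρ ι hι hZ
  rw [HasRingHomProperty.iff_exists_appLE (P := @Smooth)
    (RingHom.Smooth.stableUnderComposition.stableUnderCompositionWithLocalizationAway RingHom.Smooth.holdsForLocalizationAway).1]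
  intro z
  obtain ⟨V, U, hV, hU, hxU, hUV, hstab⟩ := exists_stable ρ (ι.left z) fun g => by
    rw [← Scheme.Hom.comp_apply, ← Over.comp_left, hι]
  let W := ι.left ⁻¹ᵁ U
  have hW : IsAffineOpen W := hU.preimage ι.left
  have hWV : W ≤ Z.hom ⁻¹ᵁ V := by
    rw [← Over.w ι, Scheme.Hom.comp_preimage]
    exact fun y hy => hUV hy
  refine ⟨⟨V, hV⟩, ⟨W, hW⟩, hxU, hWV, ?_⟩
  letI : Algebra Γ(S, V) Γ(X.left, U) := (X.hom.appLE V U hUV).hom.toAlgebra
  letI : Algebra Γ(S, V) Γ(Z.left, W) := (Z.hom.appLE V W hWV).hom.toAlgebra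
  haveI : Algebra.Smooth Γ(S, V) Γ(X.left, U) :=
    (HasRingHomProperty.iff_appLE (P := @Smooth)).mp ‹Smooth X.hom› ⟨V, hV⟩ ⟨U, hU⟩ hUV
  let σ : G → (Γ(X.left, U) →ₐ[Γ(S, V)] Γ(X.left, U)) := fun g =>
    { ((ρ g).hom.left.appLE U U (hstab g)).hom with
      commutes' := fun r => by
        show (X.hom.appLE V U hUV ≫ (ρ g).hom.left.appLE U U (hstab g)) r = X.hom.appLE V U hUV r
        rw [Scheme.Hom.appLE_comp_appLE]
        simp only [Over.w (ρ g).hom] }
  let π : Γ(X.left, U) →ₐ[Γ(S, V)] Γ(Z.left, W) :=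
    { (ι.left.appLE U W le_rfl).hom with
      commutes' := fun r => by
        show (X.hom.appLE V U hUV ≫ ι.left.appLE U W le_rfl) r = Z.hom.appLE V W hWV r
        rw [Scheme.Hom.appLE_comp_appLE]
        simp only [Over.w ι] }
  have hcard : IsUnit (Nat.card G : Γ(S, V)) := by
    have := hG.map (S.presheaf.map (homOfLE (le_top : V ≤ ⊤)).op).hom
    rwa [map_natCast] at this
  refine smooth_of_fixed σ ?_ ?_ hcard π ?_ ?_ ?_
  · intro b
    show (ρ 1).hom.left.appLE U U (hstab 1) b = b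
    have h1 : (ρ 1).hom.left = 𝟙 X.left := by rw [map_one]; rfl
    have h2 : (ρ 1).hom.left.appLE U U (hstab 1) = 𝟙 _ := by
      have aux : ∀ (φ : X.left ⟶ X.left), φ = 𝟙 _ → ∀ e, φ.appLE U U e = 𝟙 _ := by
        intro φ hφ e
        subst hφ
        rw [Scheme.Hom.appLE]
        refine Eq.trans ?_ (X.left.presheaf.map_id (Opposite.op U))
        exact Category.id_comp _
      exact aux _ h1 _
    rw [h2]; rfl
  · intro g h b
    show ((ρ h).hom.left.appLE U U (hstab h) ≫ (ρ g).hom.left.appLE U U (hstab g)) b = _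
    rw [Scheme.Hom.appLE_comp_appLE]
    show _ = (ρ (h * g)).hom.left.appLE U U (hstab (h * g)) b
    simp only [← comp_eq, Over.comp_left]
  · show Function.Surjective (ι.left.appLE U W le_rfl)
    rw [← Scheme.Hom.app_eq_appLE]
    exact ι.left.app_surjective U hU
  · intro g b
    show ((ρ g).hom.left.appLE U U (hstab g) ≫ ι.left.appLE U W le_rfl) b = ι.left.appLE U W le_rfl b
    rw [Scheme.Hom.appLE_comp_appLE]
    simp only [← Over.comp_left, hι]
  · intro T _ _ f hf b hb
    let φ : Γ(X.left, U) ⟶ CommRingCat.of T := CommRingCat.ofHom f.toRingHom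
    let q : Spec (CommRingCat.of T) ⟶ X.left := Spec.map φ ≫ hU.fromSpec
    obtain ⟨t', ht', -⟩ := (hZ (Over.mk (q ≫ X.hom)) (Over.homMk q rfl)).mp fun g => by
      refine Over.OverMorphism.ext ?_
      show q ≫ (ρ g).hom.left = q
      rw [Category.assoc, ← hU.SpecMap_appLE_fromSpec (ρ g).hom.left hU (hstab g), ← Category.assoc,
        ← Spec.map_comp]
      congr 2
      ext c
      exact hf g c
    have hq : t'.left ≫ ι.left = q := congrArg (fun m => CommaMorphism.left m) ht'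
    have hr : Set.range t'.left ⊆ Set.range hW.fromSpec := by
      rw [hW.range_fromSpec]
      rintro _ ⟨p, rfl⟩
      show ι.left (t'.left p) ∈ U
      rw [← Scheme.Hom.comp_apply, hq, ← SetLike.mem_coe, ← hU.range_fromSpec]
      exact ⟨_, (Scheme.Hom.comp_apply _ _ _).symm⟩
    obtain ⟨ψ, hψ⟩ : ∃ ψ, Spec.map ψ = IsOpenImmersion.lift hW.fromSpec t'.left hr := ⟨_, Spec.map_preimage _⟩
    have h : φ = ι.left.appLE U W le_rfl ≫ ψ := by
      apply Spec.map_injective
      rw [← cancel_mono hU.fromSpec, Spec.map_comp, Category.assoc, hU.SpecMap_appLE_fromSpec ι.left hW le_rfl,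
        hψ, IsOpenImmersion.lift_fac_assoc, hq]
    show φ b = 0
    rw [h, CommRingCat.comp_apply, show ι.left.appLE U W le_rfl b = 0 from hb, map_zero]

end Groth.Agent.AlgGrp25.FixedSmooth
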