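import Groth.Agent.FrobIter.Basic
import Groth.Agent.FrobSchLib.Basic
import Groth.Agent.GrpSchLib.KernelGrp
import Groth.Agent.GrpSchLib.AntiAffineHom
import Groth.Agent.GrpSchLib.FieldSmooth
import Groth.Agent.GrpSchLib.Descent
import Groth.Agent.GrpSchLib.Cartier
import Groth.Agent.SGAQuot20.Normal
import Groth.Agent.SrcDescent.SchemeFppf
import Mathlib.AlgebraicGeometry.ZariskisMainTheorem
import Mathlib.RingTheory.RingHom.FaithfullyFlat

/-! The quotient of a group by a large enough Frobenius kernel is smooth. -/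

universe u

open CategoryTheory Limits AlgebraicGeometry MonoidalCategory CartesianMonoidalCategory MonObj GrpObj

set_option linter.style.haveILetI false

namespace Groth.Agent.AlgGrp25.FrobQuot

section General

variable (p : ℕ) [Fact p.Prime]

theorem isIntegralHom_iter (X : Scheme.{u}) [FrobSch.IsCharP X p] (N : ℕ) : IsIntegralHom (FrobIter.iter p X N) := by
  induction N with
  | zero => exact inferInstanceAs (IsIntegralHom (𝟙 X))
  | succ N ih =>
    haveI := ih
    haveI := FrobSchLib.isIntegralHom_frob p X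
    exact inferInstanceAs (IsIntegralHom (FrobIter.iter p X N ≫ FrobSch.frob X p))

theorem iter_germ {X : Scheme.{u}} [FrobSch.IsCharP X p] (N : ℕ) :
    ∀ (U : X.Opens) (x : X) (hx : x ∈ U) (hx' : x ∈ FrobIter.iter p X N ⁻¹ᵁ U) (s : Γ(X, U)),
      X.presheaf.germ (FrobIter.iter p X N ⁻¹ᵁ U) x hx' ((FrobIter.iter p X N).app U s) =
        (X.presheaf.germ U x hx s) ^ p ^ N := by
  induction N with
  | zero =>
    intro U x hx hx' s
    rw [pow_zero, pow_one]
    rfl
  | succ N ih =>
    intro U x hx hx' s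
    have h : (FrobIter.iter p X (N + 1)).app U = (FrobSch.frob X p).app U ≫
        (FrobIter.iter p X N).app (FrobSch.frob X p ⁻¹ᵁ U) := Scheme.Hom.comp_app _ _ _
    calc X.presheaf.germ _ x hx' ((FrobIter.iter p X (N + 1)).app U s)
        = X.presheaf.germ (FrobIter.iter p X N ⁻¹ᵁ U) x hx' ((FrobIter.iter p X N).app U (s ^ p)) := by
          rw [h]; rfl
      _ = (X.presheaf.germ U x hx (s ^ p)) ^ p ^ N := ih U x hx hx' (s ^ p)
      _ = (X.presheaf.germ U x hx s) ^ p ^ (N + 1) := by rw [map_pow, ← pow_mul, ← pow_succ']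

/-- If an iterate of Frobenius factors through a flat map followed by a closed immersion, the middle scheme is
reduced at the image of a point where the iterate kills the nilradical. -/
theorem isReduced_stalk_of_factor {X Y : Scheme.{u}} [FrobSch.IsCharP X p] (N : ℕ) (v : X ⟶ Y) (b : Y ⟶ X)
    [Flat v] [IsPreimmersion b] (hvb : v ≫ b = FrobIter.iter p X N) (x : X)
    (hN : ∀ g : X.presheaf.stalk x, IsNilpotent g → g ^ p ^ N = 0) :
    _root_.IsReduced (Y.presheaf.stalk (v x)) := by
  refine ⟨fun c hc => ?_⟩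
  letI : Algebra (Y.presheaf.stalk (v x)) (X.presheaf.stalk x) := (v.stalkMap x).hom.toAlgebra
  haveI : Module.Flat (Y.presheaf.stalk (v x)) (X.presheaf.stalk x) := Flat.stalkMap v x
  haveI : IsLocalHom (algebraMap (Y.presheaf.stalk (v x)) (X.presheaf.stalk x)) := v.toLRSHom.prop x
  haveI : Module.FaithfullyFlat (Y.presheaf.stalk (v x)) (X.presheaf.stalk x) :=
    Module.FaithfullyFlat.of_flat_of_isLocalHom
  have hinj : Function.Injective (v.stalkMap x) :=
    FaithfulSMul.algebraMap_injective (Y.presheaf.stalk (v x)) (X.presheaf.stalk x)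
  obtain ⟨a, rfl⟩ := b.stalkMap_surjective (v x) c
  obtain ⟨U, hU, s, rfl⟩ := X.presheaf.exists_germ_eq (x := b (v x)) a
  have hbx : b (v x) = x := by rw [← Scheme.Hom.comp_apply, hvb]; exact FrobIter.iter_apply N x
  have hxU : x ∈ U := hbx ▸ hU
  have key : v.stalkMap x (b.stalkMap (v x) (X.presheaf.germ U (b (v x)) hU s)) =
      (X.presheaf.germ U x hxU s) ^ p ^ N := by
    have aux : ∀ (φ : X ⟶ X), φ = FrobIter.iter p X N → ∀ (h : φ x ∈ U),
        φ.stalkMap x (X.presheaf.germ U (φ x) h s) = (X.presheaf.germ U x hxU s) ^ p ^ N := by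
      intro φ hφ h
      subst hφ
      refine (Scheme.Hom.germ_stalkMap_apply _ U x h s).trans ?_
      exact iter_germ p N U x hxU h s
    rw [← aux (v ≫ b) hvb hU, Scheme.Hom.stalkMap_comp]
    rfl
  apply hinj
  rw [map_zero, key]
  have hn := hc.map (v.stalkMap x).hom
  rw [show (v.stalkMap x).hom (b.stalkMap (v x) (X.presheaf.germ U (b (v x)) hU s)) =
    (X.presheaf.germ U x hxU s) ^ p ^ N from key] at hn
  exact hN _ (IsNilpotent.of_pow hn)

/-- Twisting by `Φ` and base change along `σ` are related by an isomorphism when `ΦT` is one. -/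
theorem exists_twist_iso {X S T : Scheme.{u}} (f : X ⟶ S) (σ : T ⟶ S) (Φ : S ⟶ S) (ΦT : T ⟶ T) [IsIso ΦT]
    (hΦ : ΦT ≫ σ = σ ≫ Φ) :
    ∃ t : pullback (pullback.snd f Φ) σ ⟶ pullback f σ, IsIso t ∧
      t ≫ pullback.fst f σ = pullback.fst (pullback.snd f Φ) σ ≫ pullback.fst f Φ ∧
      t ≫ pullback.snd f σ = pullback.snd (pullback.snd f Φ) σ ≫ ΦT := by
  have hσ : inv ΦT ≫ σ ≫ Φ = σ := by rw [← hΦ, IsIso.inv_hom_id_assoc]
  let t : pullback (pullback.snd f Φ) σ ⟶ pullback f σ :=
    pullback.lift (pullback.fst (pullback.snd f Φ) σ ≫ pullback.fst f Φ)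
      (pullback.snd (pullback.snd f Φ) σ ≫ ΦT) (by
      rw [Category.assoc, Category.assoc, pullback.condition, hΦ, pullback.condition_assoc])
  let t' : pullback f σ ⟶ pullback (pullback.snd f Φ) σ :=
    pullback.lift (pullback.lift (pullback.fst f σ) (pullback.snd f σ ≫ inv ΦT ≫ σ) (by
        rw [Category.assoc, Category.assoc, hσ, pullback.condition]))
      (pullback.snd f σ ≫ inv ΦT) (by rw [pullback.lift_snd, Category.assoc])
  have a1 : t ≫ pullback.fst f σ = pullback.fst _ σ ≫ pullback.fst f Φ := pullback.lift_fst _ _ _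
  have a2 : t ≫ pullback.snd f σ = pullback.snd _ σ ≫ ΦT := pullback.lift_snd _ _ _
  have b1 : t' ≫ pullback.fst _ σ ≫ pullback.fst f Φ = pullback.fst f σ := by
    rw [← Category.assoc, pullback.lift_fst, pullback.lift_fst]
  have b2 : t' ≫ pullback.fst _ σ ≫ pullback.snd f Φ = pullback.snd f σ ≫ inv ΦT ≫ σ := by
    rw [← Category.assoc, pullback.lift_fst, pullback.lift_snd]
  have b3 : t' ≫ pullback.snd _ σ = pullback.snd f σ ≫ inv ΦT := pullback.lift_snd _ _ _
  refine ⟨t, ⟨t', ?_, ?_⟩, a1, a2⟩
  · refine pullback.hom_ext (pullback.hom_ext ?_ ?_) ?_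
    · rw [Category.assoc, Category.assoc, b1, a1, Category.id_comp]
    · rw [Category.assoc, Category.assoc, b2, reassoc_of% a2, IsIso.hom_inv_id_assoc, Category.id_comp]
      exact pullback.condition.symm
    · rw [Category.assoc, b3, reassoc_of% a2, IsIso.hom_inv_id, Category.comp_id, Category.id_comp]
  · refine pullback.hom_ext ?_ ?_
    · rw [Category.assoc, a1, b1, Category.id_comp]
    · rw [Category.assoc, a2, reassoc_of% b3, IsIso.inv_hom_id, Category.comp_id, Category.id_comp]

end General

variable {p : ℕ} [Fact p.Prime] {k : Type u} [Field k] [CharP k p]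

instance isCharP_over (X : Over (Spec (CommRingCat.of k))) : FrobSch.IsCharP X.left p := FrobSch.IsCharP.of_hom X.hom p

/-- Twist by an iterate of Frobenius. -/
noncomputable abbrev P (p : ℕ) [Fact p.Prime] [CharP k p] (m : ℕ) :
    Over (Spec (CommRingCat.of k)) ⥤ Over (Spec (CommRingCat.of k)) :=
  Over.pullback (FrobIter.iter p (Spec (CommRingCat.of k)) m)

/-- The iterated relative Frobenius. -/
noncomputable def F (m : ℕ) (X : Over (Spec (CommRingCat.of k))) : X ⟶ (P p m).obj X :=
  Over.homMk (pullback.lift (FrobIter.iter p X.left m) X.hom (FrobIter.iter_comp X.hom m)) (pullback.lift_snd _ _ _)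

theorem F_fst (m : ℕ) (X : Over (Spec (CommRingCat.of k))) :
    (F (p := p) m X).left ≫ pullback.fst X.hom _ = FrobIter.iter p X.left m :=
  pullback.lift_fst _ _ _

theorem F_natural (m : ℕ) {X Y : Over (Spec (CommRingCat.of k))} (f : X ⟶ Y) :
    f ≫ F (p := p) m Y = F (p := p) m X ≫ (P p m).map f := by
  refine Over.OverMorphism.ext (pullback.hom_ext ?_ ?_)
  · simp only [Over.comp_left, F, Over.homMk_left, Category.assoc, pullback.lift_fst, Over.pullback_map_left,
      pullback.lift_fst_assoc]
    exact (FrobIter.iter_comp f.left m).symm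
  · simp only [Over.comp_left, F, Over.homMk_left, Category.assoc, pullback.lift_snd, Over.pullback_map_left,
      Over.w]

instance isMonHom_F (m : ℕ) (G : Over (Spec (CommRingCat.of k))) [GrpObj G] : IsMonHom (F (p := p) m G) where
  one_hom := by
    have h : η[G] = 1 := MonObj.one_eq_one G
    rw [F_natural, h, Functor.map_one, MonObj.comp_one, MonObj.one_eq_one]
  mul_hom := by
    have hμ : μ[G] = fst G G * snd G G := by rw [Hom.mul_def, lift_fst_snd, Category.id_comp]
    rw [F_natural, hμ, Functor.map_mul, MonObj.comp_mul, ← F_natural, ← F_natural, Hom.mul_def]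
    congr 1

theorem isFinite_F (m : ℕ) (G : Over (Spec (CommRingCat.of k))) [LocallyOfFiniteType G.hom] :
    IsFinite (F (p := p) m G).left := by
  haveI := isIntegralHom_iter p G.left m
  haveI : IsIntegralHom ((F (p := p) m G).left ≫ pullback.fst G.hom _) := by rw [F_fst]; infer_instance
  haveI : IsAffineHom (FrobIter.iter p (Spec (CommRingCat.of k)) m) := isAffineHom_of_isAffine _
  haveI : IsIntegralHom (F (p := p) m G).left :=
    IsIntegralHom.of_comp (F (p := p) m G).left (pullback.fst G.hom _)
  haveI : LocallyOfFiniteType ((F (p := p) m G).left ≫ ((P p m).obj G).hom) := by rw [Over.w]; infer_instance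
  haveI : LocallyOfFiniteType (F (p := p) m G).left := locallyOfFiniteType_of_comp _ ((P p m).obj G).hom
  exact (IsFinite.iff_isIntegralHom_and_locallyOfFiniteType _).mpr ⟨inferInstance, inferInstance⟩

theorem F_injective (m : ℕ) (G : Over (Spec (CommRingCat.of k))) : Function.Injective (F (p := p) m G).left := by
  intro a b h
  have h' := congrArg (pullback.fst G.hom (FrobIter.iter p (Spec (CommRingCat.of k)) m)) h
  rwa [← Scheme.Hom.comp_apply, ← Scheme.Hom.comp_apply, F_fst, FrobIter.iter_apply, FrobIter.iter_apply] at h'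

theorem exists_finite_kernel_smooth_quotient_charP {k : Type u} [Field k] (p : ℕ) [Fact p.Prime] [CharP k p]
    (G : Over (Spec (CommRingCat.of k))) [GrpObj G]
    [LocallyOfFiniteType G.hom] :
    ∃ (H Q : Over (Spec (CommRingCat.of k))) (_ : GrpObj H) (_ : GrpObj Q) (i : H ⟶ G) (v : G ⟶ Q),
      IsMonHom i ∧ IsMonHom v ∧ IsFinite H.hom ∧ ConnectedSpace H.left ∧ Smooth Q.hom ∧ IsClosedImmersion i.left ∧
      AlgGrp.IsKernel i v ∧ Flat v.left ∧ Surjective v.left ∧ LocallyOfFinitePresentation v.left := by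
  let K := AlgebraicClosure k
  haveI : CharP K p := charP_of_injective_algebraMap (algebraMap k K).injective p
  let σ : Spec (CommRingCat.of K) ⟶ Spec (CommRingCat.of k) := Spec.map (CommRingCat.ofHom (algebraMap k K))
  let GK := GrpSchLib.bc G (algebraMap k K)
  haveI : LocallyOfFiniteType GK.hom := inferInstanceAs (LocallyOfFiniteType (pullback.snd G.hom σ))
  let e := η[GK].left (IsLocalRing.closedPoint K)
  haveI : IsLocallyNoetherian GK.left := LocallyOfFiniteType.isLocallyNoetherian GK.hom
  haveI : IsNoetherianRing (GK.left.presheaf.stalk e) := inferInstance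
  obtain ⟨m, hm⟩ := IsNoetherianRing.isNilpotent_nilradical (GK.left.presheaf.stalk e)
  have hbound : ∀ g : GK.left.presheaf.stalk e, IsNilpotent g → g ^ p ^ m = 0 := fun g hg => by
    refine pow_eq_zero_of_le (Nat.lt_pow_self (Fact.out : p.Prime).one_lt).le ?_
    have := Ideal.pow_mem_pow (mem_nilradical.mpr hg) m
    rwa [hm, Ideal.zero_eq_bot, Ideal.mem_bot] at this
  haveI := GrpSchLib.AntiAffine.isSeparated_grp G
  haveI : IsSeparated ((P p m).obj G).hom := inferInstanceAs (IsSeparated (pullback.snd G.hom _))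
  obtain ⟨H, _, i, hi, hic, hin, hik⟩ := GrpSchLib.exists_kernel (F (p := p) m G)
  haveI := hi; haveI := hic
  have hsq := hik.map (Over.forget _)
  haveI : IsFinite H.hom := by
    have h : IsFinite (toUnit H).left :=
      MorphismProperty.of_isPullback (P := @IsFinite) hsq (isFinite_F m G)
    rwa [Over.toUnit_left] at h
  haveI : Subsingleton H.left := ⟨fun a b => by
    refine i.left.isEmbedding.injective (F_injective (p := p) m G ?_)
    rw [← Scheme.Hom.comp_apply, ← Scheme.Hom.comp_apply, ← Over.comp_left, hik.w, Over.comp_left,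
      Scheme.Hom.comp_apply, Scheme.Hom.comp_apply]
    exact congrArg _ (Subsingleton.elim (α := ↥(Spec (CommRingCat.of k))) _ _)⟩
  haveI : ConnectedSpace H.left :=
    { toPreconnectedSpace := ⟨Set.subsingleton_univ.isPreconnected⟩
      toNonempty := ⟨η[H].left (IsLocalRing.closedPoint k)⟩ }
  haveI : Mono i := (Over.forget _).mono_of_mono_map (inferInstanceAs (Mono i.left))
  haveI : LocallyOfFiniteType H.hom := inferInstance
  obtain ⟨Q, _, v, hv, hvs, hvf, hvp, hvk, -, hQsep, hQl, -, -, -⟩ := SGAQuot20.exists_quotient_normal i hin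
  haveI := hv; haveI := hvs; haveI := hvf; haveI := hvp; haveI := hQsep; haveI := hQl
  -- Frobenius descends to the quotient
  have hdesc : ∀ {Z : Scheme.{u}} (g₁ g₂ : Z ⟶ G.left), g₁ ≫ v.left = g₂ ≫ v.left →
      g₁ ≫ (F (p := p) m G).left = g₂ ≫ (F (p := p) m G).left := by
    intro Z g₁ g₂ h
    let T : Over (Spec (CommRingCat.of k)) := Over.mk (g₁ ≫ G.hom)
    let a₁ : T ⟶ G := Over.homMk g₁ rfl
    let a₂ : T ⟶ G := Over.homMk g₂ (by
      show g₂ ≫ G.hom = g₁ ≫ G.hom
      rw [← Over.w v, ← Category.assoc, ← h, Category.assoc])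
    have e' : a₁ ≫ v = a₂ ≫ v := Over.OverMorphism.ext h
    have hker : (a₁⁻¹ * a₂) ≫ v = toUnit T ≫ η[Q] := by
      rw [MonObj.mul_comp, GrpObj.inv_comp, e', inv_mul_cancel]
      rfl
    have h1 : (a₁⁻¹ * a₂) ≫ F (p := p) m G = toUnit T ≫ η[(P p m).obj G] := by
      rw [← hvk.lift_fst _ _ hker, Category.assoc, hik.w, ← Category.assoc, comp_toUnit]
    rw [MonObj.mul_comp, GrpObj.inv_comp] at h1
    exact congrArg CommaMorphism.left (inv_mul_eq_one.mp h1 : a₁ ≫ F (p := p) m G = a₂ ≫ F (p := p) m G)
  let l := EffectiveEpi.desc v.left (F (p := p) m G).left (fun {Z} g₁ g₂ h => hdesc g₁ g₂ h)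
  have hl : v.left ≫ l = (F (p := p) m G).left := EffectiveEpi.fac _ _ _
  let w : Q ⟶ (P p m).obj G := Over.homMk l (by
    rw [← cancel_epi v.left, reassoc_of% hl, Over.w (F (p := p) m G), Over.w v])
  have hvw : v ≫ w = F (p := p) m G := Over.OverMorphism.ext hl
  have hvinj : Function.Injective v.left := fun a b h => F_injective (p := p) m G (by
    rw [← hl, Scheme.Hom.comp_apply, Scheme.Hom.comp_apply, h])
  haveI : QuasiCompact v.left := by
    haveI := UniversallyOpen.of_flat v.left
    have ho : IsOpenMap v.left := v.left.isOpenMap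
    have hh : IsHomeomorph v.left := ⟨v.left.continuous, ho, hvinj, v.left.surjective⟩
    exact ⟨fun U _ hU => (hh.homeomorph.isCompact_preimage).mpr hU⟩
  have hcov : GrpSchLib.IsCover v := ⟨hvf, hvs, inferInstance⟩
  haveI : Mono w := by
    constructor
    intro T a b hab
    obtain ⟨T', c, ya, hc, hya⟩ := hcov.exists_pullback a
    obtain ⟨T'', d, yb, hd, hyb⟩ := hcov.exists_pullback (c ≫ b)
    have h1 : ((d ≫ ya)⁻¹ * yb) ≫ F (p := p) m G = toUnit T'' ≫ η[(P p m).obj G] := by
      rw [MonObj.mul_comp, GrpObj.inv_comp, ← hvw, Category.assoc, reassoc_of% hya.symm, ← reassoc_of% hyb,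
        hab, inv_mul_cancel]
      rfl
    have h2 : ((d ≫ ya)⁻¹ * yb) ≫ v = 1 := by
      rw [← hik.lift_fst _ _ h1, Category.assoc, hvk.w, ← Category.assoc, comp_toUnit]
      rfl
    rw [MonObj.mul_comp, GrpObj.inv_comp, inv_mul_eq_one, Category.assoc, ← hya, ← hyb] at h2
    haveI := (hd.comp hc).epi
    rw [← cancel_epi (d ≫ c), Category.assoc, Category.assoc]
    exact h2
  -- over the algebraic closure
  let B := Over.pullback σ
  let Φ := FrobIter.iter p (Spec (CommRingCat.of k)) m
  let ΦK := FrobIter.iter p (Spec (CommRingCat.of K)) m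
  have hΦ : ΦK ≫ σ = σ ≫ Φ := FrobIter.iter_comp σ m
  haveI : IsIso ΦK := by
    show IsIso (FrobIter.iter p (Spec (CommRingCat.of K)) m)
    rw [FrobIter.iter_Spec]
    haveI : PerfectRing K p := PerfectField.toPerfectRing p
    haveI : IsIso (CommRingCat.ofHom (iterateFrobenius K p m)) :=
      (ConcreteCategory.isIso_iff_bijective _).mpr (bijective_iterateFrobenius K p m)
    infer_instance
  obtain ⟨t, ht, ht1, ht2⟩ : ∃ t : (B.obj ((P p m).obj G)).left ⟶ GK.left, IsIso t ∧
      t ≫ pullback.fst G.hom σ = pullback.fst (pullback.snd G.hom Φ) σ ≫ pullback.fst G.hom Φ ∧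
      t ≫ pullback.snd G.hom σ = pullback.snd (pullback.snd G.hom Φ) σ ≫ ΦK :=
    exists_twist_iso G.hom σ Φ ΦK hΦ
  haveI := ht
  haveI : Mono (B.map w) := inferInstance
  haveI : Mono (B.map w).left := inferInstance
  let b : (B.obj Q).left ⟶ GK.left := (B.map w).left ≫ t
  have hvb : (B.map v).left ≫ b = FrobIter.iter p GK.left m := by
    show (B.map v).left ≫ (B.map w).left ≫ t = _
    rw [← Category.assoc, ← Over.comp_left, ← Functor.map_comp, hvw]
    haveI : FrobSch.IsCharP (pullback G.hom σ) p := FrobSch.IsCharP.of_hom (pullback.snd G.hom σ) p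
    refine pullback.hom_ext ?_ ?_
    · refine (Category.assoc _ _ _).trans ?_
      rw [ht1]
      refine (pullback.lift_fst_assoc _ _ _ _).trans ?_
      rw [Category.assoc, F_fst]
      exact (FrobIter.iter_comp (pullback.fst G.hom σ) m).symm
    · refine (Category.assoc _ _ _).trans ?_
      rw [ht2]
      refine (pullback.lift_snd_assoc _ _ _ _).trans ?_
      exact (FrobIter.iter_comp (pullback.snd G.hom σ) m).symm
  haveI : Flat (B.map v).left :=
    MorphismProperty.overPullbackMap (P := @Flat) _ v hvf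
  haveI : Surjective (B.map v).left :=
    MorphismProperty.overPullbackMap (P := @Surjective) _ v hvs
  haveI : LocallyOfFiniteType (B.obj Q).hom := inferInstanceAs (LocallyOfFiniteType (pullback.snd Q.hom σ))
  haveI : UniversallyClosed ((B.map v).left ≫ b) := by
    rw [hvb]
    haveI := isIntegralHom_iter p GK.left m
    infer_instance
  haveI : UniversallyClosed b := UniversallyClosed.of_comp_surjective (B.map v).left b
  haveI : LocallyOfFiniteType b := by
    haveI : LocallyOfFiniteType ((B.map w).left ≫ (B.obj ((P p m).obj G)).hom) := by rw [Over.w]; infer_instance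
    haveI : LocallyOfFiniteType (B.map w).left := locallyOfFiniteType_of_comp _ (B.obj ((P p m).obj G)).hom
    infer_instance
  haveI : Mono b := inferInstance
  haveI : IsSeparated b := inferInstance
  haveI : IsClosedImmersion b := (IsClosedImmersion.iff_isProper_and_mono b).mpr ⟨{}, inferInstance⟩
  haveI : Smooth Q.hom := by
    refine GrpSchLib.smooth_of_isReduced_stalk_one_bc ?_
    haveI : IsMonHom (B.map v) := (B.mapGrp.map (Grp.ofHom v)).hom.isMonHom_hom
    have hev : (B.map v).left e = η[GrpSchLib.bc Q (algebraMap k K)].left (IsLocalRing.closedPoint K) := by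
      show (B.map v).left (η[GK].left _) = _
      erw [← Scheme.Hom.comp_apply, ← Over.comp_left, IsMonHom.one_hom (B.map v)]
    rw [← hev]
    exact isReduced_stalk_of_factor p m (B.map v).left b hvb e hbound
  exact ⟨H, Q, inferInstance, inferInstance, i, v, hi, hv, inferInstance, inferInstance, inferInstance, hic, hvk,
    hvf, hvs, hvp⟩

/-- A group locally of finite type over a field is an extension of a smooth group by a finite connected one. -/
theorem exists_finite_kernel_smooth_quotient {k : Type u} [Field k] (G : Over (Spec (CommRingCat.of k))) [GrpObj G]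
    [LocallyOfFiniteType G.hom] :
    ∃ (H Q : Over (Spec (CommRingCat.of k))) (_ : GrpObj H) (_ : GrpObj Q) (i : H ⟶ G) (v : G ⟶ Q),
      IsMonHom i ∧ IsMonHom v ∧ IsFinite H.hom ∧ ConnectedSpace H.left ∧ Smooth Q.hom ∧ IsClosedImmersion i.left ∧
      AlgGrp.IsKernel i v ∧ Flat v.left ∧ Surjective v.left ∧ LocallyOfFinitePresentation v.left := by
  obtain ⟨p, hp⟩ := CharP.exists k
  rcases CharP.char_is_prime_or_zero k p with hprime | rfl
  · haveI : Fact p.Prime := ⟨hprime⟩
    exact exists_finite_kernel_smooth_quotient_charP p G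
  · haveI : CharZero k := CharP.charP_to_charZero k
    haveI := GrpSchLib.smooth_of_charZero G
    haveI := GrpSchLib.AntiAffine.isSeparated_grp G
    haveI : IsClosedImmersion η[G].left := inferInstance
    refine ⟨𝟙_ _, G, inferInstance, inferInstance, η[G], 𝟙 G, inferInstance, inferInstance, ?_, ?_, inferInstance,
      inferInstance, ?_, ?_, ?_, ?_⟩
    · exact inferInstanceAs (IsFinite (𝟙 (Spec (CommRingCat.of k))))
    · exact inferInstanceAs (ConnectedSpace (Spec (CommRingCat.of k)))
    · show IsPullback η[G] (toUnit (𝟙_ _)) (𝟙 G) η[G]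
      rw [toUnit_unique (toUnit (𝟙_ _)) (𝟙 _)]
      exact IsPullback.of_vert_isIso ⟨by simp⟩
    · exact inferInstanceAs (Flat (𝟙 G.left))
    · exact inferInstanceAs (Surjective (𝟙 G.left))
    · exact inferInstanceAs (LocallyOfFinitePresentation (𝟙 G.left))

end Groth.Agent.AlgGrp25.FrobQuot
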