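import Groth.Agent.GrpSchLib.MonoSubgroup
import Groth.Agent.GrpdField29.ClosureSub
import Groth.Agent.H23.MaxAbelian
import Groth.Agent.H23.RedSub
import Groth.Agent.GrpSchLib.AntiAffineHom
import Groth.Agent.FpqcDescLib.Group
import Groth.Agent.VarDim.Fibre
import Groth.Agent.AssLib.FlatField
import Mathlib.AlgebraicGeometry.Morphisms.SchemeTheoreticallyDominant

/-! The closed subgroup generated by a complete variety in a commutative group. -/

universe u

open CategoryTheory Limits AlgebraicGeometry MonoidalCategory CartesianMonoidalCategory MonObj GrpObj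

set_option linter.style.haveILetI false
set_option backward.isDefEq.respectTransparency false
set_option backward.isDefEq.respectTransparency.types false

namespace Groth.Agent.AlgGrp25.GenSub

variable {k : Type u} [Field k]

/-- A morphism from a proper geometrically integral scheme whose image is symmetric and contains the image of `Z`
under the trivial map. -/
def Good {G : Over (Spec (CommRingCat.of k))} [GrpObj G] (Z : Over (Spec (CommRingCat.of k)))
    {P : Over (Spec (CommRingCat.of k))} (f : P ⟶ G) : Prop :=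
  IsProper P.hom ∧ GeometricallyIntegral P.hom ∧ (∃ σ : P ⟶ P, σ ≫ f = f⁻¹) ∧ ∃ δ : Z ⟶ P, δ ≫ f = 1

variable {G Z : Over (Spec (CommRingCat.of k))} [GrpObj G] [IsCommMonObj G]

theorem good_diff [IsProper Z.hom] [GeometricallyIntegral Z.hom] (z : Z ⟶ G) :
    Good Z ((fst Z Z ≫ z) * (snd Z Z ≫ z)⁻¹) := by
  refine ⟨?_, H23.MaxAbelian.geometricallyIntegral_tensor Z Z, ⟨lift (snd Z Z) (fst Z Z), ?_⟩,
    ⟨lift (𝟙 Z) (𝟙 Z), ?_⟩⟩
  · exact inferInstanceAs (IsProper (pullback.fst Z.hom Z.hom ≫ Z.hom))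
  · rw [MonObj.comp_mul, GrpObj.comp_inv, lift_fst_assoc, lift_snd_assoc, _root_.mul_inv_rev, _root_.inv_inv]
  · rw [MonObj.comp_mul, GrpObj.comp_inv, lift_fst_assoc, lift_snd_assoc, mul_inv_cancel]

/-- One doubling step. -/
theorem good_step {P : Over (Spec (CommRingCat.of k))} {f : P ⟶ G} (h : Good Z f) :
    Good Z ((fst P P ≫ f) * (snd P P ≫ f)) := by
  obtain ⟨hP, hg, ⟨σ, hσ⟩, ⟨δ, hδ⟩⟩ := h
  haveI := hP; haveI := hg
  refine ⟨?_, H23.MaxAbelian.geometricallyIntegral_tensor P P, ⟨σ ⊗ₘ σ, ?_⟩, ⟨lift δ δ, ?_⟩⟩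
  · exact inferInstanceAs (IsProper (pullback.fst P.hom P.hom ≫ P.hom))
  · rw [MonObj.comp_mul, tensorHom_fst_assoc, tensorHom_snd_assoc, hσ, GrpObj.comp_inv, GrpObj.comp_inv, _root_.mul_inv]
  · rw [MonObj.comp_mul, lift_fst_assoc, lift_snd_assoc, hδ, _root_.one_mul]

variable [LocallyOfFiniteType G.hom] [QuasiCompact G.hom]

/-- The subgroup generated by the differences of a complete variety. -/
theorem exists_subgroup [IsProper Z.hom] [GeometricallyIntegral Z.hom] (z : Z ⟶ G) :
    ∃ (B : Over (Spec (CommRingCat.of k))) (_ : GrpObj B) (b : B ⟶ G), IsMonHom b ∧ IsClosedImmersion b.left ∧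
      IsProper B.hom ∧ IsIntegral B.left ∧
      ∃ d : Z ⊗ Z ⟶ B, d ≫ b = (fst Z Z ≫ z) * (snd Z Z ≫ z)⁻¹ := by
  classical
  haveI : IsSeparated G.hom := GrpSchLib.AntiAffine.isSeparated_grp G
  haveI : CompactSpace G.left := QuasiCompact.compactSpace_of_compactSpace G.hom
  haveI : Nonempty G.left := ⟨η[G].left (IsLocalRing.closedPoint k)⟩
  obtain ⟨g₀, -, hN, -⟩ := VarDim.exists_deg_eq_topologicalKrullDim (p := G.hom)
  let D : Z ⊗ Z ⟶ G := (fst Z Z ≫ z) * (snd Z Z ≫ z)⁻¹
  let R : Set G.left := Set.range D.left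
  let S : Set ℕ := {m | ∃ (P : Over (Spec (CommRingCat.of k))) (f : P ⟶ G), Good Z f ∧ R ⊆ Set.range f.left ∧
    ∃ gp : P.left, (∀ y, gp ⤳ y) ∧ m = VarDim.deg G.hom (f.left gp)}
  have hgen : ∀ {P : Over (Spec (CommRingCat.of k))} (f : P ⟶ G), Good Z f → ∃ gp : P.left, ∀ y, gp ⤳ y := by
    intro P f h
    haveI := h.2.1
    haveI : IsIntegral P.left := GeometricallyIntegral.isIntegral_of_subsingleton P.hom
    exact ⟨genericPoint P.left, genericPoint_specializes⟩
  have hS : S.Nonempty := by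
    obtain ⟨gp, hgp⟩ := hgen D (good_diff z)
    exact ⟨_, _, D, good_diff z, subset_rfl, gp, hgp, rfl⟩
  have hSfin : S.Finite := (Set.finite_Iic (VarDim.deg G.hom g₀)).subset (by
    rintro _ ⟨P, f, -, -, gp, -, rfl⟩
    exact hN _)
  obtain ⟨_, ⟨P, f, hf, hR, gp, hgp, rfl⟩, hmax⟩ := hSfin.exists_maximal hS
  obtain ⟨hP, hPg, ⟨σ, hσ⟩, ⟨δ, hδ⟩⟩ := id hf
  haveI := hP; haveI := hPg
  haveI : IsIntegral P.left := GeometricallyIntegral.isIntegral_of_subsingleton P.hom
  haveI : IsProper f.left := by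
    haveI : IsProper (f.left ≫ G.hom) := by rw [Over.w]; exact hP
    exact IsProper.of_comp f.left G.hom
  let W : Set G.left := Set.range f.left
  have hW : IsClosed W := f.left.isClosedMap.isClosed_range
  let f' : P ⊗ P ⟶ G := (fst P P ≫ f) * (snd P P ≫ f)
  have hf' : Good Z f' := good_step hf
  obtain ⟨hPP, hPPg, -, -⟩ := id hf'
  haveI := hPP; haveI := hPPg
  haveI : IsIntegral (P ⊗ P).left := GeometricallyIntegral.isIntegral_of_subsingleton (P ⊗ P).hom
  haveI : IsProper f'.left := by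
    haveI : IsProper (f'.left ≫ G.hom) := by rw [Over.w]; exact hPP
    exact IsProper.of_comp f'.left G.hom
  have hsub : W ⊆ Set.range f'.left := by
    have ht : (P ◁ δ) ≫ f' = fst P Z ≫ f := by
      simp only [f', MonObj.comp_mul, whiskerLeft_fst_assoc, whiskerLeft_snd_assoc, hδ, MonObj.comp_one,
        _root_.mul_one]
    rintro _ ⟨y, rfl⟩
    haveI : Surjective (fst P Z).left := inferInstanceAs (Surjective (pullback.fst P.hom Z.hom))
    obtain ⟨w, rfl⟩ := (fst P Z).left.surjective y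
    exact ⟨(P ◁ δ).left w, by
      rw [← Scheme.Hom.comp_apply, ← Over.comp_left, ht, Over.comp_left, Scheme.Hom.comp_apply]⟩
  obtain ⟨gq, hgq⟩ := hgen f' hf'
  have hle : VarDim.deg G.hom (f'.left gq) ≤ VarDim.deg G.hom (f.left gp) := by
    have hmem : VarDim.deg G.hom (f'.left gq) ∈ S := ⟨_, f', hf', hR.trans hsub, gq, hgq, rfl⟩
    exact (le_total _ _).elim id fun h => hmax hmem h
  have hWW : Set.range f'.left ⊆ W := by
    obtain ⟨y, hy⟩ := hsub ⟨gp, rfl⟩
    have hsp : f'.left gq ⤳ f.left gp := hy ▸ (hgq y).map f'.left.continuous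
    have heq : f'.left gq = f.left gp := VarDim.eq_of_specializes_of_deg_le G.hom hsp hle
    rintro _ ⟨w, rfl⟩
    exact ((heq ▸ (hgq w).map f'.left.continuous : f.left gp ⤳ f'.left w)).mem_closed hW ⟨gp, rfl⟩
  let I := Scheme.IdealSheafData.vanishingIdeal (⟨W, hW⟩ : TopologicalSpace.Closeds G.left)
  haveI : IsReduced I.subscheme := H23.RedSub.isReduced_vanishingIdeal _
  let B : Over (Spec (CommRingCat.of k)) := Over.mk (I.subschemeι ≫ G.hom)
  let b : B ⟶ G := Over.homMk I.subschemeι rfl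
  haveI hbc : IsClosedImmersion b.left := inferInstanceAs (IsClosedImmersion I.subschemeι)
  haveI : Mono b := (Over.forget _).mono_of_mono_map (inferInstanceAs (Mono b.left))
  have hrange : Set.range b.left = W := by
    show Set.range I.subschemeι = W
    rw [Scheme.IdealSheafData.range_subschemeι, Scheme.IdealSheafData.coe_support_vanishingIdeal]
    rfl
  have hfac : ∀ {T : Over (Spec (CommRingCat.of k))} [IsReduced T.left] (a : T ⟶ G),
      Set.range a.left ⊆ W → ∃ l : T ⟶ B, l ≫ b = a := by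
    intro T _ a ha
    obtain ⟨l, hl⟩ := GrpdField29.exists_lift_of_reduced a.left b.left (fun t => hrange.ge (ha ⟨t, rfl⟩))
    exact ⟨Over.homMk l (by
      show l ≫ b.left ≫ G.hom = T.hom
      rw [← Category.assoc, hl, Over.w]), Over.OverMorphism.ext hl⟩
  obtain ⟨f₀, hf₀⟩ := hfac f subset_rfl
  haveI : IsProper f₀.left := by
    haveI : IsProper (f₀.left ≫ b.left) := by rw [← Over.comp_left, hf₀]; infer_instance
    exact IsProper.of_comp f₀.left b.left
  haveI : Surjective f₀.left := ⟨fun y => by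
    obtain ⟨w, hw⟩ := hrange.le ⟨y, rfl⟩
    refine ⟨w, b.left.isClosedEmbedding.injective ?_⟩
    rw [← hw, ← Scheme.Hom.comp_apply, ← Over.comp_left, hf₀]⟩
  haveI : IsReduced B.left := inferInstanceAs (IsReduced I.subscheme)
  haveI : IsIntegral B.left := by
    haveI : IrreducibleSpace B.left := by
      rw [irreducibleSpace_def, Set.top_eq_univ, ← f₀.left.surjective.range_eq, ← Set.image_univ]
      exact (IrreducibleSpace.isIrreducible_univ P.left).image _ f₀.left.continuous.continuousOn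
    exact isIntegral_of_irreducibleSpace_of_isReduced B.left
  haveI hBp : IsProper B.hom := by
    haveI : UniversallyClosed (f₀.left ≫ B.hom) := by rw [Over.w]; infer_instance
    haveI : UniversallyClosed B.hom := UniversallyClosed.of_comp_surjective f₀.left B.hom
    haveI : LocallyOfFiniteType B.hom := inferInstanceAs (LocallyOfFiniteType (I.subschemeι ≫ G.hom))
    haveI : IsSeparated B.hom := inferInstanceAs (IsSeparated (I.subschemeι ≫ G.hom))
    exact {}
  have he : Set.range (η[G]).left ⊆ W := by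
    rintro _ ⟨t, rfl⟩
    haveI : Nonempty Z.left := (GeometricallyIntegral.isIntegral_of_subsingleton Z.hom).nonempty
    obtain ⟨w⟩ := ‹Nonempty Z.left›
    refine ⟨δ.left w, ?_⟩
    rw [← Scheme.Hom.comp_apply, ← Over.comp_left, hδ, Hom.one_def, Over.comp_left, Scheme.Hom.comp_apply]
    exact congrArg _ (Subsingleton.elim (α := PrimeSpectrum k) _ _)
  haveI : IsReduced (𝟙_ (Over (Spec (CommRingCat.of k)))).left := inferInstanceAs (IsReduced (Spec (CommRingCat.of k)))
  obtain ⟨e, hee⟩ := hfac η[G] he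
  obtain ⟨ι', hι'⟩ := hfac b⁻¹ (by
    rintro _ ⟨y, rfl⟩
    obtain ⟨w, rfl⟩ := f₀.left.surjective y
    refine ⟨σ.left w, ?_⟩
    rw [← Scheme.Hom.comp_apply, ← Over.comp_left, hσ, ← hf₀, ← GrpObj.comp_inv, Over.comp_left,
      Scheme.Hom.comp_apply])
  obtain ⟨m₀, hm₀⟩ := hfac f' hWW
  let q : P ⊗ P ⟶ B ⊗ B := (f₀ ▷ P) ≫ (B ◁ f₀)
  let a : B ⊗ B ⟶ G := (fst B B ≫ b) * (snd B B ≫ b)
  have hqa : q ≫ a = f' := by
    simp only [q, a, f', MonObj.comp_mul, Category.assoc, whiskerLeft_fst_assoc, whiskerLeft_snd_assoc,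
      whiskerRight_fst_assoc, whiskerRight_snd_assoc, hf₀]
  haveI : IsSchemeTheoreticallyDominant f₀.left := IsSchemeTheoreticallyDominant.of_isDominant f₀.left
  haveI : IsSchemeTheoreticallyDominant ((Over.forget (Spec (CommRingCat.of k))).map f₀) :=
    inferInstanceAs (IsSchemeTheoreticallyDominant f₀.left)
  haveI : QuasiCompact ((Over.forget (Spec (CommRingCat.of k))).map f₀) :=
    inferInstanceAs (QuasiCompact f₀.left)
  haveI : IsSchemeTheoreticallyDominant q.left := by
    haveI : Flat ((Over.forget (Spec (CommRingCat.of k))).map (fst B P)) := by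
      haveI : Flat P.hom := AssLib.flat_over_field _
      exact inferInstanceAs (Flat (pullback.fst B.hom P.hom))
    haveI : Flat ((Over.forget (Spec (CommRingCat.of k))).map (snd B B)) := by
      haveI : Flat B.hom := AssLib.flat_over_field _
      exact inferInstanceAs (Flat (pullback.snd B.hom B.hom))
    haveI : IsSchemeTheoreticallyDominant (f₀ ▷ P).left :=
      IsSchemeTheoreticallyDominant.of_isPullback
        (((FpqcDescLib.isPullback_whiskerRight f₀ P).map (Over.forget _)).flip)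
    haveI : IsSchemeTheoreticallyDominant (B ◁ f₀).left :=
      IsSchemeTheoreticallyDominant.of_isPullback
        (((FpqcDescLib.isPullback_whiskerLeft f₀ B).map (Over.forget _)).flip)
    exact inferInstanceAs (IsSchemeTheoreticallyDominant ((f₀ ▷ P).left ≫ (B ◁ f₀).left))
  have hker : b.left.ker ≤ a.left.ker := by
    have h1 : (q.left ≫ a.left).ker = a.left.ker := by
      rw [Scheme.Hom.ker_comp, q.left.ker_eq_bot, Scheme.IdealSheafData.map_bot]
    rw [← h1, ← Over.comp_left, hqa, ← hm₀, Over.comp_left]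
    exact Scheme.Hom.le_ker_comp _ _
  let μ' : B ⊗ B ⟶ B := Over.homMk (IsClosedImmersion.lift b.left a.left hker) (by
    show IsClosedImmersion.lift b.left a.left hker ≫ b.left ≫ G.hom = _
    rw [IsClosedImmersion.lift_fac_assoc, Over.w])
  have hμ : μ' ≫ b = a := Over.OverMorphism.ext (IsClosedImmersion.lift_fac _ _ _)
  obtain ⟨str, hb⟩ := GrpSchLib.exists_grpObj_of_mono b e hee μ' hμ ι' hι'
  have hD : Set.range D.left ⊆ W := hR
  haveI : IsReduced (Z ⊗ Z).left := by
    haveI := (good_diff (G := G) z).2.1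
    haveI : IsIntegral (Z ⊗ Z).left := GeometricallyIntegral.isIntegral_of_subsingleton (Z ⊗ Z).hom
    infer_instance
  obtain ⟨d, hd⟩ := hfac D hD
  exact ⟨B, str, b, hb, hbc, hBp, inferInstance, d, hd⟩

end Groth.Agent.AlgGrp25.GenSub
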