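import Groth.Prelude.Def_CartDual2
import Groth.Agent.SchFinLib.EtAlg
import Mathlib.RingTheory.Bialgebra.Quotient

/-! Invariant elements of a Cartier dual and maps of finite Hopf algebras. -/

universe u v w

open scoped TensorProduct

namespace Groth.Agent.AlgGrp25.HopfMult

variable {R : Type u} [CommRing R]

/-- An idempotent with augmentation `1` is `1` modulo an augmented ideal with local quotient. -/
theorem sub_one_mem_of_local {D : Type v} [CommRing D] (ε : D →+* R) [Nontrivial R] {I : Ideal D}
    [IsLocalRing (D ⧸ I)] (hI : ∀ x ∈ I, ε x = 0) {c : D} (hc : IsIdempotentElem c) (h1 : ε c = 1) :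
    1 - c ∈ I := by
  rcases IsLocalRing.isUnit_or_isUnit_one_sub_self (Ideal.Quotient.mk I c) with hu | hu
  · have h : (Ideal.Quotient.mk I c) * (1 - Ideal.Quotient.mk I c) = 0 := by
      rw [mul_sub, mul_one, ← map_mul, hc.eq, sub_self]
    rw [hu.mul_right_eq_zero, ← map_one (Ideal.Quotient.mk I), ← map_sub, Ideal.Quotient.eq_zero_iff_mem] at h
    exact h
  · have h : Ideal.Quotient.mk I c * (1 - Ideal.Quotient.mk I c) = 0 := by
      rw [mul_sub, mul_one, ← map_mul, hc.eq, sub_self]
    rw [hu.mul_left_eq_zero, Ideal.Quotient.eq_zero_iff_mem] at h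
    have := hI c h
    rw [h1] at this
    exact absurd this one_ne_zero

theorem nontrivial_of_local {D : Type v} [CommRing D] [Algebra R D] {I : Ideal D} [IsLocalRing (D ⧸ I)] :
    Nontrivial R := by
  by_contra h
  rw [not_nontrivial_iff_subsingleton] at h
  have := Module.subsingleton R (D ⧸ I)
  exact false_of_nontrivial_of_subsingleton (D ⧸ I)

/-- Invariance under a translation is carried by bialgebra maps to invariance under a smaller translation. -/
theorem invariant_map {C : Type v} {D : Type w} [CommRing C] [Bialgebra R C] [CommRing D] [Bialgebra R D]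
    (φ : C →ₐc[R] D) {c x : C}
    (hx : LinearMap.lTensor C (LinearMap.mulLeft R c) (Coalgebra.comul (R := R) x) = x ⊗ₜ[R] c)
    {d : D} (hd : d * φ c = d) :
    LinearMap.lTensor D (LinearMap.mulLeft R d) (Coalgebra.comul (R := R) (φ x)) = φ x ⊗ₜ[R] d := by
  have key : ∀ t : C ⊗[R] C, LinearMap.lTensor D (LinearMap.mulLeft R d) (TensorProduct.map φ.toLinearMap φ.toLinearMap t) =
      LinearMap.lTensor D (LinearMap.mulLeft R d)
        (TensorProduct.map φ.toLinearMap φ.toLinearMap (LinearMap.lTensor C (LinearMap.mulLeft R c) t)) := by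
    intro t
    induction t using TensorProduct.induction_on with
    | zero => simp
    | add a b ha hb => simp only [map_add, ha, hb]
    | tmul a b =>
      simp only [LinearMap.lTensor_tmul, TensorProduct.map_tmul, LinearMap.mulLeft_apply]
      show φ a ⊗ₜ[R] (d * φ b) = φ a ⊗ₜ[R] (d * φ (c * b))
      rw [map_mul φ c b, ← mul_assoc, hd]
  have h1 : TensorProduct.map φ.toLinearMap φ.toLinearMap (Coalgebra.comul (R := R) x) = Coalgebra.comul (R := R) (φ x) :=
    CoalgHomClass.map_comp_comul_apply φ x
  rw [← h1, key, hx, TensorProduct.map_tmul, LinearMap.lTensor_tmul, LinearMap.mulLeft_apply]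
  show φ x ⊗ₜ[R] (d * φ c) = _
  rw [hd]

/-- If `c` annihilates the augmentation ideal, every element is invariant under translation by `c`. -/
theorem invariant_of_absorb {C : Type v} [CommRing C] [Bialgebra R C] {c : C}
    (hc : ∀ z : C, c * z = Coalgebra.counit (R := R) z • c) (x : C) :
    LinearMap.lTensor C (LinearMap.mulLeft R c) (Coalgebra.comul (R := R) x) = x ⊗ₜ[R] c := by
  have key : ∀ t : C ⊗[R] C, LinearMap.lTensor C (LinearMap.mulLeft R c) t =
      (TensorProduct.rid R C (LinearMap.lTensor C (Coalgebra.counit (R := R)) t)) ⊗ₜ[R] c := by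
    intro t
    induction t using TensorProduct.induction_on with
    | zero => simp
    | add a b ha hb => simp only [map_add, ha, hb, TensorProduct.add_tmul]
    | tmul a b =>
      simp only [LinearMap.lTensor_tmul, LinearMap.mulLeft_apply, hc b, TensorProduct.rid_tmul]
      rw [TensorProduct.tmul_smul, TensorProduct.smul_tmul']
  rw [key, Coalgebra.lTensor_counit_comul, TensorProduct.rid_tmul, one_smul]

/-- A finite étale bialgebra has an element of augmentation one annihilating the augmentation ideal. -/
theorem exists_absorb (C : Type u) [CommRing C] [Bialgebra R C] [Module.Finite R C] [Algebra.Etale R C] :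
    ∃ c : C, IsIdempotentElem c ∧ Bialgebra.counitAlgHom R C c = 1 ∧
      ∀ z : C, c * z = Coalgebra.counit (R := R) z • c := by
  obtain ⟨r, hr, hr0, hr'⟩ := SchFinLib.EtAlg.exists_idempotent_ker_algHom (Bialgebra.counitAlgHom R C)
  refine ⟨1 - r, IsIdempotentElem.one_sub hr, by rw [map_sub, map_one, hr0, sub_zero], fun z => ?_⟩
  have h := hr' (z - algebraMap R C (Bialgebra.counitAlgHom R C z)) (by rw [map_sub, AlgHom.commutes]; simp)
  rw [Algebra.smul_def]
  show (1 - r) * z = algebraMap R C (Bialgebra.counitAlgHom R C z) * (1 - r)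
  linear_combination -h

/-- The bialgebra map induced on quotients. -/
noncomputable def quotMap {A : Type v} {B : Type w} [CommRing A] [Bialgebra R A] [CommRing B] [Bialgebra R B]
    (I : Ideal B) (J : Ideal A) [(I.restrictScalars R).IsCoideal] [(J.restrictScalars R).IsCoideal]
    (ψ : B →ₐc[R] A) (h : ∀ b ∈ I, ψ b ∈ J) : (B ⧸ I) →ₐc[R] (A ⧸ J) :=
  .ofAlgHom (Ideal.Quotient.liftₐ I ((Ideal.Quotient.mkₐ R J).comp (AlgHomClass.toAlgHom ψ))
      fun b hb => Ideal.Quotient.eq_zero_iff_mem.mpr (h b hb))
    (Ideal.Quotient.algHom_ext R <| AlgHom.ext fun b => CoalgHomClass.counit_comp_apply ψ b)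
    (Ideal.Quotient.algHom_ext R <| AlgHom.ext fun b => by
      have key : ∀ t : B ⊗[R] B,
          TensorProduct.map (Ideal.Quotient.mkₐ R J).toLinearMap (Ideal.Quotient.mkₐ R J).toLinearMap
            (TensorProduct.map ψ.toLinearMap ψ.toLinearMap t) =
          Algebra.TensorProduct.map
            (Ideal.Quotient.liftₐ I ((Ideal.Quotient.mkₐ R J).comp (AlgHomClass.toAlgHom ψ))
              fun b hb => Ideal.Quotient.eq_zero_iff_mem.mpr (h b hb))
            (Ideal.Quotient.liftₐ I ((Ideal.Quotient.mkₐ R J).comp (AlgHomClass.toAlgHom ψ))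
              fun b hb => Ideal.Quotient.eq_zero_iff_mem.mpr (h b hb))
            (TensorProduct.map (Ideal.Quotient.mkₐ R I).toLinearMap (Ideal.Quotient.mkₐ R I).toLinearMap t) := by
        intro t
        induction t using TensorProduct.induction_on with
        | zero => simp
        | add a b ha hb => simp only [map_add, ha, hb]
        | tmul a b => rfl
      have h1 : TensorProduct.map ψ.toLinearMap ψ.toLinearMap (Coalgebra.comul (R := R) b) =
          Coalgebra.comul (R := R) (ψ b) := CoalgHomClass.map_comp_comul_apply ψ b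
      show Algebra.TensorProduct.map _ _ (Coalgebra.comul (R := R) (Ideal.Quotient.mk I b)) =
        Coalgebra.comul (R := R) (Ideal.Quotient.mk J (ψ b))
      rw [Bialgebra.Quotient.comul_mk, Bialgebra.Quotient.comul_mk, ← key, h1])

@[simp] theorem quotMap_mk {A : Type v} {B : Type w} [CommRing A] [Bialgebra R A] [CommRing B] [Bialgebra R B]
    (I : Ideal B) (J : Ideal A) [(I.restrictScalars R).IsCoideal] [(J.restrictScalars R).IsCoideal]
    (ψ : B →ₐc[R] A) (h : ∀ b ∈ I, ψ b ∈ J) (b : B) :
    quotMap I J ψ h (Ideal.Quotient.mk I b) = Ideal.Quotient.mk J (ψ b) := rfl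

end Groth.Agent.AlgGrp25.HopfMult
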