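import Groth.Agent.GrpSchLib.IdentityComp
import Groth.Agent.GrpSchLib.RedSubgroup
import Groth.Agent.GrpSchLib.NormalPoints
import Groth.Agent.GrpSchLib.SepPoints
import Groth.Agent.GrpSchLib.PerfectSmooth
import Groth.Agent.GrpSchLib.FieldDim
import Groth.Agent.GrpSchLib.MonoSubgroup
import Groth.Agent.VarDim.Fibre
import Groth.Prelude.Def_AlgGrp
import Groth.Agent.GrpSchLib.FieldAllComp

/-! Conjugation stable subgroups and dimensions of identity components. -/

universe u

open CategoryTheory Limits AlgebraicGeometry MonoidalCategory CartesianMonoidalCategory MonObj GrpObj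

set_option linter.style.haveILetI false

namespace Groth.Agent.AlgGrp25.LinPart

open GrpSchLib

section Conj

variable {S : Scheme.{u}} {G : Over S} [GrpObj G]

/-- Conjugation by a point. -/
noncomputable def conj (g : 𝟙_ (Over S) ⟶ G) : G ⟶ G := (toUnit G ≫ g) * 𝟙 G * (toUnit G ≫ g)⁻¹

theorem comp_conj (g : 𝟙_ (Over S) ⟶ G) {T : Over S} (x : T ⟶ G) :
    x ≫ conj g = (toUnit T ≫ g) * x * (toUnit T ≫ g)⁻¹ := by
  rw [conj, MonObj.comp_mul, MonObj.comp_mul, GrpObj.comp_inv, Category.comp_id, ← Category.assoc, comp_toUnit]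

instance isMonHom_conj (g : 𝟙_ (Over S) ⟶ G) : IsMonHom (conj g) where
  one_hom := by rw [comp_conj, MonObj.one_eq_one, _root_.mul_one, mul_inv_cancel]
  mul_hom := by
    have h : μ[G] = fst G G * snd G G := by rw [Hom.mul_def, lift_fst_snd, Category.id_comp]
    rw [comp_conj]
    conv_rhs => rw [h, MonObj.comp_mul, tensorHom_fst, tensorHom_snd, comp_conj, comp_conj]
    rw [h]
    group

theorem conj_comp (g g' : 𝟙_ (Over S) ⟶ G) : conj g' ≫ conj g = conj (g * g') := by
  rw [comp_conj, conj, conj, MonObj.comp_mul]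
  group

theorem conj_one : conj (1 : 𝟙_ (Over S) ⟶ G) = 𝟙 G := by
  rw [conj, MonObj.comp_one, _root_.one_mul, inv_one, _root_.mul_one]

/-- The automorphism of a normal subgroup induced by conjugation. -/
theorem exists_restrict {F : Over S} [GrpObj F] (u : F ⟶ G) [IsMonHom u] [Mono u] (hn : AlgGrp.IsNormalHom u)
    (g : 𝟙_ (Over S) ⟶ G) :
    ∃ c : F ≅ F, IsMonHom c.hom ∧ c.hom ≫ u = u ≫ conj g := by
  have key : ∀ g : 𝟙_ (Over S) ⟶ G, ∃ c : F ⟶ F, c ≫ u = u ≫ conj g := fun g => by
    obtain ⟨c, hc⟩ := hn F (toUnit F ≫ g) (𝟙 F)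
    exact ⟨c, by rw [← hc, comp_conj, Category.id_comp]⟩
  obtain ⟨c, hc⟩ := key g
  obtain ⟨d, hd⟩ := key g⁻¹
  refine ⟨⟨c, d, ?_, ?_⟩, ?_, hc⟩
  · rw [← cancel_mono u, Category.assoc, hd, reassoc_of% hc, conj_comp, inv_mul_cancel, conj_one, Category.comp_id,
      Category.id_comp]
  · rw [← cancel_mono u, Category.assoc, hc, reassoc_of% hd, conj_comp, mul_inv_cancel, conj_one, Category.comp_id,
      Category.id_comp]
  · show IsMonHom c
    exact
      { one_hom := by
          rw [← cancel_mono u, Category.assoc, hc, ← Category.assoc, IsMonHom.one_hom u, IsMonHom.one_hom (conj g)]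
        mul_hom := by
          rw [← cancel_mono u, Category.assoc, hc, ← Category.assoc, IsMonHom.mul_hom u, Category.assoc,
            IsMonHom.mul_hom (conj g), Category.assoc, IsMonHom.mul_hom u,
            MonoidalCategory.tensorHom_comp_tensorHom_assoc, MonoidalCategory.tensorHom_comp_tensorHom_assoc, hc] }

end Conj

variable {k : Type u} [Field k] [IsAlgClosed k] {G : Over (Spec (CommRingCat.of k))} [GrpObj G]

/-- A closed subgroup stable under conjugation by rational points is normal. -/
theorem isNormalHom_of_points [Smooth G.hom] {H : Over (Spec (CommRingCat.of k))} [GrpObj H] (i : H ⟶ G)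
    [IsClosedImmersion i.left]
    (h : ∀ g : 𝟙_ (Over (Spec (CommRingCat.of k))) ⟶ G, ∃ l : H ⟶ H, l ≫ i = i ≫ conj g) :
    AlgGrp.IsNormalHom i := by
  let f : H ⊗ G ⟶ G := snd H G * (fst H G ≫ i) * (snd H G)⁻¹
  obtain ⟨f', hf'⟩ := DensePts.exists_fac_whiskerLeft (densePts_of_smooth (k := k) (K := k) G) f i (fun x => by
    let g : 𝟙_ (Over (Spec (CommRingCat.of k))) ⟶ G := Over.homMk x.left (by
      show x.left ≫ G.hom = 𝟙 _
      rw [Over.w x]
      exact Spec.map_id _)
    have hx : x = toUnit _ ≫ g := Over.OverMorphism.ext (by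
      show x.left = Spec.map (CommRingCat.ofHom (algebraMap k k)) ≫ x.left
      exact ((congrArg (· ≫ x.left) (Spec.map_id (CommRingCat.of k))).trans (Category.id_comp _)).symm)
    obtain ⟨l, hl⟩ := h g
    refine ⟨fst H _ ≫ l, ?_⟩
    rw [Category.assoc, hl, ← Category.assoc, comp_conj]
    simp only [f, MonObj.comp_mul, GrpObj.comp_inv, whiskerLeft_snd, whiskerLeft_fst_assoc, hx]
    rw [← Category.assoc, comp_toUnit])
  intro T x n
  refine ⟨lift n x ≫ f', ?_⟩
  rw [Category.assoc, hf']
  simp only [f, MonObj.comp_mul, GrpObj.comp_inv, lift_snd, lift_fst_assoc]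

omit [IsAlgClosed k] in
/-- A closed subgroup with the range of the identity component has the dimension of the group. -/
theorem dim_eq_of_range {E H : Over (Spec (CommRingCat.of k))} [GrpObj E] [GrpObj H] [LocallyOfFiniteType E.hom]
    [LocallyOfFiniteType H.hom] (i : H ⟶ E) [IsClosedImmersion i.left]
    (hr : Set.range i.left = connectedComponent (η[E].left (IsLocalRing.closedPoint k))) :
    topologicalKrullDim H.left = topologicalKrullDim E.left := by
  obtain ⟨c, hc, hce⟩ := exists_isMaxPt (η[E].left (IsLocalRing.closedPoint k))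
  obtain ⟨c', hc'⟩ : c ∈ Set.range i.left := by
    rw [hr, connectedComponent_eq_closure hc hce]
    exact subset_closure rfl
  have hmax : IsMaxPt c' := fun d hd => by
    refine i.left.isEmbedding.injective ?_
    rw [hc']
    exact hc _ (hc' ▸ hd.map i.left.continuous)
  rw [topologicalKrullDim_eq_deg hmax, topologicalKrullDim_eq_deg hc, VarDim.deg_eq_add (f := i.left) E.hom (Over.w i), hc',
    show VarDim.fdeg i.left c' = 0 from by exact_mod_cast
      ((VarDim.fdeg_eq_rdeg i.left E.hom c').trans (VarDim.rdeg_preimmersion i.left c')), add_zero]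

end Groth.Agent.AlgGrp25.LinPart
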