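import Groth.Agent.GrpSchLib.GenericFibreExt
import Mathlib.GroupTheory.Nilpotent
import Mathlib.GroupTheory.Solvable
import Mathlib.AlgebraicGeometry.Morphisms.Flat

/-! Nilpotence and solvability of a flat separated group spread from the generic fibre. -/

universe u

open scoped commutatorElement
open CategoryTheory Limits AlgebraicGeometry MonoidalCategory CartesianMonoidalCategory MonObj

set_option linter.style.haveILetI false

namespace Groth.Agent.AlgGrp25.NilGeneric

variable {A : Type u} [CommRing A] {K : Type u} [CommRing K] [Algebra A K]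

noncomputable abbrev gen : Spec (CommRingCat.of K) ⟶ Spec (CommRingCat.of A) :=
  Spec.map (CommRingCat.ofHom (algebraMap A K))

variable {G : Over (Spec (CommRingCat.of A))} [GrpObj G]

/-- Restriction of points to the generic fibre. -/
noncomputable def res (W : Over (Spec (CommRingCat.of A))) :
    (W ⟶ G) →* ((Over.pullback (gen (A := A) (K := K))).obj W ⟶ Red.bc (gen (A := A) (K := K)) G) :=
  (Over.pullback (gen (A := A) (K := K))).homMonoidHom

theorem res_injective [IsSeparated G.hom] (hinj : Function.Injective (algebraMap A K))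
    (W : Over (Spec (CommRingCat.of A))) [Flat W.hom] : Function.Injective (res (K := K) (G := G) W) := by
  intro a b h
  refine GrpSchLib.hom_ext_of_generic hinj a b ?_
  have h2 := congrArg (fun m => CommaMorphism.left m ≫ pullback.fst G.hom (gen (A := A) (K := K))) h
  simp only [res, Functor.homMonoidHom_apply, Over.pullback_map_left, pullback.lift_fst] at h2
  exact h2

/-- Precomposition with `p` as a homomorphism. -/
noncomputable def pre {X W : Over (Spec (CommRingCat.of A))} (p : X ⟶ W) : (W ⟶ G) →* (X ⟶ G) :=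
  MonoidHom.mk' (p ≫ ·) fun a b => MonObj.comp_mul p a b

theorem flat_tensor (W₁ W₂ : Over (Spec (CommRingCat.of A))) [Flat W₁.hom] [Flat W₂.hom] : Flat (W₁ ⊗ W₂).hom :=
  inferInstanceAs (Flat (pullback.fst W₁.hom W₂.hom ≫ W₁.hom))

/-- A family of subgroups of point groups which is functorial and preserved under commutators has flat universal
witnesses. -/
theorem exists_flat_derived [Flat G.hom] (n : ℕ) :
    ∀ (X : Over (Spec (CommRingCat.of A))) (x : X ⟶ G), x ∈ derivedSeries (X ⟶ G) n →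
      ∃ (W : Over (Spec (CommRingCat.of A))) (p : X ⟶ W) (y : W ⟶ G),
        Flat W.hom ∧ y ∈ derivedSeries (W ⟶ G) n ∧ p ≫ y = x := by
  induction n with
  | zero => exact fun X x _ => ⟨G, x, 𝟙 G, inferInstance, Subgroup.mem_top _, Category.comp_id x⟩
  | succ n ih =>
    intro X x hx
    rw [derivedSeries_succ, Subgroup.commutator_def] at hx
    induction hx using Subgroup.closure_induction with
    | mem z hz =>
      obtain ⟨a, ha, b, hb, rfl⟩ := hz
      obtain ⟨W₁, p₁, y₁, hW₁, hy₁, e₁⟩ := ih X a ha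
      obtain ⟨W₂, p₂, y₂, hW₂, hy₂, e₂⟩ := ih X b hb
      haveI := hW₁
      haveI := hW₂
      refine ⟨W₁ ⊗ W₂, lift p₁ p₂, ⁅fst W₁ W₂ ≫ y₁, snd W₁ W₂ ≫ y₂⁆, flat_tensor _ _, ?_, ?_⟩
      · rw [derivedSeries_succ]
        exact Subgroup.commutator_mem_commutator
          (map_derivedSeries_le_derivedSeries (pre (G := G) (fst W₁ W₂)) n ⟨y₁, hy₁, rfl⟩)
          (map_derivedSeries_le_derivedSeries (pre (G := G) (snd W₁ W₂)) n ⟨y₂, hy₂, rfl⟩)
      · show pre (G := G) (lift p₁ p₂) _ = _
        rw [map_commutatorElement]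
        refine congrArg₂ (fun s t : X ⟶ G => ⁅s, t⁆) ?_ ?_
        · exact (lift_fst_assoc _ _ _).trans e₁
        · exact (lift_snd_assoc _ _ _).trans e₂
    | one => exact ⟨G, toUnit X ≫ η[G], 1, inferInstance, one_mem _, by rw [MonObj.comp_one]⟩
    | mul z w _ _ hz hw =>
      obtain ⟨W₁, p₁, y₁, hW₁, hy₁, e₁⟩ := hz
      obtain ⟨W₂, p₂, y₂, hW₂, hy₂, e₂⟩ := hw
      haveI := hW₁
      haveI := hW₂
      refine ⟨W₁ ⊗ W₂, lift p₁ p₂, (fst W₁ W₂ ≫ y₁) * (snd W₁ W₂ ≫ y₂), flat_tensor _ _, ?_, ?_⟩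
      · exact mul_mem (map_derivedSeries_le_derivedSeries (pre (G := G) (fst W₁ W₂)) _ ⟨y₁, hy₁, rfl⟩)
          (map_derivedSeries_le_derivedSeries (pre (G := G) (snd W₁ W₂)) _ ⟨y₂, hy₂, rfl⟩)
      · rw [MonObj.comp_mul, lift_fst_assoc, lift_snd_assoc, e₁, e₂]
    | inv z _ hz =>
      obtain ⟨W₁, p₁, y₁, hW₁, hy₁, e₁⟩ := hz
      exact ⟨W₁, p₁, y₁⁻¹, hW₁, inv_mem hy₁, by rw [GrpObj.comp_inv, e₁]⟩

theorem exists_flat_lower [Flat G.hom] (n : ℕ) :
    ∀ (X : Over (Spec (CommRingCat.of A))) (x : X ⟶ G), x ∈ (⊤ : Subgroup (X ⟶ G)).lowerCentralSeries n →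
      ∃ (W : Over (Spec (CommRingCat.of A))) (p : X ⟶ W) (y : W ⟶ G),
        Flat W.hom ∧ y ∈ (⊤ : Subgroup (W ⟶ G)).lowerCentralSeries n ∧ p ≫ y = x := by
  induction n with
  | zero => exact fun X x _ => ⟨G, x, 𝟙 G, inferInstance, Subgroup.mem_top _, Category.comp_id x⟩
  | succ n ih =>
    have hpush : ∀ {V W : Over (Spec (CommRingCat.of A))} (p : V ⟶ W) (m : ℕ) (y : W ⟶ G),
        y ∈ (⊤ : Subgroup (W ⟶ G)).lowerCentralSeries m → p ≫ y ∈ (⊤ : Subgroup (V ⟶ G)).lowerCentralSeries m := by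
      intro V W p m
      induction m with
      | zero => exact fun y _ => Subgroup.mem_top _
      | succ m ihm =>
        intro y hy
        rw [Subgroup.lowerCentralSeries_succ, Subgroup.commutator_def] at hy
        induction hy using Subgroup.closure_induction with
        | mem z hz =>
          obtain ⟨a, ha, b, -, rfl⟩ := hz
          rw [Subgroup.lowerCentralSeries_succ]
          show pre (G := G) p _ ∈ _
          rw [map_commutatorElement]
          exact Subgroup.commutator_mem_commutator (ihm a ha) (Subgroup.mem_top _)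
        | one => rw [MonObj.comp_one]; exact one_mem _
        | mul z w _ _ hz hw => rw [MonObj.comp_mul]; exact mul_mem hz hw
        | inv z _ hz => rw [GrpObj.comp_inv]; exact inv_mem hz
    intro X x hx
    rw [Subgroup.lowerCentralSeries_succ, Subgroup.commutator_def] at hx
    induction hx using Subgroup.closure_induction with
    | mem z hz =>
      obtain ⟨a, ha, b, -, rfl⟩ := hz
      obtain ⟨W₁, p₁, y₁, hW₁, hy₁, e₁⟩ := ih X a ha
      haveI := hW₁
      refine ⟨W₁ ⊗ G, lift p₁ b, ⁅fst W₁ G ≫ y₁, snd W₁ G⁆, flat_tensor _ _, ?_, ?_⟩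
      · rw [Subgroup.lowerCentralSeries_succ]
        exact Subgroup.commutator_mem_commutator (hpush _ n y₁ hy₁) (Subgroup.mem_top _)
      · show pre (G := G) (lift p₁ b) _ = _
        rw [map_commutatorElement]
        refine congrArg₂ (fun s t : X ⟶ G => ⁅s, t⁆) ?_ ?_
        · exact (lift_fst_assoc _ _ _).trans e₁
        · exact lift_snd p₁ b
    | one => exact ⟨G, toUnit X ≫ η[G], 1, inferInstance, one_mem _, by rw [MonObj.comp_one]⟩
    | mul z w _ _ hz hw =>
      obtain ⟨W₁, p₁, y₁, hW₁, hy₁, e₁⟩ := hz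
      obtain ⟨W₂, p₂, y₂, hW₂, hy₂, e₂⟩ := hw
      haveI := hW₁
      haveI := hW₂
      refine ⟨W₁ ⊗ W₂, lift p₁ p₂, (fst W₁ W₂ ≫ y₁) * (snd W₁ W₂ ≫ y₂), flat_tensor _ _, ?_, ?_⟩
      · exact mul_mem (hpush _ _ y₁ hy₁) (hpush _ _ y₂ hy₂)
      · rw [MonObj.comp_mul, lift_fst_assoc, lift_snd_assoc, e₁, e₂]
    | inv z _ hz =>
      obtain ⟨W₁, p₁, y₁, hW₁, hy₁, e₁⟩ := hz
      exact ⟨W₁, p₁, y₁⁻¹, hW₁, inv_mem hy₁, by rw [GrpObj.comp_inv, e₁]⟩

theorem derived_eq_bot [Flat G.hom] [IsSeparated G.hom] (hinj : Function.Injective (algebraMap A K)) (n : ℕ)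
    (h : ∀ Y : Over (Spec (CommRingCat.of K)),
      derivedSeries (Y ⟶ Red.bc (gen (A := A) (K := K)) G) n = ⊥) (X : Over (Spec (CommRingCat.of A))) :
    derivedSeries (X ⟶ G) n = ⊥ := by
  refine eq_bot_iff.mpr fun x hx => ?_
  obtain ⟨W, p, y, hW, hy, e⟩ := exists_flat_derived n X x hx
  haveI := hW
  have h1 : res (K := K) W y ∈ derivedSeries _ n := map_derivedSeries_le_derivedSeries (res (K := K) W) n ⟨y, hy, rfl⟩
  rw [h, Subgroup.mem_bot] at h1
  have hy1 : y = 1 := res_injective hinj W (h1.trans (map_one _).symm)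
  rw [Subgroup.mem_bot, ← e, hy1, MonObj.comp_one]

theorem upperCentralSeries_eq_top [Flat G.hom] [IsSeparated G.hom] (hinj : Function.Injective (algebraMap A K)) (n : ℕ)
    (h : ∀ Y : Over (Spec (CommRingCat.of K)),
      Subgroup.upperCentralSeries (Y ⟶ Red.bc (gen (A := A) (K := K)) G) n = ⊤) (X : Over (Spec (CommRingCat.of A))) :
    Subgroup.upperCentralSeries (X ⟶ G) n = ⊤ := by
  have hlow : (⊤ : Subgroup (X ⟶ G)).lowerCentralSeries n = ⊥ := by
    refine eq_bot_iff.mpr fun x hx => ?_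
    obtain ⟨W, p, y, hW, hy, e⟩ := exists_flat_lower n X x hx
    haveI := hW
    have hK : (⊤ : Subgroup ((Over.pullback (gen (A := A) (K := K))).obj W ⟶
        Red.bc (gen (A := A) (K := K)) G)).lowerCentralSeries n = ⊥ := by
      refine eq_bot_iff.mpr ((Subgroup.descending_central_series_ge_lower _
        (Subgroup.is_descending_rev_series_of_is_ascending _ (h _)
          (Subgroup.upperCentralSeries_isAscendingCentralSeries _)) n).trans ?_)
      simp
    have h1 : res (K := K) W y = 1 := by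
      rw [← Subgroup.mem_bot, ← hK]
      have h2 : res (K := K) W y ∈ (Subgroup.map (res (K := K) W) (⊤ : Subgroup (W ⟶ G))).lowerCentralSeries n := by
        rw [← Subgroup.map_lowerCentralSeries]
        exact Subgroup.mem_map_of_mem _ hy
      exact Subgroup.lowerCentralSeries_mono n le_top h2
    have hy1 : y = 1 := res_injective hinj W (h1.trans (map_one _).symm)
    rw [Subgroup.mem_bot, ← e, hy1, MonObj.comp_one]
  refine eq_top_iff.mpr (le_trans ?_ (Subgroup.ascending_central_series_le_upper _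
    (Subgroup.is_ascending_rev_series_of_is_descending _ hlow
      Subgroup.lowerCentralSeries_isDescendingCentralSeries) n))
  simp

end Groth.Agent.AlgGrp25.NilGeneric
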