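import Groth.Prelude.Def_AlgGrp
import Groth.Prelude.Def_Red
import Groth.Agent.GrpSchLib.MonoSubgroup
import Groth.Agent.FlatMisc.ImageFlat
import Groth.Agent.FlatFun4.SchImage
import Groth.Agent.AssLib.FlatField
import Mathlib.AlgebraicGeometry.Morphisms.SchemeTheoreticallyDominant

/-!
# Schematic closures of subgroups of the generic fibre over a valuation ring

The schematic closure is flat, morphisms from flat schemes factor through it as soon as they do on the
generic fibres, so it is a subgroup, normal when the subgroup and the ambient group allow it.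
-/

universe u

open CategoryTheory Limits AlgebraicGeometry MonoidalCategory CartesianMonoidalCategory MonObj GrpObj
open scoped CategoryTheory.Obj

set_option linter.style.haveILetI false
set_option synthInstance.maxHeartbeats 200000
set_option maxHeartbeats 1000000
set_option backward.isDefEq.respectTransparency false
set_option backward.isDefEq.respectTransparency.types false

namespace Groth.Agent.AlgGrp25.SchClosure

theorem isMonHom_of_comp_mono {E : Type*} [Category E] [CartesianMonoidalCategory E] {X Y Z : E} [GrpObj X] [GrpObj Y]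
    [GrpObj Z] (a : X ⟶ Y) (b : Y ⟶ Z) [IsMonHom b] [Mono b] [IsMonHom (a ≫ b)] : IsMonHom a where
  one_hom := by rw [← cancel_mono b, Category.assoc, IsMonHom.one_hom (a ≫ b), IsMonHom.one_hom b]
  mul_hom := by
    rw [← cancel_mono b, Category.assoc, IsMonHom.mul_hom (a ≫ b), Category.assoc, IsMonHom.mul_hom b,
      ← tensorHom_comp_tensorHom_assoc]

variable {R : Type u} [CommRing R] [IsDomain R] [ValuationRing R]

/-- The schematic image of a flat scheme is flat over a valuation ring. -/
theorem flat_imageι {X Y : Scheme.{u}} (q : Y ⟶ Spec (CommRingCat.of R)) (f : X ⟶ Y) [QuasiCompact f]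
    [Flat (f ≫ q)] : Flat (f.imageι ≫ q) := by
  rw [HasRingHomProperty.iff_exists_appLE (P := @Flat) (RingHom.Flat.stableUnderComposition.stableUnderCompositionWithLocalizationAway RingHom.Flat.holdsForLocalizationAway |>.1)]
  intro x
  obtain ⟨_, ⟨U, hU, rfl⟩, hxU, -⟩ :=
    Y.isBasis_affineOpens.exists_subset_of_mem_open (Set.mem_univ (f.imageι x)) isOpen_univ
  refine ⟨⟨⊤, isAffineOpen_top _⟩, ⟨f.imageι ⁻¹ᵁ U, hU.preimage _⟩, hxU, fun _ _ => trivial, ?_⟩
  let h : R →+* Γ(f.image, f.imageι ⁻¹ᵁ U) := (f.imageι.app U).hom.comp (FlatMisc.secOf q U)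
  have hflat : h.Flat := by
    letI := h.toAlgebra
    haveI : Module.IsTorsionFree R Γ(f.image, f.imageι ⁻¹ᵁ U) := by
      refine ⟨fun r hr => ?_⟩
      have hr0 : r ≠ 0 := hr.ne_zero
      intro a b hab
      obtain ⟨a, rfl⟩ := f.ker.subschemeι_app_surjective ⟨U, hU⟩ a
      obtain ⟨b, rfl⟩ := f.ker.subschemeι_app_surjective ⟨U, hU⟩ b
      simp only [Algebra.smul_def] at hab
      rw [← sub_eq_zero, ← map_sub, ← RingHom.mem_ker, f.ker.ker_subschemeι_app ⟨U, hU⟩]
      refine FlatMisc.mem_ker_ideal_of_secOf_mul_mem q f ⟨U, hU⟩ r hr0 _ ?_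
      rw [← f.ker.ker_subschemeι_app ⟨U, hU⟩, RingHom.mem_ker, map_mul, map_sub, mul_sub]
      exact sub_eq_zero.mpr hab
    exact (Module.Flat.flat_iff_torsion_eq_bot_of_isBezout.2
      (Submodule.isTorsionFree_iff_torsion_eq_bot.1 inferInstance) : Module.Flat R Γ(f.image, f.imageι ⁻¹ᵁ U))
  have : ((f.imageι ≫ q).appLE ⊤ (f.imageι ⁻¹ᵁ U) (fun _ _ => trivial)).hom =
      h.comp (Scheme.ΓSpecIso (CommRingCat.of R)).hom.hom := by
    rw [← Scheme.Hom.appLE_comp_appLE f.imageι q ⊤ U (f.imageι ⁻¹ᵁ U) (fun _ _ => trivial) le_rfl, Scheme.Hom.appLE_eq_app]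
    simp only [h, FlatMisc.secOf, CommRingCat.hom_comp, RingHom.comp_assoc]
    ext a
    simp only [RingHom.comp_apply]
    congr 2
    exact (ConcreteCategory.congr_hom (Scheme.ΓSpecIso (CommRingCat.of R)).hom_inv_id a).symm
  rw [this]
  exact RingHom.Flat.comp (RingHom.Flat.of_bijective (ConcreteCategory.bijective_of_isIso (Scheme.ΓSpecIso (CommRingCat.of R)).hom)) hflat

variable (R) (K : Type u) [Field K] [Algebra R K] [IsFractionRing R K]

/-- The generic point. -/
noncomputable abbrev σ : Spec (CommRingCat.of K) ⟶ Spec (CommRingCat.of R) :=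
  Spec.map (CommRingCat.ofHom (algebraMap R K))

omit [ValuationRing R] in
theorem σ_props : IsSchemeTheoreticallyDominant (σ R K) ∧ Flat (σ R K) ∧ Mono (σ R K) := by
  refine ⟨?_, ?_, ?_⟩
  · haveI : IsDominant (σ R K) := by
      rw [isDominant_iff]
      refine (PrimeSpectrum.denseRange_comap_iff_ker_le_nilRadical (algebraMap R K)).2 ?_
      rw [(RingHom.injective_iff_ker_eq_bot _).1 (by exact IsFractionRing.injective R K)]
      exact bot_le
    exact .of_isDominant _
  · rw [HasRingHomProperty.Spec_iff (P := @Flat)]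
    exact RingHom.flat_algebraMap_iff.2 (IsLocalization.flat K (nonZeroDivisors R))
  · haveI : IsPreimmersion (σ R K) := IsPreimmersion.of_isLocalization (nonZeroDivisors R)
    infer_instance

variable {R} {K}
variable {G : Over (Spec (CommRingCat.of R))} [GrpObj G]

/-- The universal property of the schematic closure. -/
def HasFactor {Z : Over (Spec (CommRingCat.of R))} (c : Z ⟶ G) {X : Over (Spec (CommRingCat.of K))}
    (j : X ⟶ Red.bc (σ R K) G) : Prop :=
  ∀ (T : Over (Spec (CommRingCat.of R))) [Flat T.hom] (a : T ⟶ G) (l : Red.bc (σ R K) T ⟶ X),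
    l ≫ j = (Over.pullback (σ R K)).map a → ∃ a' : T ⟶ Z, a' ≫ c = a

/-- The schematic closure in `G` of a subgroup of the generic fibre. -/
theorem exists_closure {X : Over (Spec (CommRingCat.of K))} [GrpObj X] (j : X ⟶ Red.bc (σ R K) G) [IsMonHom j]
    [IsClosedImmersion j.left] [LocallyOfFiniteType G.hom] [QuasiCompact X.hom] :
    ∃ (Z : Over (Spec (CommRingCat.of R))) (_ : GrpObj Z) (c : Z ⟶ G) (e : Red.bc (σ R K) Z ⟶ X),
      IsMonHom c ∧ IsClosedImmersion c.left ∧ Flat Z.hom ∧ LocallyOfFiniteType Z.hom ∧ IsMonHom e ∧ IsIso e ∧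
      e ≫ j = (Over.pullback (σ R K)).map c ∧ HasFactor c j := by
  obtain ⟨hsd, hfl, hmono⟩ := σ_props R K
  haveI := hsd; haveI := hfl; haveI := hmono
  let F := Over.pullback (σ R K)
  let f : X.left ⟶ G.left := j.left ≫ pullback.fst G.hom (σ R K)
  haveI : QuasiCompact f := inferInstanceAs (QuasiCompact (j.left ≫ pullback.fst G.hom (σ R K)))
  have hf : f ≫ G.hom = X.hom ≫ σ R K := by
    simp only [f, Category.assoc, pullback.condition]
    rw [← Category.assoc, show j.left ≫ pullback.snd G.hom (σ R K) = X.hom from Over.w j]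
  haveI : Flat (f ≫ G.hom) := by
    rw [hf]
    haveI : Flat X.hom := AssLib.flat_over_field _
    infer_instance
  let Z : Over (Spec (CommRingCat.of R)) := Over.mk (f.imageι ≫ G.hom)
  let c : Z ⟶ G := Over.homMk f.imageι rfl
  haveI hZf : Flat Z.hom := flat_imageι G.hom f
  haveI hc : IsClosedImmersion c.left := inferInstanceAs (IsClosedImmersion f.imageι)
  haveI : Mono c := (Over.forget _).mono_of_mono_map (inferInstanceAs (Mono c.left))
  haveI hZft : LocallyOfFiniteType Z.hom := inferInstanceAs (LocallyOfFiniteType (f.imageι ≫ G.hom))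
  -- the generic fibre
  let u : X ⟶ F.obj Z := Over.homMk (pullback.lift f.toImage X.hom (by
    show f.toImage ≫ f.imageι ≫ G.hom = _
    rw [Scheme.Hom.toImage_imageι_assoc, hf])) (pullback.lift_snd _ _ _)
  have hu : u ≫ F.map c = j := by
    refine Over.OverMorphism.ext (pullback.hom_ext ?_ ?_)
    · simp [u, c, F, f, Over.pullback_map_left]
    · exact (Over.w (u ≫ F.map c)).trans (Over.w j).symm
  haveI hFc : IsClosedImmersion (F.map c).left := MorphismProperty.overPullbackMap (P := @IsClosedImmersion) _ c hc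
  haveI : IsClosedImmersion u.left := by
    haveI : IsClosedImmersion (u.left ≫ (F.map c).left) := by rw [← Over.comp_left, hu]; infer_instance
    exact IsClosedImmersion.of_comp u.left (F.map c).left
  haveI : IsSchemeTheoreticallyDominant f.toImage := FlatFun4.sd_toImage f
  haveI : QuasiCompact f.toImage := by
    haveI : QuasiCompact (f.toImage ≫ f.imageι) := by rw [f.toImage_imageι]; infer_instance
    exact QuasiCompact.of_comp f.toImage f.imageι
  haveI : Mono (pullback.fst Z.hom (σ R K)) := inferInstance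
  haveI : IsIso u.left := by
    rw [IsClosedImmersion.isIso_iff_ker_eq_bot]
    have hp : IsPullback u.left (𝟙 X.left) (pullback.fst Z.hom (σ R K)) f.toImage :=
      IsPullback.of_vert_isIso_mono ⟨by simp [u]⟩
    haveI : IsSchemeTheoreticallyDominant u.left := IsSchemeTheoreticallyDominant.of_isPullback hp.flip
    exact u.left.ker_eq_bot
  haveI : IsIso ((Over.forget _).map u) := inferInstanceAs (IsIso u.left)
  haveI : IsIso u := isIso_of_reflects_iso u (Over.forget _)
  have he : inv u ≫ j = F.map c := by rw [IsIso.inv_comp_eq, hu]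
  have hker : c.left.ker = f.ker := Scheme.IdealSheafData.ker_subschemeι _
  have hfac : HasFactor c j := by
    intro T _ a l hl
    have hk : c.left.ker ≤ a.left.ker := by
      rw [← FlatFun4.ker_comp_sd (pullback.fst T.hom (σ R K)) a.left, hker]
      have h1 : pullback.fst T.hom (σ R K) ≫ a.left = l.left ≫ f := by
        simp only [f]
        rw [← Category.assoc, ← Over.comp_left, hl]
        simp [Over.pullback_map_left]
      rw [h1]
      exact Scheme.Hom.le_ker_comp _ _
    refine ⟨Over.homMk (IsClosedImmersion.lift c.left a.left hk) ?_, Over.OverMorphism.ext (IsClosedImmersion.lift_fac _ _ _)⟩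
    show IsClosedImmersion.lift c.left a.left hk ≫ c.left ≫ G.hom = _
    rw [IsClosedImmersion.lift_fac_assoc, Over.w]
  haveI : Flat (Z ⊗ Z).hom := inferInstanceAs (Flat (pullback.fst Z.hom Z.hom ≫ Z.hom))
  haveI : Flat (𝟙_ (Over (Spec (CommRingCat.of R)))).hom := inferInstanceAs (Flat (𝟙 (Spec (CommRingCat.of R))))
  obtain ⟨η', he'⟩ := hfac (𝟙_ _) η[G] 1 (by
    rw [show η[G] = (1 : 𝟙_ (Over (Spec (CommRingCat.of R))) ⟶ G) by rw [Hom.one_def, toUnit_unique (toUnit _) (𝟙 _), Category.id_comp],
      Functor.map_one, MonObj.one_comp])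
  obtain ⟨μ', hm⟩ := hfac (Z ⊗ Z) ((fst Z Z ≫ c) * (snd Z Z ≫ c))
    ((F.map (fst Z Z) ≫ inv u) * (F.map (snd Z Z) ≫ inv u)) (by
      rw [MonObj.mul_comp, Category.assoc, Category.assoc, he, ← F.map_comp, ← F.map_comp, ← Functor.map_mul])
  obtain ⟨ι', hv⟩ := hfac Z c⁻¹ (inv u)⁻¹ (by
    rw [GrpObj.inv_comp, he]
    exact (map_inv (F.homMonoidHom (X := Z) (M := G)) c).symm)
  obtain ⟨str, hcm⟩ := GrpSchLib.exists_grpObj_of_mono c η' he' μ' hm ι' hv
  haveI := hcm
  haveI : Mono j := (Over.forget _).mono_of_mono_map (inferInstanceAs (Mono j.left))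
  haveI : IsMonHom (inv u ≫ j) := by rw [he]; infer_instance
  haveI : IsMonHom (inv u) := isMonHom_of_comp_mono (inv u) j
  exact ⟨Z, str, c, inv u, hcm, hc, hZf, hZft, inferInstance, inferInstance, he, hfac⟩

/-- The closure of a normal subgroup of the generic fibre of a flat group is normal. -/
theorem isNormalHom_of_factor [Flat G.hom] {X : Over (Spec (CommRingCat.of K))} [GrpObj X] (j : X ⟶ Red.bc (σ R K) G)
    (hj : AlgGrp.IsNormalHom j) {Z : Over (Spec (CommRingCat.of R))} [GrpObj Z] [Flat Z.hom] (c : Z ⟶ G)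
    (e : Red.bc (σ R K) Z ⟶ X) (he : e ≫ j = (Over.pullback (σ R K)).map c) (hfac : HasFactor c j) :
    AlgGrp.IsNormalHom c := by
  haveI : Flat (G ⊗ Z).hom := inferInstanceAs (Flat (pullback.fst G.hom Z.hom ≫ G.hom))
  let F := Over.pullback (σ R K)
  obtain ⟨n', hn'⟩ := hj _ (F.map (fst G Z)) (F.map (snd G Z) ≫ e)
  have hinv : F.map (fst G Z)⁻¹ = (F.map (fst G Z))⁻¹ := map_inv (F.homMonoidHom (X := G ⊗ Z) (M := G)) _
  obtain ⟨a', ha'⟩ := hfac (G ⊗ Z) (fst G Z * (snd G Z ≫ c) * (fst G Z)⁻¹) n' (by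
    rw [← hn', Category.assoc, he, ← F.map_comp, Functor.map_mul, Functor.map_mul, hinv])
  intro T g n
  refine ⟨lift g n ≫ a', ?_⟩
  rw [Category.assoc, ha', MonObj.comp_mul, MonObj.comp_mul, GrpObj.comp_inv, lift_fst, lift_snd_assoc]

end Groth.Agent.AlgGrp25.SchClosure
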