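import Groth.Agent.AlgGrp25.SpecFamily
import Groth.Agent.GrpSchLib.Neutral
import Groth.Agent.SGA7X.SheetGen
import Groth.Agent.FDescent.QuasiFlat
import Mathlib.AlgebraicGeometry.Morphisms.FlatMono

/-!
# Specialisation of normal subgroups containing the commutators

The schematic closure of a normal subgroup of the generic fibre containing the commutators keeps both
properties, and so does its trace on the identity component of the special fibre of a smooth group.
-/

universe u

open CategoryTheory Limits AlgebraicGeometry MonoidalCategory CartesianMonoidalCategory MonObj GrpObj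
open scoped CategoryTheory.Obj

set_option linter.style.haveILetI false
set_option synthInstance.maxHeartbeats 200000
set_option maxHeartbeats 1000000
set_option backward.isDefEq.respectTransparency false
set_option backward.isDefEq.respectTransparency.types false

namespace Groth.Agent.AlgGrp25.SpecDerived

/-- The functor on points of a base change. -/
theorem map_inv' {S S' : Scheme.{u}} (f : S' ⟶ S) {T G : Over S} [GrpObj G] (a : T ⟶ G) :
    (Over.pullback f).map a⁻¹ = ((Over.pullback f).map a)⁻¹ :=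
  map_inv ((Over.pullback f).homMonoidHom (X := T) (M := G)) a

/-- Points of a product after base change. -/
theorem exists_lift_map {S S' : Scheme.{u}} (f : S' ⟶ S) {A B : Over S} {T : Over S'}
    (x : T ⟶ (Over.pullback f).obj A) (y : T ⟶ (Over.pullback f).obj B) :
    ∃ q : T ⟶ (Over.pullback f).obj (A ⊗ B),
      q ≫ (Over.pullback f).map (fst A B) = x ∧ q ≫ (Over.pullback f).map (snd A B) = y :=
  ⟨lift x y ≫ Functor.LaxMonoidal.μ (Over.pullback f) A B,
    by rw [Category.assoc, Functor.Monoidal.μ_fst, lift_fst],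
    by rw [Category.assoc, Functor.Monoidal.μ_snd, lift_snd]⟩

variable {R : Type u} [CommRing R] [IsDomain R] [ValuationRing R] {K : Type u} [Field K] [Algebra R K]
  [IsFractionRing R K] {G : Over (Spec (CommRingCat.of R))} [GrpObj G] [QuasiCompact G.hom]
  {L : Type u} [Field L] (t : Spec (CommRingCat.of L) ⟶ Spec (CommRingCat.of R))

/-- A normal subgroup of the generic fibre containing the commutators specialises. -/
theorem derived_special [Flat G.hom] [LocallyOfFiniteType G.hom] {N : Over (Spec (CommRingCat.of K))} [GrpObj N]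
    (j : N ⟶ Red.bc (SchClosure.σ R K) G) [IsMonHom j] [IsClosedImmersion j.left] (hN : AlgGrp.IsNormalHom j)
    (hcomm : ∀ (T : Over (Spec (CommRingCat.of K))) (g h : T ⟶ Red.bc (SchClosure.σ R K) G),
      ∃ m : T ⟶ N, g * h * g⁻¹ * h⁻¹ = m ≫ j) :
    ∃ (N' : Over (Spec (CommRingCat.of L))) (_ : GrpObj N') (i : N' ⟶ Red.bc t G), IsMonHom i ∧
      IsClosedImmersion i.left ∧ AlgGrp.IsNormalHom i ∧
      (∀ (T : Over (Spec (CommRingCat.of L))) (g h : T ⟶ Red.bc t G), ∃ m : T ⟶ N', g * h * g⁻¹ * h⁻¹ = m ≫ i) ∧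
      topologicalKrullDim N'.left = topologicalKrullDim N.left := by
  let F := Over.pullback (SchClosure.σ R K)
  let F' := Over.pullback t
  haveI : QuasiCompact (Red.bc (SchClosure.σ R K) G).hom :=
    inferInstanceAs (QuasiCompact (pullback.snd G.hom (SchClosure.σ R K)))
  haveI : QuasiCompact N.hom := by rw [← Over.w j]; infer_instance
  obtain ⟨Z, hZg, c, e, hc, hcc, hZf, hZft, he, hei, hje, hfac⟩ := SchClosure.exists_closure j
  haveI := hc; haveI := hcc; haveI := hZf; haveI := hZft; haveI := he; haveI := hei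
  have hnorm : AlgGrp.IsNormalHom c := SchClosure.isNormalHom_of_factor j hN c e hje hfac
  haveI : Flat (G ⊗ G).hom := inferInstanceAs (Flat (pullback.fst G.hom G.hom ≫ G.hom))
  obtain ⟨m, hm⟩ := hcomm _ (F.map (fst G G)) (F.map (snd G G))
  obtain ⟨l, hl⟩ := hfac (G ⊗ G) (fst G G * snd G G * (fst G G)⁻¹ * (snd G G)⁻¹) m (by
    rw [← hm, Functor.map_mul, Functor.map_mul, Functor.map_mul, map_inv', map_inv'])
  obtain ⟨l₂, hl₂⟩ := hnorm (G ⊗ Z) (fst G Z) (snd G Z)
  refine ⟨Red.bc t Z, inferInstance, F'.map c, inferInstance,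
    MorphismProperty.overPullbackMap (P := @IsClosedImmersion) _ c hcc, fun T g n => ?_, fun T g h => ?_, ?_⟩
  · obtain ⟨q, hq1, hq2⟩ := exists_lift_map t g n
    refine ⟨q ≫ F'.map l₂, ?_⟩
    rw [Category.assoc, ← F'.map_comp, ← hl₂, Functor.map_mul, Functor.map_mul, map_inv', Functor.map_comp,
      MonObj.comp_mul, MonObj.comp_mul, GrpObj.comp_inv, hq1, ← Category.assoc, hq2]
  · obtain ⟨q, hq1, hq2⟩ := exists_lift_map t g h
    refine ⟨q ≫ F'.map l, ?_⟩
    rw [Category.assoc, ← F'.map_comp, hl, Functor.map_mul, Functor.map_mul, Functor.map_mul, map_inv', map_inv',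
      MonObj.comp_mul, MonObj.comp_mul, MonObj.comp_mul, GrpObj.comp_inv, GrpObj.comp_inv, hq1, hq2]
  · show topologicalKrullDim (Red.bc t Z).left = _
    rw [SpecFamily.dim_bc_eq t (SchClosure.σ R K)]
    haveI : IsIso e.left := ((Over.forget _).mapIso (asIso e)).isIso_hom
    exact e.left.homeomorph.isHomeomorph.topologicalKrullDim_eq

omit [QuasiCompact G.hom] in
/-- An open neighbourhood of the identity component of the special fibre with generic fibre in a given open
and closed connected subgroup. -/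
theorem exists_open_nhd [Smooth G.hom] [QuasiCompact G.hom] {C : Over (Spec (CommRingCat.of K))} [GrpObj C]
    (c : C ⟶ Red.bc (SchClosure.σ R K) G) [IsMonHom c] [IsOpenImmersion c.left] [IsClosedImmersion c.left]
    {C₀ : Over (Spec (CommRingCat.of L))} [GrpObj C₀] (k : C₀ ⟶ Red.bc t G) [IsMonHom k] [ConnectedSpace ↥C₀.left]
    [TopologicalSpace.NoetherianSpace ↥C₀.left] :
    ∃ W : G.left.Opens, (∀ z, pullback.fst G.hom (SchClosure.σ R K) z ∈ W → z ∈ Set.range c.left) ∧
      ∀ z, pullback.fst G.hom t (k.left z) ∈ W := by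
  let p : (Red.bc (SchClosure.σ R K) G).left ⟶ G.left := pullback.fst G.hom (SchClosure.σ R K)
  let GK := Red.bc (SchClosure.σ R K) G
  haveI : IsPreimmersion (SchClosure.σ R K) := IsPreimmersion.of_isLocalization (nonZeroDivisors R)
  haveI : IsPreimmersion p := inferInstanceAs (IsPreimmersion (pullback.fst G.hom (SchClosure.σ R K)))
  haveI : LocallyOfFiniteType GK.hom := inferInstanceAs (LocallyOfFiniteType (pullback.snd G.hom _))
  haveI : IsLocallyNoetherian GK.left := LocallyOfFiniteType.isLocallyNoetherian GK.hom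
  let U : GK.left.Opens :=
    ⟨(Set.range c.left)ᶜ, (IsClosedImmersion.base_closed (f := c.left)).isClosed_range.isOpen_compl⟩
  let g : (U : Scheme.{u}) ⟶ G.left := U.ι ≫ p
  haveI : QuasiCompact g := inferInstanceAs (QuasiCompact (U.ι ≫ pullback.fst G.hom (SchClosure.σ R K)))
  let W : G.left.Opens := ⟨(closure (Set.range g))ᶜ, isClosed_closure.isOpen_compl⟩
  refine ⟨W, fun z hz => ?_, fun z => ?_⟩
  · by_contra hzc
    refine hz (subset_closure ?_)
    obtain ⟨w, hw⟩ : z ∈ Set.range U.ι := by rw [Scheme.Opens.range_ι]; exact hzc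
    exact ⟨w, by rw [Scheme.Hom.comp_apply, hw]; rfl⟩
  · intro hmem
    obtain ⟨u, hu⟩ := FDescent.exists_specializes_of_mem_closure_range (f := g) hmem
    have hbot : ∀ w : Spec (CommRingCat.of K), SchClosure.σ R K w = (⊥ : PrimeSpectrum R) := by
      intro w
      have hw : w = (⊥ : PrimeSpectrum K) := Subsingleton.elim (α := PrimeSpectrum K) _ _
      subst hw
      refine PrimeSpectrum.ext ?_
      exact Ideal.comap_bot_of_injective _ (IsFractionRing.injective R K)
    have hp : ∀ y : GK.left, G.hom (p y) = (⊥ : PrimeSpectrum R) := fun y => by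
      rw [← Scheme.Hom.comp_apply, show p ≫ G.hom = pullback.snd _ _ ≫ SchClosure.σ R K from pullback.condition,
        Scheme.Hom.comp_apply]
      exact hbot _
    have hrange : ∀ y : G.left, G.hom y = (⊥ : PrimeSpectrum R) → y ∈ Set.range p := fun y hy => by
      show y ∈ Set.range (pullback.fst G.hom (SchClosure.σ R K))
      rw [Scheme.Pullback.range_fst]
      exact ⟨IsLocalRing.closedPoint K, (hbot _).trans hy.symm⟩
    let Γ : Set G.left := p '' Set.range c.left
    have hcl : IsClopen (Set.range c.left) :=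
      ⟨(IsClosedImmersion.base_closed (f := c.left)).isClosed_range, c.left.isOpenEmbedding.isOpen_range⟩
    have hst : ∀ a b : G.left, G.hom a = (⊥ : PrimeSpectrum R) → G.hom b = (⊥ : PrimeSpectrum R) → a ⤳ b →
        (a ∈ Γ ↔ b ∈ Γ) := by
      intro a b ha hb hab
      obtain ⟨a', rfl⟩ := hrange a ha
      obtain ⟨b', rfl⟩ := hrange b hb
      have hab' : a' ⤳ b' := p.isEmbedding.isInducing.specializes_iff.1 hab
      have hinj := p.isEmbedding.injective
      show p a' ∈ p '' _ ↔ p b' ∈ p '' _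
      rw [hinj.mem_set_image, hinj.mem_set_image]
      exact ⟨fun h => hab'.mem_closed hcl.1 h, fun h => hab'.mem_open hcl.2 h⟩
    let ga : G.left := GrpSchLib.Neutral.unit G (SchClosure.σ R K (IsLocalRing.closedPoint K))
    have hgamΓ : ga ∈ Γ := ⟨η[GK].left (IsLocalRing.closedPoint K),
      ⟨η[C].left (IsLocalRing.closedPoint K), by
        rw [← Scheme.Hom.comp_apply, ← Over.comp_left, IsMonHom.one_hom c]⟩,
      GrpSchLib.Neutral.bc_unit G (SchClosure.σ R K) _⟩
    have hgam : G.hom ga = (⊥ : PrimeSpectrum R) := (GrpSchLib.Neutral.hom_unit G _).trans (hbot _)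
    let j : C₀.left ⟶ G.left := k.left ≫ pullback.fst G.hom t
    let x : G.left := GrpSchLib.Neutral.unit G (t (IsLocalRing.closedPoint L))
    have hx : x ∈ Set.range j := by
      refine ⟨η[C₀].left (IsLocalRing.closedPoint L), ?_⟩
      rw [Scheme.Hom.comp_apply, ← Scheme.Hom.comp_apply (η[C₀].left), ← Over.comp_left, IsMonHom.one_hom k]
      exact GrpSchLib.Neutral.bc_unit G t _
    have hgamx : ga ⤳ x := by
      refine Specializes.map ?_ (GrpSchLib.Neutral.unit G).continuous
      rw [hbot]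
      exact (PrimeSpectrum.le_iff_specializes _ _).1 bot_le
    have hg : G.hom (g u) = (⊥ : PrimeSpectrum R) := hp _
    haveI : IsIntegrallyClosed (CommRingCat.of R) := inferInstanceAs (IsIntegrallyClosed R)
    obtain ⟨z', hz'c, hz'⟩ := SGA7X.SheetGen.mem_of_connected_piece G.hom Γ hst j hx hgamx hgam hgamΓ
      (y := pullback.fst G.hom t (k.left z)) ⟨z, rfl⟩ hu hg
    have hz'u : z' = U.ι u := p.isEmbedding.injective hz'
    have hmemU : U.ι u ∈ (U : Set GK.left) := by rw [← Scheme.Opens.range_ι]; exact ⟨u, rfl⟩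
    exact hmemU (hz'u ▸ hz'c)

/-- The trace on the identity component of the closure of a normal subgroup containing the commutators. -/
theorem neutral_special [IsAlgClosed L] [Smooth G.hom] {C : Over (Spec (CommRingCat.of K))} [GrpObj C]
    (c : C ⟶ Red.bc (SchClosure.σ R K) G) [IsMonHom c] [IsOpenImmersion c.left] [IsClosedImmersion c.left]
    {N : Over (Spec (CommRingCat.of K))} [GrpObj N] (i : N ⟶ C) [IsMonHom i] [IsClosedImmersion i.left]
    (hN : AlgGrp.IsNormalHom i)
    (hcomm : ∀ (T : Over (Spec (CommRingCat.of K))) (g h : T ⟶ C), ∃ m : T ⟶ N, g * h * g⁻¹ * h⁻¹ = m ≫ i) :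
    ∃ (C' : Over (Spec (CommRingCat.of L))) (_ : GrpObj C') (c' : C' ⟶ Red.bc t G)
      (N' : Over (Spec (CommRingCat.of L))) (_ : GrpObj N') (i' : N' ⟶ C'),
      IsMonHom c' ∧ IsOpenImmersion c'.left ∧ IsClosedImmersion c'.left ∧ ConnectedSpace ↥C'.left ∧
      IsMonHom i' ∧ IsClosedImmersion i'.left ∧ AlgGrp.IsNormalHom i' ∧
      (∀ (T : Over (Spec (CommRingCat.of L))) (g h : T ⟶ C'), ∃ m : T ⟶ N', g * h * g⁻¹ * h⁻¹ = m ≫ i') ∧
      topologicalKrullDim N'.left ≤ topologicalKrullDim N.left := by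
  let F := Over.pullback (SchClosure.σ R K)
  let F' := Over.pullback t
  let GLs := Red.bc t G
  haveI : QuasiCompact (Red.bc (SchClosure.σ R K) G).hom :=
    inferInstanceAs (QuasiCompact (pullback.snd G.hom (SchClosure.σ R K)))
  haveI : LocallyOfFiniteType GLs.hom := inferInstanceAs (LocallyOfFiniteType (pullback.snd G.hom t))
  haveI : IsLocallyNoetherian GLs.left := LocallyOfFiniteType.isLocallyNoetherian GLs.hom
  obtain ⟨C', hC', k, hk, hkc, hkf, hrange, hirr, hcpt⟩ := GrpSchLib.exists_identityComponent (G := GLs)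
  haveI := hk; haveI := hkc; haveI := hkf; haveI := hirr; haveI := hcpt
  haveI : LocallyOfFiniteType k.left := inferInstance
  haveI : LocallyOfFinitePresentation k.left := inferInstance
  haveI hko : IsOpenImmersion k.left := IsOpenImmersion.of_flat_of_mono k.left
  haveI : IrreducibleSpace C'.left := GeometricallyIrreducible.irreducibleSpace_of_subsingleton (f := C'.hom)
  haveI : LocallyOfFiniteType C'.hom := by rw [← Over.w k]; infer_instance
  haveI : IsLocallyNoetherian C'.left := LocallyOfFiniteType.isLocallyNoetherian C'.hom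
  haveI : IsNoetherian C'.left := {}
  obtain ⟨W, hW, hWL⟩ := exists_open_nhd t c k
  let U : Over (Spec (CommRingCat.of R)) := Over.mk (W.ι ≫ G.hom)
  let io : U ⟶ G := Over.homMk W.ι rfl
  haveI : Flat U.hom := inferInstanceAs (Flat (W.ι ≫ G.hom))
  obtain ⟨x₀, hx₀⟩ : ∃ x₀ : F.obj U ⟶ C, x₀ ≫ c = F.map io := by
    have hsub : Set.range (F.map io).left ⊆ Set.range c.left := by
      rintro _ ⟨z, rfl⟩
      refine hW _ ?_
      have : pullback.fst G.hom (SchClosure.σ R K) ((F.map io).left z) =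
          W.ι (pullback.fst U.hom (SchClosure.σ R K) z) :=
        congrArg (fun m => m z) (show (F.map io).left ≫ pullback.fst G.hom (SchClosure.σ R K) =
          pullback.fst U.hom (SchClosure.σ R K) ≫ W.ι from pullback.lift_fst _ _ _)
      rw [this]
      exact (Scheme.Opens.range_ι W).le (Set.mem_range_self _)
    exact ⟨Over.homMk (IsOpenImmersion.lift c.left (F.map io).left hsub) (by
      rw [← Over.w c, IsOpenImmersion.lift_fac_assoc, Over.w]), Over.OverMorphism.ext (IsOpenImmersion.lift_fac _ _ _)⟩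
  haveI : QuasiCompact N.hom := by
    rw [← Over.w (i ≫ c)]
    exact inferInstanceAs (QuasiCompact ((i.left ≫ c.left) ≫ (Red.bc (SchClosure.σ R K) G).hom))
  haveI : IsClosedImmersion (i ≫ c).left := inferInstanceAs (IsClosedImmersion (i.left ≫ c.left))
  obtain ⟨Z, hZg, cZ, e, hcZ, hcc, hZf, hZft, he, hei, hje, hfac⟩ := SchClosure.exists_closure (i ≫ c)
  haveI := hcZ; haveI := hcc; haveI := hZf; haveI := hZft; haveI := he; haveI := hei
  have hcinv : ∀ {T : Over (Spec (CommRingCat.of K))} (a : T ⟶ C), a⁻¹ ≫ c = (a ≫ c)⁻¹ := fun a =>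
    GrpObj.inv_comp a c
  haveI : Flat (U ⊗ U).hom := inferInstanceAs (Flat (pullback.fst U.hom U.hom ≫ U.hom))
  obtain ⟨m, hm⟩ := hcomm _ (F.map (fst U U) ≫ x₀) (F.map (snd U U) ≫ x₀)
  obtain ⟨l, hl⟩ := hfac (U ⊗ U) ((fst U U ≫ io) * (snd U U ≫ io) * (fst U U ≫ io)⁻¹ * (snd U U ≫ io)⁻¹) m (by
    rw [← Category.assoc, ← hm, MonObj.mul_comp, MonObj.mul_comp, MonObj.mul_comp, hcinv, hcinv, Category.assoc,
      Category.assoc, hx₀, ← F.map_comp, ← F.map_comp, Functor.map_mul, Functor.map_mul, Functor.map_mul, map_inv',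
      map_inv'])
  haveI : Flat (U ⊗ Z).hom := inferInstanceAs (Flat (pullback.fst U.hom Z.hom ≫ U.hom))
  obtain ⟨n', hn'⟩ := hN _ (F.map (fst U Z) ≫ x₀) (F.map (snd U Z) ≫ e)
  obtain ⟨l₂, hl₂⟩ := hfac (U ⊗ Z) ((fst U Z ≫ io) * (snd U Z ≫ cZ) * (fst U Z ≫ io)⁻¹) n' (by
    rw [← Category.assoc, ← hn', MonObj.mul_comp, MonObj.mul_comp, hcinv, Category.assoc, Category.assoc,
      Category.assoc, hx₀, hje, ← F.map_comp, ← F.map_comp, Functor.map_mul, Functor.map_mul, map_inv'])
  -- the identity component of the special fibre lies in the neighbourhood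
  obtain ⟨r, hr⟩ : ∃ r : C' ⟶ F'.obj U, r ≫ F'.map io = k := by
    have hsub : Set.range (k.left ≫ pullback.fst G.hom t) ⊆ Set.range W.ι := by
      rintro _ ⟨z, rfl⟩
      rw [Scheme.Opens.range_ι]
      exact hWL z
    refine ⟨Over.homMk (pullback.lift (IsOpenImmersion.lift W.ι _ hsub) C'.hom (by
      show _ ≫ W.ι ≫ G.hom = _
      rw [IsOpenImmersion.lift_fac_assoc, Category.assoc, pullback.condition, ← Category.assoc]
      congr 1
      exact Over.w k)) (pullback.lift_snd _ _ _), Over.OverMorphism.ext (pullback.hom_ext ?_ ?_)⟩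
    · simp [F', U, io, Over.pullback_map_left]
    · exact (Over.w (_ ≫ F'.map io)).trans (Over.w k).symm
  let P := pullback (F'.map cZ) k
  let πZ : P ⟶ F'.obj Z := pullback.fst _ _
  let i' : P ⟶ C' := pullback.snd _ _
  have hsq := (IsPullback.of_hasPullback (F'.map cZ) k).map (Over.forget _)
  haveI hi'c : IsClosedImmersion i'.left := MorphismProperty.of_isPullback (P := @IsClosedImmersion) hsq
    (MorphismProperty.overPullbackMap (P := @IsClosedImmersion) _ cZ hcc)
  haveI : IsOpenImmersion πZ.left := MorphismProperty.of_isPullback (P := @IsOpenImmersion) hsq.flip hko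
  haveI : Mono k := (Over.forget _).mono_of_mono_map (inferInstanceAs (Mono k.left))
  haveI : Mono i' := (Over.forget _).mono_of_mono_map (inferInstanceAs (Mono i'.left))
  have hfacP : ∀ {T : Over (Spec (CommRingCat.of L))} (a : T ⟶ C') (b : T ⟶ F'.obj Z),
      b ≫ F'.map cZ = a ≫ k → ∃ a' : T ⟶ P, a' ≫ i' = a := fun a b hab =>
    ⟨pullback.lift b a hab, pullback.lift_snd _ _ _⟩
  have hcond : πZ ≫ F'.map cZ = i' ≫ k := pullback.condition
  obtain ⟨η', he'⟩ := hfacP η[C'] η[F'.obj Z] (by rw [IsMonHom.one_hom, IsMonHom.one_hom])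
  obtain ⟨μ', hm'⟩ := hfacP ((fst P P ≫ i') * (snd P P ≫ i')) ((fst P P ≫ πZ) * (snd P P ≫ πZ)) (by
    simp only [MonObj.mul_comp, Category.assoc, hcond])
  obtain ⟨ι', hv'⟩ := hfacP i'⁻¹ πZ⁻¹ (by rw [GrpObj.inv_comp, GrpObj.inv_comp, hcond])
  obtain ⟨strP, hi'⟩ := GrpSchLib.exists_grpObj_of_mono i' η' he' μ' hm' ι' hv'
  haveI := hi'
  refine ⟨C', hC', k, P, strP, i', hk, hko, hkc, inferInstance, hi', hi'c, fun T g n => ?_, fun T g h => ?_, ?_⟩
  · obtain ⟨q, hq1, hq2⟩ := exists_lift_map t (g ≫ r) (n ≫ πZ)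
    obtain ⟨a', ha'⟩ := hfacP (g * (n ≫ i') * g⁻¹) (q ≫ F'.map l₂) (by
      rw [Category.assoc, ← F'.map_comp, hl₂, Functor.map_mul, Functor.map_mul, map_inv', Functor.map_comp,
        Functor.map_comp, MonObj.comp_mul, MonObj.comp_mul, GrpObj.comp_inv, ← Category.assoc, hq1, ← Category.assoc,
        hq2, Category.assoc, Category.assoc, hr, hcond, MonObj.mul_comp, MonObj.mul_comp, GrpObj.inv_comp,
        Category.assoc])
    exact ⟨a', ha'.symm⟩
  · obtain ⟨q, hq1, hq2⟩ := exists_lift_map t (g ≫ r) (h ≫ r)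
    obtain ⟨a', ha'⟩ := hfacP (g * h * g⁻¹ * h⁻¹) (q ≫ F'.map l) (by
      rw [Category.assoc, ← F'.map_comp, hl, Functor.map_mul, Functor.map_mul, Functor.map_mul, map_inv', map_inv',
        Functor.map_comp, Functor.map_comp, MonObj.comp_mul, MonObj.comp_mul, MonObj.comp_mul, GrpObj.comp_inv,
        GrpObj.comp_inv, ← Category.assoc, hq1, ← Category.assoc, hq2, Category.assoc, Category.assoc, hr,
        MonObj.mul_comp, MonObj.mul_comp, MonObj.mul_comp, GrpObj.inv_comp, GrpObj.inv_comp])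
    exact ⟨a', ha'.symm⟩
  · refine (Topology.IsInducing.topologicalKrullDim_le πZ.left.isOpenEmbedding.isInducing).trans ?_
    show topologicalKrullDim (Red.bc t Z).left ≤ _
    rw [SpecFamily.dim_bc_eq t (SchClosure.σ R K)]
    haveI : IsIso e.left := ((Over.forget _).mapIso (asIso e)).isIso_hom
    exact e.left.homeomorph.isHomeomorph.topologicalKrullDim_eq.le

section Transport

variable {S : Type*} [Category S] [CartesianMonoidalCategory S] {A B N : S} [GrpObj A] [GrpObj B] (a : A ≅ B)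
  [IsMonHom a.hom] (j : N ⟶ A)

theorem conj_transport (h : ∀ (T : S) (g : T ⟶ A) (n : T ⟶ N), ∃ n' : T ⟶ N, g * (n ≫ j) * g⁻¹ = n' ≫ j)
    (T : S) (g : T ⟶ B) (n : T ⟶ N) : ∃ n' : T ⟶ N, g * (n ≫ j ≫ a.hom) * g⁻¹ = n' ≫ j ≫ a.hom := by
  obtain ⟨n', hn'⟩ := h T (g ≫ a.inv) n
  refine ⟨n', ?_⟩
  have := congrArg (· ≫ a.hom) hn'
  simp only [MonObj.mul_comp, GrpObj.inv_comp, Category.assoc, Iso.inv_hom_id, Category.comp_id] at this
  exact this

theorem comm_transport (h : ∀ (T : S) (g k : T ⟶ A), ∃ m : T ⟶ N, g * k * g⁻¹ * k⁻¹ = m ≫ j)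
    (T : S) (g k : T ⟶ B) : ∃ m : T ⟶ N, g * k * g⁻¹ * k⁻¹ = m ≫ j ≫ a.hom := by
  obtain ⟨m, hm⟩ := h T (g ≫ a.inv) (k ≫ a.inv)
  refine ⟨m, ?_⟩
  have := congrArg (· ≫ a.hom) hm
  simp only [MonObj.mul_comp, GrpObj.inv_comp, Category.assoc, Iso.inv_hom_id, Category.comp_id] at this
  exact this

end Transport

/-- Geometric fibres at a specialisation are fibres of one group over a valuation ring. -/
theorem exists_valuation_model {S : Scheme.{u}} (G : Over S) [GrpObj G] {s s' : S} (hs : s ⤳ s') :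
    ∃ (V : ValuationSubring (AlgebraicClosure (S.residueField s))) (v : Spec (CommRingCat.of V) ⟶ S)
      (t : Spec (CommRingCat.of (AlgebraicClosure (S.residueField s'))) ⟶ Spec (CommRingCat.of V))
      (a : Red.bc (SchClosure.σ V (AlgebraicClosure (S.residueField s))) (Red.bc v G) ≅ Red.geomFibre s G)
      (b : Red.bc t (Red.bc v G) ≅ Red.geomFibre s' G),
      IsMonHom a.hom ∧ IsMonHom a.inv ∧ IsMonHom b.hom ∧ IsMonHom b.inv := by
  obtain ⟨V, v, ψ, -, h1, h2⟩ := SpecVal.exists_valuation_scheme hs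
  obtain ⟨a₁⟩ := GrpSchLib.MultTypeBC.bc_bc (SchClosure.σ V (AlgebraicClosure (S.residueField s))) v G
  obtain ⟨a₂⟩ := GrpSchLib.MultTypeBC.bc_congr h1 G
  obtain ⟨b₁⟩ := GrpSchLib.MultTypeBC.bc_bc (Spec.map (CommRingCat.ofHom ψ)) v G
  obtain ⟨b₂⟩ := GrpSchLib.MultTypeBC.bc_congr h2 G
  exact ⟨V, v, Spec.map (CommRingCat.ofHom ψ), (Grp.forget _).mapIso (a₁ ≪≫ a₂), (Grp.forget _).mapIso (b₁ ≪≫ b₂),
    (a₁ ≪≫ a₂).hom.hom.isMonHom_hom, (a₁ ≪≫ a₂).inv.hom.isMonHom_hom, (b₁ ≪≫ b₂).hom.hom.isMonHom_hom,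
    (b₁ ≪≫ b₂).inv.hom.isMonHom_hom⟩

/-- Normal subgroups containing the commutators specialise, with the dimension of the ambient fibre. -/
theorem derived_specialized {S : Scheme.{u}} (G : Over S) [GrpObj G] [Smooth G.hom] [QuasiCompact G.hom] {s s' : S}
    (hs : s ⤳ s') {N : Over (Spec (CommRingCat.of (AlgebraicClosure (S.residueField s))))} [GrpObj N]
    (j : N ⟶ Red.geomFibre s G) [IsMonHom j] [IsClosedImmersion j.left] (hN : AlgGrp.IsNormalHom j)
    (hcomm : ∀ (T : Over (Spec (CommRingCat.of (AlgebraicClosure (S.residueField s))))) (g h : T ⟶ Red.geomFibre s G),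
      ∃ m : T ⟶ N, g * h * g⁻¹ * h⁻¹ = m ≫ j) :
    ∃ (N' : Over (Spec (CommRingCat.of (AlgebraicClosure (S.residueField s'))))) (_ : GrpObj N')
      (i : N' ⟶ Red.geomFibre s' G), IsMonHom i ∧ IsClosedImmersion i.left ∧ AlgGrp.IsNormalHom i ∧
      (∀ (T : Over (Spec (CommRingCat.of (AlgebraicClosure (S.residueField s'))))) (g h : T ⟶ Red.geomFibre s' G),
        ∃ m : T ⟶ N', g * h * g⁻¹ * h⁻¹ = m ≫ i) ∧
      topologicalKrullDim N'.left = topologicalKrullDim N.left ∧
      topologicalKrullDim (Red.geomFibre s' G).left = topologicalKrullDim (Red.geomFibre s G).left := by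
  obtain ⟨V, v, t, a, b, ha, ha', hb, hb'⟩ := exists_valuation_model G hs
  let GV := Red.bc v G
  haveI : Smooth GV.hom := inferInstanceAs (Smooth (pullback.snd G.hom v))
  haveI : QuasiCompact GV.hom := inferInstanceAs (QuasiCompact (pullback.snd G.hom v))
  haveI : IsIso a.inv.left := ((Over.forget _).mapIso a).isIso_inv
  haveI : IsIso b.hom.left := ((Over.forget _).mapIso b).isIso_hom
  haveI : IsIso a.hom.left := ((Over.forget _).mapIso a).isIso_hom
  haveI : IsMonHom a.symm.hom := ha'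
  haveI : IsClosedImmersion (j ≫ a.inv).left := inferInstanceAs (IsClosedImmersion (j.left ≫ a.inv.left))
  obtain ⟨N', hg, i, hi, hic, hin, hicomm, hdim⟩ := derived_special t (G := GV) (j ≫ a.inv)
    (conj_transport a.symm j hN) (comm_transport a.symm j hcomm)
  haveI := hi; haveI := hic
  refine ⟨N', hg, i ≫ b.hom, inferInstance, inferInstanceAs (IsClosedImmersion (i.left ≫ b.hom.left)),
    conj_transport b i hin, comm_transport b i hicomm, hdim, ?_⟩
  rw [← b.hom.left.homeomorph.isHomeomorph.topologicalKrullDim_eq,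
    ← a.hom.left.homeomorph.isHomeomorph.topologicalKrullDim_eq]
  exact SpecFamily.dim_bc_eq _ _

/-- The derived group of the identity component specialises. -/
theorem neutral_specialized {S : Scheme.{u}} (G : Over S) [GrpObj G] [Smooth G.hom] [QuasiCompact G.hom] {s s' : S}
    (hs : s ⤳ s') {C : Over (Spec (CommRingCat.of (AlgebraicClosure (S.residueField s))))} [GrpObj C]
    (c : C ⟶ Red.geomFibre s G) [IsMonHom c] [IsOpenImmersion c.left] [IsClosedImmersion c.left]
    {N : Over (Spec (CommRingCat.of (AlgebraicClosure (S.residueField s))))} [GrpObj N] (i : N ⟶ C) [IsMonHom i]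
    [IsClosedImmersion i.left] (hN : AlgGrp.IsNormalHom i)
    (hcomm : ∀ (T : Over (Spec (CommRingCat.of (AlgebraicClosure (S.residueField s))))) (g h : T ⟶ C),
      ∃ m : T ⟶ N, g * h * g⁻¹ * h⁻¹ = m ≫ i) :
    ∃ (C' : Over (Spec (CommRingCat.of (AlgebraicClosure (S.residueField s'))))) (_ : GrpObj C')
      (c' : C' ⟶ Red.geomFibre s' G) (N' : Over (Spec (CommRingCat.of (AlgebraicClosure (S.residueField s')))))
      (_ : GrpObj N') (i' : N' ⟶ C'),
      IsMonHom c' ∧ IsOpenImmersion c'.left ∧ IsClosedImmersion c'.left ∧ ConnectedSpace ↥C'.left ∧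
      IsMonHom i' ∧ IsClosedImmersion i'.left ∧ AlgGrp.IsNormalHom i' ∧
      (∀ (T : Over (Spec (CommRingCat.of (AlgebraicClosure (S.residueField s'))))) (g h : T ⟶ C'),
        ∃ m : T ⟶ N', g * h * g⁻¹ * h⁻¹ = m ≫ i') ∧
      topologicalKrullDim N'.left ≤ topologicalKrullDim N.left := by
  obtain ⟨V, v, t, a, b, ha, ha', hb, hb'⟩ := exists_valuation_model G hs
  let GV := Red.bc v G
  haveI : Smooth GV.hom := inferInstanceAs (Smooth (pullback.snd G.hom v))
  haveI : QuasiCompact GV.hom := inferInstanceAs (QuasiCompact (pullback.snd G.hom v))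
  haveI : IsIso a.inv.left := ((Over.forget _).mapIso a).isIso_inv
  haveI : IsIso b.hom.left := ((Over.forget _).mapIso b).isIso_hom
  haveI : IsClosedImmersion (c ≫ a.inv).left := inferInstanceAs (IsClosedImmersion (c.left ≫ a.inv.left))
  haveI : IsOpenImmersion (c ≫ a.inv).left := inferInstanceAs (IsOpenImmersion (c.left ≫ a.inv.left))
  obtain ⟨C', hC', c', N', hN', i', hc', hco, hcc, hconn, hi', hic, hin, hicomm, hdim⟩ :=
    neutral_special t (G := GV) (c ≫ a.inv) i hN hcomm
  haveI := hc'; haveI := hco; haveI := hcc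
  exact ⟨C', hC', c' ≫ b.hom, N', hN', i', inferInstance, inferInstanceAs (IsOpenImmersion (c'.left ≫ b.hom.left)),
    inferInstanceAs (IsClosedImmersion (c'.left ≫ b.hom.left)), hconn, hi', hic, hin, hicomm, hdim⟩

end Groth.Agent.AlgGrp25.SpecDerived
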