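import Groth.Prelude.Def_Red
import Mathlib.RingTheory.Valuation.LocalSubring
import Mathlib.FieldTheory.IsAlgClosed.AlgebraicClosure
import Mathlib.RingTheory.Localization.FractionRing

/-!
# Valuation rings realising specialisations between geometric points

A valuation subring of an algebraically closed field which is minimal among those dominating a local ring
has a residue field which is an algebraic closure of the residue field of the local ring.
-/

universe u

set_option linter.style.haveILetI false

open CategoryTheory AlgebraicGeometry IsLocalRing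

namespace Groth.Agent.AlgGrp25.SpecVal

variable {A : Type u} [CommRing A] [IsLocalRing A] {K : Type u} [Field K] (φ : A →+* K)

/-- A valuation subring of `K` dominates the local ring `A`. -/
def Dom (V : ValuationSubring K) : Prop :=
  (∀ a, φ a ∈ V) ∧ ∀ a ∈ maximalIdeal A, φ a = 0 ∨ (φ a)⁻¹ ∉ V

theorem exists_dom : ∃ V, Dom φ V := by
  obtain ⟨V, h, hloc⟩ := IsLocalRing.exists_factor_valuationRing φ
  refine ⟨V, h, fun a ha => or_iff_not_imp_left.2 fun h0 hinv => ?_⟩
  exact ha (hloc.1 a ⟨⟨⟨φ a, h a⟩, ⟨(φ a)⁻¹, hinv⟩, Subtype.ext (mul_inv_cancel₀ h0),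
    Subtype.ext (inv_mul_cancel₀ h0)⟩, rfl⟩)

theorem exists_minimal_dom : ∃ V, Dom φ V ∧ ∀ W, Dom φ W → W ≤ V → V ≤ W := by
  obtain ⟨V₀, hV₀⟩ := exists_dom φ
  obtain ⟨S, hS, hmin⟩ := zorn_superset_nonempty {S : Set K | ∃ W : ValuationSubring K, Dom φ W ∧ (W : Set K) = S}
    (fun c hc hchain hne => by
      choose W hW hWeq using fun s : c => hc s.2
      haveI : Nonempty c := hne.to_subtype
      refine ⟨⋂ s : c, (W s : Set K), ⟨⟨⨅ s, (W s).toSubring, fun x => ?_⟩, ⟨?_, ?_⟩, ?_⟩, ?_⟩
      · by_cases h : ∀ s, x ∈ W s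
        · exact Or.inl (Subring.mem_iInf.2 h)
        · push Not at h
          obtain ⟨s, hs⟩ := h
          refine Or.inr (Subring.mem_iInf.2 fun t => ?_)
          have h1 : x⁻¹ ∈ W s := ((W s).mem_or_inv_mem x).resolve_left hs
          rcases hchain.total s.2 t.2 with h2 | h2
          · exact (hWeq t).symm.le ((h2 ((hWeq s).le h1) : _))
          · refine ((W t).mem_or_inv_mem x).resolve_left fun hx => hs ?_
            exact (hWeq s).symm.le (h2 ((hWeq t).le hx))
      · exact fun a => Subring.mem_iInf.2 fun s => (hW s).1 a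
      · intro a ha
        obtain ⟨s⟩ := ‹Nonempty c›
        exact ((hW s).2 a ha).imp_right fun h hx => h (Subring.mem_iInf.1 hx s)
      · exact Set.ext fun x => (Subring.mem_iInf.trans Set.mem_iInter.symm)
      · exact fun s hs => (Set.iInter_subset _ (⟨s, hs⟩ : c)).trans (hWeq _).le)
    (V₀ : Set K) ⟨V₀, hV₀, rfl⟩
  obtain ⟨⟨V, hV, rfl⟩, hmin⟩ := hmin
  exact ⟨V, hV, fun W hW hle => hmin ⟨W, hW, rfl⟩ hle⟩

/-- The residue field of a valuation subring of an algebraically closed field is algebraically closed. -/
theorem isAlgClosed_residue [IsAlgClosed K] (V : ValuationSubring K) : IsAlgClosed (ResidueField V) := by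
  refine IsAlgClosed.of_exists_root _ fun p hp hirr => ?_
  have hl : p ∈ Polynomial.lifts (residue V) :=
    Polynomial.lifts_iff_coeff_lifts p |>.2 fun n => residue_surjective _
  obtain ⟨q, hq, hqd, hqm⟩ := Polynomial.lifts_and_degree_eq_and_monic hl hp
  have hdeg : (q.map (algebraMap V K)).degree ≠ 0 := by
    rw [hqm.degree_map, hqd]
    exact (Polynomial.degree_pos_of_irreducible hirr).ne'
  obtain ⟨x, hx⟩ := IsAlgClosed.exists_root _ hdeg
  have hint : IsIntegral V x := ⟨q, hqm, by rwa [Polynomial.IsRoot.def, Polynomial.eval_map] at hx⟩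
  obtain ⟨y, rfl⟩ := IsIntegrallyClosed.isIntegral_iff.mp hint
  refine ⟨residue V y, ?_⟩
  have hy : q.eval y = 0 := by
    apply IsFractionRing.injective V K
    rw [map_zero, ← Polynomial.eval₂_at_apply, ← Polynomial.eval_map]
    exact hx
  rw [Polynomial.eval, ← hq, Polynomial.eval₂_map, RingHom.id_comp, Polynomial.eval₂_at_apply, hy, map_zero]

variable [IsAlgClosed K] {L : Type u} [Field L] [IsAlgClosed L] (j : ResidueField A →+* L)

/-- A valuation subring of `K` dominating `A` with residue field the given algebraic closure. -/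
theorem exists_valuation (hj : j.IsIntegral) : ∃ (V : ValuationSubring K) (h : ∀ a, φ a ∈ V) (ψ : V →+* L), Function.Surjective ψ ∧
    ψ.comp (φ.codRestrict V h) = j.comp (residue A) := by
  classical
  letI : Algebra (ResidueField A) L := j.toAlgebra
  haveI : Algebra.IsIntegral (ResidueField A) L := ⟨hj⟩
  obtain ⟨V, hV, hmin⟩ := exists_minimal_dom φ
  let φV : A →+* V := φ.codRestrict V hV.1
  haveI : IsLocalHom φV := by
    refine ⟨fun a ha => ?_⟩
    by_contra hna
    obtain ⟨w, hw⟩ := isUnit_iff_exists_inv.1 ha
    have hw' : φ a * (w : K) = 1 := congrArg Subtype.val hw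
    rcases hV.2 a hna with h0 | hinv
    · rw [h0, zero_mul] at hw'
      exact zero_ne_one hw'
    · exact hinv (eq_inv_of_mul_eq_one_right hw' ▸ w.2)
  letI : Algebra (ResidueField A) (ResidueField V) := (ResidueField.map φV).toAlgebra
  haveI := isAlgClosed_residue V
  haveI : Algebra.IsAlgebraic (ResidueField A) (ResidueField V) := by
    refine ⟨fun t => by_contra fun ht => ?_⟩
    have htr : Transcendental (ResidueField A) t := ht
    let B := (Polynomial.aeval (R := ResidueField A) t).toRingHom.range
    let I : Ideal B := Ideal.span {⟨t, Polynomial.X, Polynomial.aeval_X (R := ResidueField A) t⟩}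
    have hI : I ≠ ⊤ := by
      intro hI
      obtain ⟨⟨_, q, rfl⟩, hq⟩ := Ideal.mem_span_singleton'.1 (hI.symm ▸ Submodule.mem_top : (1 : B) ∈ I)
      have hq' : Polynomial.aeval (R := ResidueField A) t (q * Polynomial.X) = Polynomial.aeval (R := ResidueField A) t 1 := by
        rw [map_mul, Polynomial.aeval_X, map_one]
        exact congrArg Subtype.val hq
      have h1 := congrArg (Polynomial.eval 0) (transcendental_iff_injective.1 htr hq')
      simp at h1
    obtain ⟨W, hBW, hIW⟩ := Ideal.image_subset_nonunits_valuationSubring I hI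
    have hres : ∀ a, residue V (φV a) ∈ W := fun a => hBW ⟨Polynomial.C (residue A a), by
      rw [AlgHom.toRingHom_eq_coe, RingHom.coe_coe, Polynomial.aeval_C]
      rfl⟩
    let V' : ValuationSubring K :=
      { toSubring := (W.toSubring.comap (residue V)).map V.toSubring.subtype
        mem_or_inv_mem' := fun x => by
          by_cases hx : x ∈ V
          · by_cases hxW : residue V ⟨x, hx⟩ ∈ W
            · exact Or.inl ⟨⟨x, hx⟩, hxW, rfl⟩
            · have hu : IsUnit (⟨x, hx⟩ : V) := by
                by_contra hn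
                exact hxW (by rw [(residue_eq_zero_iff _).2 hn]; exact zero_mem _)
              obtain ⟨w, hw⟩ := isUnit_iff_exists_inv.1 hu
              have hxw : x * (w : K) = 1 := congrArg Subtype.val hw
              have hr : residue V w = (residue V ⟨x, hx⟩)⁻¹ :=
                eq_inv_of_mul_eq_one_right (by rw [← map_mul, hw, map_one])
              refine Or.inr ⟨w, ?_, eq_inv_of_mul_eq_one_right hxw⟩
              show residue V w ∈ W
              rw [hr]
              exact (W.mem_or_inv_mem _).resolve_left hxW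
          · have hxi : x⁻¹ ∈ V := (V.mem_or_inv_mem x).resolve_left hx
            refine Or.inr ⟨⟨x⁻¹, hxi⟩, ?_, rfl⟩
            have hn : ¬ IsUnit (⟨x⁻¹, hxi⟩ : V) := fun hu => by
              obtain ⟨w, hw⟩ := isUnit_iff_exists_inv.1 hu
              have hw' : x⁻¹ * (w : K) = 1 := congrArg Subtype.val hw
              exact hx (by have := eq_inv_of_mul_eq_one_right hw'; rw [inv_inv] at this; exact this ▸ w.2)
            show residue V ⟨x⁻¹, hxi⟩ ∈ W
            rw [(residue_eq_zero_iff _).2 hn]
            exact zero_mem _ }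
    have hle : V' ≤ V := by
      rintro x ⟨y, -, rfl⟩
      exact y.2
    have hdom : Dom φ V' :=
      ⟨fun a => ⟨φV a, hres a, rfl⟩, fun a ha => (hV.2 a ha).imp_right fun h hx => h (hle hx)⟩
    have htW : t⁻¹ ∈ W := by
      obtain ⟨y, hy⟩ := residue_surjective (R := V) t⁻¹
      obtain ⟨z, hz, hzy⟩ := hmin V' hdom hle y.2
      have : z = y := Subtype.ext hzy
      rw [this] at hz
      rwa [← hy]
    have ht0 : t ≠ 0 := fun h0 => htr (h0 ▸ isAlgebraic_zero)
    have htn : t ∈ W.nonunits := hIW ⟨_, Ideal.subset_span rfl, rfl⟩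
    rcases W.mem_nonunits_iff_or.1 htn with h | h
    · exact ht0 h
    · exact h htW
  haveI : IsAlgClosure (ResidueField A) (ResidueField V) := ⟨inferInstance, inferInstance⟩
  haveI : IsAlgClosure (ResidueField A) L := ⟨inferInstance, inferInstance⟩
  let e := IsAlgClosure.equiv (ResidueField A) (ResidueField V) L
  refine ⟨V, hV.1, (e.toRingEquiv.toRingHom).comp (residue V), e.surjective.comp residue_surjective, ?_⟩
  ext a
  exact e.commutes (residue A a)

theorem specMap_comp_assoc {A B C : CommRingCat.{u}} {X : Scheme.{u}} (a : A ⟶ B) (b : B ⟶ C) (g : Spec A ⟶ X) :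
    Spec.map (a ≫ b) ≫ g = Spec.map b ≫ Spec.map a ≫ g := by
  rw [Spec.map_comp, Category.assoc]

/-- A specialisation of points is realised by a valuation ring between their geometric points. -/
theorem exists_valuation_scheme {S : Scheme.{u}} {s s' : S} (h : s ⤳ s') :
    ∃ (V : ValuationSubring (AlgebraicClosure (S.residueField s))) (v : Spec (CommRingCat.of V) ⟶ S)
      (ψ : V →+* AlgebraicClosure (S.residueField s')), Function.Surjective ψ ∧
      Spec.map (CommRingCat.ofHom (algebraMap V (AlgebraicClosure (S.residueField s)))) ≫ v = Red.geomPt s ∧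
      Spec.map (CommRingCat.ofHom ψ) ≫ v = Red.geomPt s' := by
  let f : S.presheaf.stalk s' →+* AlgebraicClosure (S.residueField s) :=
    (algebraMap (S.residueField s) _).comp ((S.presheaf.stalkSpecializes h ≫ S.residue s).hom)
  obtain ⟨V, hV, ψ, hs, hψ⟩ := exists_valuation f
    (algebraMap (S.residueField s') (AlgebraicClosure (S.residueField s'))) fun x => Algebra.IsIntegral.isIntegral (R := S.residueField s') x
  refine ⟨V, Spec.map (CommRingCat.ofHom (f.codRestrict V hV)) ≫ S.fromSpecStalk s', ψ, hs, ?_, ?_⟩
  · rw [← Category.assoc, ← Spec.map_comp, ← CommRingCat.ofHom_comp]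
    have h1 : CommRingCat.ofHom ((algebraMap V (AlgebraicClosure (S.residueField s))).comp (f.codRestrict V hV)) =
        (S.presheaf.stalkSpecializes h ≫ S.residue s) ≫
          CommRingCat.ofHom (algebraMap (S.residueField s) (AlgebraicClosure (S.residueField s))) := rfl
    rw [h1]
    refine (specMap_comp_assoc _ _ _).trans ?_
    rw [specMap_comp_assoc, Scheme.SpecMap_stalkSpecializes_fromSpecStalk]
    rfl
  · rw [← Category.assoc, ← Spec.map_comp, ← CommRingCat.ofHom_comp]
    have h2 : CommRingCat.ofHom (ψ.comp (f.codRestrict V hV)) = S.residue s' ≫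
        CommRingCat.ofHom (algebraMap (S.residueField s') (AlgebraicClosure (S.residueField s'))) := by
      rw [hψ]
      rfl
    rw [h2]
    exact specMap_comp_assoc _ _ _

end Groth.Agent.AlgGrp25.SpecVal
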