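import Groth.Agent.AlgGrp25.SpecLaw
import Groth.Agent.AlgGrp25.SpecVal
import Groth.Agent.AlgGrp25.LinPart
import Groth.Agent.GrpSchLib.IdentityComp
import Groth.Agent.GrpSchLib.RedSubgroup
import Groth.Agent.GrpSchLib.PerfectSmooth
import Groth.Agent.GrpSchLib.FibreDimGrp
import Groth.Agent.GrpSchLib.MultTypeBC
import Groth.Agent.FlatMisc.ApproxDim
import Groth.Agent.S0429

/-!
# Specialisation of subgroups satisfying a law

A smooth connected subgroup of a geometric fibre satisfying a law spreads, by schematic closure over a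
valuation ring, to a subgroup of the same dimension in the geometric fibre at a specialised point.
-/

universe u

open CategoryTheory Limits AlgebraicGeometry MonoidalCategory CartesianMonoidalCategory MonObj GrpObj
open scoped CategoryTheory.Obj

set_option linter.style.haveILetI false
set_option synthInstance.maxHeartbeats 200000
set_option maxHeartbeats 1000000
set_option backward.isDefEq.respectTransparency false
set_option backward.isDefEq.respectTransparency.types false

namespace Groth.Agent.AlgGrp25.SpecFamily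

variable {R : Type u} [CommRing R] [IsDomain R]

/-- The dimension of the fibres of a flat group of finite type over a local domain is constant. -/
theorem dim_bc_eq [IsLocalRing R] {Z : Over (Spec (CommRingCat.of R))} [GrpObj Z] [Flat Z.hom]
    [LocallyOfFiniteType Z.hom] {k L : Type u} [Field k] [Field L] (a : Spec (CommRingCat.of k) ⟶ Spec (CommRingCat.of R))
    (b : Spec (CommRingCat.of L) ⟶ Spec (CommRingCat.of R)) :
    topologicalKrullDim (Red.bc a Z).left = topologicalKrullDim (Red.bc b Z).left := by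
  haveI : LocallyOfFinitePresentation Z.hom := S0429.result Z.hom
  have key : ∀ {F : Type u} [Field F] (t : Spec (CommRingCat.of F) ⟶ Spec (CommRingCat.of R)),
      topologicalKrullDim (Red.bc t Z).left = topologicalKrullDim ↥(Z.hom ⁻¹' {t (IsLocalRing.closedPoint F)}) := by
    intro F _ t
    rw [← (Z.hom.fiberHomeo _).isHomeomorph.topologicalKrullDim_eq,
      ← FlatMisc.ApproxDim.fibre_dim_baseChange (IsPullback.of_hasPullback Z.hom t) (IsLocalRing.closedPoint F),
      ((pullback.snd Z.hom t).fiberHomeo _).isHomeomorph.topologicalKrullDim_eq]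
    refine ((Homeomorph.setCongr ?_).trans (Homeomorph.Set.univ _)).symm.isHomeomorph.topologicalKrullDim_eq
    exact Set.eq_univ_of_forall fun x => Subsingleton.elim (α := PrimeSpectrum F) _ _
  rw [key a, key b]
  exact (GrpSchLib.FibreDimGrp.isLocallyConstant Z).apply_eq_of_preconnectedSpace _ _

variable [ValuationRing R] {K : Type u} [Field K] [Algebra R K] [IsFractionRing R K]
  {G : Over (Spec (CommRingCat.of R))} [GrpObj G] [LocallyOfFiniteType G.hom] [QuasiCompact G.hom]
  {L : Type u} [Field L] (t : Spec (CommRingCat.of L) ⟶ Spec (CommRingCat.of R))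

variable (G K) in
/-- The closure of the trivial subgroup of the generic fibre. -/
theorem exists_trivial_closure :
    ∃ (E : Over (Spec (CommRingCat.of R))) (_ : GrpObj E) (i : E ⟶ G), IsMonHom i ∧
      LocallyOfFiniteType E.hom ∧ QuasiCompact E.hom ∧ topologicalKrullDim (Red.bc t E).left ≤ 0 ∧
      ∀ (T : Over (Spec (CommRingCat.of R))) [Flat T.hom] (a : T ⟶ G),
        (Over.pullback (SchClosure.σ R K)).map a = 1 → ∃ a' : T ⟶ E, a' ≫ i = a := by
  let GK := Red.bc (SchClosure.σ R K) G
  haveI : IsSeparated GK.hom := GrpSchLib.AntiAffine.isSeparated_grp GK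
  haveI : IsClosedImmersion η[GK].left := by
    haveI : IsClosedImmersion (η[GK].left ≫ GK.hom) := by
      rw [Over.w]; exact inferInstanceAs (IsClosedImmersion (𝟙 (Spec (CommRingCat.of K))))
    exact IsClosedImmersion.of_comp η[GK].left GK.hom
  haveI : QuasiCompact (𝟙_ (Over (Spec (CommRingCat.of K)))).hom :=
    inferInstanceAs (QuasiCompact (𝟙 (Spec (CommRingCat.of K))))
  obtain ⟨E, hg, i, e, hi, hic, hf, hft, he, hei, hje, hfac⟩ := SchClosure.exists_closure (G := G) η[GK]
  haveI := hic; haveI := hf; haveI := hft; haveI := hei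
  have hqc : QuasiCompact E.hom := by
    rw [← Over.w i]
    infer_instance
  refine ⟨E, hg, i, hi, hft, hqc, ?_, fun T _ a ha => hfac T a (toUnit _) ?_⟩
  · rw [dim_bc_eq t (SchClosure.σ R K)]
    haveI : IsIso e.left := ((Over.forget _).mapIso (asIso e)).isIso_hom
    rw [e.left.homeomorph.isHomeomorph.topologicalKrullDim_eq]
    show topologicalKrullDim (PrimeSpectrum K) ≤ 0
    rw [PrimeSpectrum.topologicalKrullDim_eq_ringKrullDim, ringKrullDim_eq_zero_of_field]
  · rw [ha]
    rfl

variable (Λ : SpecLaw.Series.{u})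

/-- A subgroup of the generic fibre satisfying a law yields a smooth connected one in every fibre over an
algebraically closed field. -/
theorem exists_special [IsAlgClosed L] {X : Over (Spec (CommRingCat.of K))} [GrpObj X]
    (j : X ⟶ Red.bc (SchClosure.σ R K) G) [IsMonHom j] [IsClosedImmersion j.left] (hX : Λ.Triv X) :
    ∃ (C : Over (Spec (CommRingCat.of L))) (_ : GrpObj C) (i : C ⟶ Red.bc t G), IsMonHom i ∧ IsClosedImmersion i.left ∧
      Smooth C.hom ∧ ConnectedSpace ↥C.left ∧ Λ.Triv C ∧ topologicalKrullDim C.left = topologicalKrullDim X.left := by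
  let F := Over.pullback (SchClosure.σ R K)
  let F' := Over.pullback t
  haveI : QuasiCompact (Red.bc (SchClosure.σ R K) G).hom :=
    inferInstanceAs (QuasiCompact (pullback.snd G.hom (SchClosure.σ R K)))
  haveI : QuasiCompact X.hom := by rw [← Over.w j]; infer_instance
  obtain ⟨Z, hZg, c, e, hc, hcc, hZf, hZft, he, hei, hje, -⟩ := SchClosure.exists_closure j
  haveI := hc; haveI := hcc; haveI := hZf; haveI := hZft; haveI := he; haveI := hei
  obtain ⟨E, hEg, iE, hiE, hEft, hEqc, hEdim, hEfac⟩ := exists_trivial_closure K G t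
  haveI := hiE; haveI := hEft; haveI := hEqc
  haveI hflat : Flat (Λ.obj Z).hom := Λ.flat_obj Z hZf
  obtain ⟨l, hl⟩ := hEfac (Λ.obj Z) (Λ.word Z ≫ c) (by
    have h1 : F.map (Λ.word Z) ∈ Λ.ser (F.obj (Λ.obj Z) ⟶ F.obj Z) :=
      Λ.map_le (F.homMonoidHom (X := Λ.obj Z) (M := Z)) ⟨_, Λ.word_mem Z, rfl⟩
    rw [SpecLaw.triv_of_mono e hX] at h1
    rw [Functor.map_comp, Subgroup.mem_bot.1 h1, MonObj.one_comp])
  haveI : QuasiCompact Z.hom := by rw [← Over.w c]; infer_instance
  let ZL := Red.bc t Z
  haveI : LocallyOfFiniteType ZL.hom := inferInstanceAs (LocallyOfFiniteType (pullback.snd Z.hom t))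
  haveI : QuasiCompact ZL.hom := inferInstanceAs (QuasiCompact (pullback.snd Z.hom t))
  obtain ⟨G₀, hG₀, incl, hincl, hinclc, -, hrange, hirr, -⟩ := GrpSchLib.exists_identityComponent (G := ZL)
  haveI := hinclc; haveI := hirr
  haveI : LocallyOfFiniteType G₀.hom := by rw [← Over.w incl]; infer_instance
  haveI : QuasiCompact G₀.hom := by rw [← Over.w incl]; infer_instance
  obtain ⟨C, hCg, iC, hiC, hiCc, hCred, hsurj, hCft, hCqc⟩ := GrpSchLib.RedSubgroup.exists_redSubgroup G₀
  haveI := hiC; haveI := hiCc; haveI := hCred; haveI := hsurj; haveI := hCft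
  let κ : C ⟶ ZL := iC ≫ incl
  haveI : IsClosedImmersion κ.left := inferInstanceAs (IsClosedImmersion (iC.left ≫ incl.left))
  haveI hFcc : IsClosedImmersion (F'.map c).left := MorphismProperty.overPullbackMap (P := @IsClosedImmersion) _ c hcc
  haveI hicl : IsClosedImmersion (κ ≫ F'.map c).left := inferInstanceAs (IsClosedImmersion (κ.left ≫ (F'.map c).left))
  haveI : Mono (κ ≫ F'.map c) := (Over.forget _).mono_of_mono_map (inferInstanceAs (Mono (κ ≫ F'.map c).left))
  haveI hsm : Smooth C.hom := GrpSchLib.smooth_of_perfectField_of_isReduced C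
  haveI : IrreducibleSpace G₀.left := GeometricallyIrreducible.irreducibleSpace_of_subsingleton (f := G₀.hom)
  haveI hCirr : IrreducibleSpace C.left :=
    (iC.left.isClosedEmbedding.isEmbedding.toHomeomorphOfSurjective hsurj.1).irreducibleSpace_iff.mpr ‹_›
  haveI : GeometricallyIrreducible C.hom := GrpSchLib.geometricallyIrreducible_of_isAlgClosed C.hom
  refine ⟨C, hCg, κ ≫ F'.map c, inferInstance, hicl, hsm, inferInstance, ?_, ?_⟩
  · rw [SpecLaw.triv_iff, ← cancel_mono (κ ≫ F'.map c), MonObj.one_comp]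
    have ha : Λ.word C ≫ κ ∈ Λ.ser (Λ.obj C ⟶ ZL) :=
      Λ.map_le (SpecLaw.compHom κ (Λ.obj C)) ⟨_, Λ.word_mem C, rfl⟩
    obtain ⟨b, hb⟩ := SpecLaw.bc_law_range t c iE l hl (Λ.obj C) _ ha
    haveI : Smooth (Λ.obj C).hom := Λ.smooth_obj C hsm
    haveI : GeometricallyIrreducible (Λ.obj C).hom := Λ.irr_obj C hsm ‹_›
    haveI : IrreducibleSpace (Λ.obj C).left :=
      GeometricallyIrreducible.irreducibleSpace_of_subsingleton (f := (Λ.obj C).hom)
    haveI : IsReduced (Λ.obj C).left := by
      haveI := GrpSchLib.geometricallyReduced_of_smooth (Λ.obj C).hom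
      exact SGAGen20.isReduced_of_geometricallyReduced (Λ.obj C).hom
    haveI : LocallyOfFiniteType (Red.bc t E).hom := inferInstanceAs (LocallyOfFiniteType (pullback.snd E.hom t))
    haveI : QuasiCompact (Red.bc t E).hom := inferInstanceAs (QuasiCompact (pullback.snd E.hom t))
    haveI : LocallyOfFiniteType (Red.bc t G).hom := inferInstanceAs (LocallyOfFiniteType (pullback.snd G.hom t))
    obtain ⟨z, hz⟩ := Λ.point C
    refine SpecLaw.eq_one_of_factor hEdim (F'.map iE) _ b (by rw [hb, Category.assoc]) z ?_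
    rw [← Category.assoc, hz, MonObj.one_comp]
  · rw [LinPart.dim_eq_of_range κ (by
        show Set.range (iC.left ≫ incl.left) = _
        rw [Scheme.Hom.comp_base, TopCat.coe_comp, Set.range_comp, hsurj.1.range_eq, Set.image_univ, hrange]),
      dim_bc_eq t (SchClosure.σ R K)]
    haveI : IsIso e.left := ((Over.forget _).mapIso (asIso e)).isIso_hom
    exact e.left.homeomorph.isHomeomorph.topologicalKrullDim_eq

omit [CommRing R] [IsDomain R] [ValuationRing R] in
/-- Specialisation of smooth connected subgroups satisfying a law. -/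
theorem exists_specialized {S : Scheme.{u}} (G : Over S) [GrpObj G] [LocallyOfFiniteType G.hom] [QuasiCompact G.hom]
    {s s' : S} (hs : s ⤳ s') {H : Over (Spec (CommRingCat.of (AlgebraicClosure (S.residueField s))))} [GrpObj H]
    (j : H ⟶ Red.geomFibre s G) [IsMonHom j] [IsClosedImmersion j.left] (hH : Λ.Triv H) :
    ∃ (C : Over (Spec (CommRingCat.of (AlgebraicClosure (S.residueField s'))))) (_ : GrpObj C)
      (i : C ⟶ Red.geomFibre s' G), IsMonHom i ∧ IsClosedImmersion i.left ∧ Smooth C.hom ∧ ConnectedSpace ↥C.left ∧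
      Λ.Triv C ∧ topologicalKrullDim C.left = topologicalKrullDim H.left := by
  obtain ⟨V, v, ψ, -, h1, h2⟩ := SpecVal.exists_valuation_scheme hs
  let GV := Red.bc v G
  haveI : LocallyOfFiniteType GV.hom := inferInstanceAs (LocallyOfFiniteType (pullback.snd G.hom v))
  haveI : QuasiCompact GV.hom := inferInstanceAs (QuasiCompact (pullback.snd G.hom v))
  obtain ⟨a₁⟩ := GrpSchLib.MultTypeBC.bc_bc (SchClosure.σ V (AlgebraicClosure (S.residueField s))) v G
  obtain ⟨a₂⟩ := GrpSchLib.MultTypeBC.bc_congr h1 G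
  obtain ⟨b₁⟩ := GrpSchLib.MultTypeBC.bc_bc (Spec.map (CommRingCat.ofHom ψ)) v G
  obtain ⟨b₂⟩ := GrpSchLib.MultTypeBC.bc_congr h2 G
  let a : Red.bc (SchClosure.σ V (AlgebraicClosure (S.residueField s))) GV ≅ Red.geomFibre s G :=
    (Grp.forget _).mapIso (a₁ ≪≫ a₂)
  let b : Red.bc (Spec.map (CommRingCat.ofHom ψ)) GV ≅ Red.geomFibre s' G := (Grp.forget _).mapIso (b₁ ≪≫ b₂)
  haveI : IsMonHom a.inv := (a₁ ≪≫ a₂).inv.hom.isMonHom_hom
  haveI : IsMonHom b.hom := (b₁ ≪≫ b₂).hom.hom.isMonHom_hom
  haveI : IsIso a.inv.left := ((Over.forget _).mapIso a).isIso_inv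
  haveI : IsIso b.hom.left := ((Over.forget _).mapIso b).isIso_hom
  haveI : IsClosedImmersion (j ≫ a.inv).left := inferInstanceAs (IsClosedImmersion (j.left ≫ a.inv.left))
  obtain ⟨C, hC, i, hi, hic, hsm, hconn, htriv, hdim⟩ :=
    exists_special (Spec.map (CommRingCat.ofHom ψ)) Λ (G := GV) (j ≫ a.inv) hH
  haveI := hi; haveI := hic
  exact ⟨C, hC, i ≫ b.hom, inferInstance, inferInstanceAs (IsClosedImmersion (i.left ≫ b.hom.left)), hsm, hconn,
    htriv, hdim⟩

end Groth.Agent.AlgGrp25.SpecFamily
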