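import Groth.Agent.AlgGrp25.SpecFamily
import Groth.Agent.FibDim.BaseField

/-!
# Subgroups satisfying a law under extensions of algebraically closed fields

A smooth connected subgroup over an algebraically closed extension specialises, along a valuation ring with
residue field the small field, to one of the same dimension over the small field.
-/

universe u

open CategoryTheory Limits AlgebraicGeometry MonoidalCategory CartesianMonoidalCategory MonObj GrpObj
open scoped CategoryTheory.Obj

set_option linter.style.haveILetI false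
set_option synthInstance.maxHeartbeats 200000
set_option maxHeartbeats 1000000
set_option backward.isDefEq.respectTransparency false
set_option backward.isDefEq.respectTransparency.types false

namespace Groth.Agent.AlgGrp25.SpecField

theorem bc_id {S : Scheme.{u}} (H : Over S) [GrpObj H] :
    Nonempty (Grp.mk (Red.bc (𝟙 S) H) ≅ Grp.mk H) :=
  ⟨(Functor.mapGrpNatIso (Over.pullbackId (X := S)) ≪≫ Functor.mapGrpIdIso).app (Grp.mk H)⟩

variable {k : Type u} [Field k] [IsAlgClosed k] {F : Type u} [Field F] [IsAlgClosed F] [Algebra k F]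
  {G : Over (Spec (CommRingCat.of k))} [GrpObj G] [LocallyOfFiniteType G.hom] [QuasiCompact G.hom]
  (Λ : SpecLaw.Series.{u})

/-- Descent to the small field. -/
theorem exists_down {U : Over (Spec (CommRingCat.of F))} [GrpObj U]
    (i : U ⟶ Red.bc (Spec.map (CommRingCat.ofHom (algebraMap k F))) G) [IsMonHom i] [IsClosedImmersion i.left]
    (hU : Λ.Triv U) :
    ∃ (C : Over (Spec (CommRingCat.of k))) (_ : GrpObj C) (j : C ⟶ G), IsMonHom j ∧ IsClosedImmersion j.left ∧
      Smooth C.hom ∧ ConnectedSpace ↥C.left ∧ Λ.Triv C ∧ topologicalKrullDim C.left = topologicalKrullDim U.left := by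
  let r : IsLocalRing.ResidueField k →+* k :=
    (RingEquiv.ofBijective (IsLocalRing.residue k)
      ⟨RingHom.injective _, IsLocalRing.residue_surjective⟩).symm.toRingHom
  obtain ⟨V, hV, ψ, -, hψ⟩ := SpecVal.exists_valuation (algebraMap k F) r
    (RingHom.isIntegral_of_surjective r (RingEquiv.surjective _))
  let v : Spec (CommRingCat.of V) ⟶ Spec (CommRingCat.of k) :=
    Spec.map (CommRingCat.ofHom ((algebraMap k F).codRestrict V hV))
  have h1 : SchClosure.σ V F ≫ v = Spec.map (CommRingCat.ofHom (algebraMap k F)) := by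
    simp only [v, SchClosure.σ]
    rw [← Spec.map_comp, ← CommRingCat.ofHom_comp]
    rfl
  have h2 : Spec.map (CommRingCat.ofHom ψ) ≫ v = 𝟙 _ := by
    simp only [v]
    rw [← Spec.map_comp, ← CommRingCat.ofHom_comp, hψ, ← Spec.map_id]
    congr 1
    ext x
    exact (RingEquiv.ofBijective (IsLocalRing.residue k)
      ⟨RingHom.injective _, IsLocalRing.residue_surjective⟩).symm_apply_apply x
  let GV := Red.bc v G
  haveI : LocallyOfFiniteType GV.hom := inferInstanceAs (LocallyOfFiniteType (pullback.snd G.hom v))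
  haveI : QuasiCompact GV.hom := inferInstanceAs (QuasiCompact (pullback.snd G.hom v))
  obtain ⟨a₁⟩ := GrpSchLib.MultTypeBC.bc_bc (SchClosure.σ V F) v G
  obtain ⟨a₂⟩ := GrpSchLib.MultTypeBC.bc_congr h1 G
  obtain ⟨b₁⟩ := GrpSchLib.MultTypeBC.bc_bc (Spec.map (CommRingCat.ofHom ψ)) v G
  obtain ⟨b₂⟩ := GrpSchLib.MultTypeBC.bc_congr h2 G
  obtain ⟨b₃⟩ := bc_id G
  let a : Red.bc (SchClosure.σ V F) GV ≅ Red.bc (Spec.map (CommRingCat.ofHom (algebraMap k F))) G :=
    (Grp.forget _).mapIso (a₁ ≪≫ a₂)
  let b : Red.bc (Spec.map (CommRingCat.ofHom ψ)) GV ≅ G := (Grp.forget _).mapIso (b₁ ≪≫ b₂ ≪≫ b₃)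
  haveI : IsMonHom a.inv := (a₁ ≪≫ a₂).inv.hom.isMonHom_hom
  haveI : IsMonHom b.hom := (b₁ ≪≫ b₂ ≪≫ b₃).hom.hom.isMonHom_hom
  haveI : IsIso a.inv.left := ((Over.forget _).mapIso a).isIso_inv
  haveI : IsIso b.hom.left := ((Over.forget _).mapIso b).isIso_hom
  haveI : IsClosedImmersion (i ≫ a.inv).left := inferInstanceAs (IsClosedImmersion (i.left ≫ a.inv.left))
  obtain ⟨C, hC, j, hj, hjc, hsm, hconn, htriv, hdim⟩ :=
    SpecFamily.exists_special (Spec.map (CommRingCat.ofHom ψ)) Λ (G := GV) (i ≫ a.inv) hU
  haveI := hj; haveI := hjc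
  exact ⟨C, hC, j ≫ b.hom, inferInstance, inferInstanceAs (IsClosedImmersion (j.left ≫ b.hom.left)), hsm, hconn,
    htriv, hdim⟩

omit [IsAlgClosed F] [LocallyOfFiniteType G.hom] [QuasiCompact G.hom] in
/-- Base change to the large field. -/
theorem exists_up {C : Over (Spec (CommRingCat.of k))} [GrpObj C] [LocallyOfFiniteType C.hom] (j : C ⟶ G) [IsMonHom j]
    [IsClosedImmersion j.left] [Smooth C.hom] [ConnectedSpace ↥C.left] (hC : Λ.Triv C) :
    ∃ (U : Over (Spec (CommRingCat.of F))) (_ : GrpObj U)
      (i : U ⟶ Red.bc (Spec.map (CommRingCat.ofHom (algebraMap k F))) G), IsMonHom i ∧ IsClosedImmersion i.left ∧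
      Smooth U.hom ∧ ConnectedSpace ↥U.left ∧ Λ.Triv U ∧ topologicalKrullDim U.left = topologicalKrullDim C.left := by
  let f := Spec.map (CommRingCat.ofHom (algebraMap k F))
  obtain ⟨G₀, hG₀, incl, hincl, hinclc, -, hrange, hirr, -⟩ := GrpSchLib.exists_identityComponent (G := C)
  haveI := hinclc; haveI := hirr
  haveI : IrreducibleSpace C.left := by
    haveI : IrreducibleSpace G₀.left := GeometricallyIrreducible.irreducibleSpace_of_subsingleton (f := G₀.hom)
    have hs : Function.Surjective incl.left := by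
      rw [← Set.range_eq_univ, hrange]
      exact PreconnectedSpace.connectedComponent_eq_univ _
    exact (incl.left.isClosedEmbedding.isEmbedding.toHomeomorphOfSurjective hs).irreducibleSpace_iff.mp ‹_›
  haveI := GrpSchLib.geometricallyIrreducible_of_isAlgClosed C.hom
  haveI : IrreducibleSpace ↥(Red.bc f C).left := by
    haveI : GeometricallyIrreducible (Red.bc f C).hom := inferInstanceAs (GeometricallyIrreducible (pullback.snd C.hom f))
    exact GeometricallyIrreducible.irreducibleSpace_of_subsingleton (f := (Red.bc f C).hom)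
  exact ⟨Red.bc f C, inferInstance, (Over.pullback f).map j, inferInstance,
    MorphismProperty.overPullbackMap (P := @IsClosedImmersion) _ j ‹_›,
    inferInstanceAs (Smooth (pullback.snd C.hom f)), inferInstance, SpecLaw.triv_bc f C hC,
    FibDim.topologicalKrullDim_baseChange (IsPullback.of_hasPullback C.hom f)⟩

end Groth.Agent.AlgGrp25.SpecField
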