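import Groth.Agent.AlgGrp25.SpecFamily
import Groth.Agent.AlgGrp25.AntiPow
import Groth.Agent.GrpSchLib.KernelGrp
import Groth.Agent.H23.Isogeny
import Groth.Agent.H23.RedSub

/-!
# Subgroups satisfying a law under isogenies

Over an algebraically closed field the image of a smooth connected subgroup under a finite homomorphism, and
the reduced identity component of the preimage, keep the dimension and the laws.
-/

universe u

open CategoryTheory Limits AlgebraicGeometry MonoidalCategory CartesianMonoidalCategory MonObj GrpObj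
open scoped CategoryTheory.Obj

set_option linter.style.haveILetI false
set_option synthInstance.maxHeartbeats 200000
set_option maxHeartbeats 1000000
set_option backward.isDefEq.respectTransparency false
set_option backward.isDefEq.respectTransparency.types false

namespace Groth.Agent.AlgGrp25.SpecIsogeny

variable {k : Type u} [Field k]

/-- A finite surjective morphism keeps the dimension. -/
theorem dim_eq_of_finite_surjective {X Y : Over (Spec (CommRingCat.of k))} [LocallyOfFiniteType X.hom]
    [LocallyOfFiniteType Y.hom] (f : X ⟶ Y) [IsFinite f.left] [Surjective f.left] :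
    topologicalKrullDim X.left = topologicalKrullDim Y.left := by
  have key : ∀ x, VarDim.deg X.hom x = VarDim.deg Y.hom (f.left x) := fun x => by
    rw [VarDim.deg_eq_add (f := f.left) Y.hom (Over.w f), H23.Isogeny.fdeg_eq_zero_of_finite, add_zero]
  rw [VarDim.topologicalKrullDim_eq_iSup_deg X.hom, VarDim.topologicalKrullDim_eq_iSup_deg Y.hom]
  refine le_antisymm (iSup_le fun x => le_iSup_of_le (f.left x) (by rw [key])) (iSup_le fun y => ?_)
  obtain ⟨x, rfl⟩ := f.left.surjective y
  exact le_iSup_of_le x (by rw [key])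

variable [IsAlgClosed k]

/-- Laws pass to smooth targets of surjective homomorphisms. -/
theorem triv_of_surjective (Λ : SpecLaw.Series.{u}) {X Y : Over (Spec (CommRingCat.of k))} [GrpObj X] [GrpObj Y]
    [LocallyOfFiniteType X.hom] [QuasiCompact X.hom] [Smooth Y.hom] (q : X ⟶ Y) [IsMonHom q] [Surjective q.left]
    (h : Λ.Triv X) : Λ.Triv Y := by
  haveI : IsSeparated Y.hom := GrpSchLib.AntiAffine.isSeparated_grp Y
  haveI : Smooth (Λ.obj Y).hom := Λ.smooth_obj Y ‹_›
  refine (SpecLaw.triv_iff Y).2 (SGASolv20.ext_of_geometric_points (RingHom.id k) _ _ fun z => ?_)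
  let one : Over.mk (Spec.map (CommRingCat.ofHom (RingHom.id k))) ≅ 𝟙_ (Over (Spec (CommRingCat.of k))) :=
    Over.isoMk (Iso.refl _) (by
      show 𝟙 _ ≫ 𝟙 _ = Spec.map (CommRingCat.ofHom (RingHom.id k))
      rw [Category.comp_id]
      exact (Spec.map_id _).symm)
  rw [MonObj.comp_one, ← cancel_epi one.inv, MonObj.comp_one, ← Category.assoc]
  have hm : ((one.inv ≫ z) ≫ Λ.word Y) ∈ Λ.ser (𝟙_ (Over (Spec (CommRingCat.of k))) ⟶ Y) := by
    rw [Λ.eq_closure]
    exact Subgroup.subset_closure ⟨_, rfl⟩
  rw [← Λ.map_eq (SpecLaw.compHom q _) (fun y => AntiPow.exists_lift_pt q y), h, Subgroup.map_bot] at hm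
  exact Subgroup.mem_bot.1 hm

variable {G H : Over (Spec (CommRingCat.of k))} [GrpObj G] [GrpObj H] [LocallyOfFiniteType G.hom] [QuasiCompact G.hom]
  [LocallyOfFiniteType H.hom] [QuasiCompact H.hom] (f : G ⟶ H) [IsMonHom f] [IsFinite f.left]

/-- The image of a smooth connected subgroup under a finite homomorphism. -/
theorem exists_image {U : Over (Spec (CommRingCat.of k))} [GrpObj U] (i : U ⟶ G) [IsMonHom i] [IsClosedImmersion i.left]
    [Smooth U.hom] [ConnectedSpace ↥U.left] :
    ∃ (V : Over (Spec (CommRingCat.of k))) (_ : GrpObj V) (j : V ⟶ H) (q : U ⟶ V), IsMonHom j ∧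
      IsClosedImmersion j.left ∧ Smooth V.hom ∧ ConnectedSpace ↥V.left ∧ IsMonHom q ∧ IsFinite q.left ∧
      Surjective q.left ∧ q ≫ j = i ≫ f ∧ topologicalKrullDim V.left = topologicalKrullDim U.left := by
  haveI : IsFinite (i ≫ f).left := inferInstanceAs (IsFinite (i.left ≫ f.left))
  haveI : LocallyOfFiniteType U.hom := inferInstance
  haveI : IsReduced U.left := GrpSchLib.isReduced_of_smooth_field U.hom
  let a := (i ≫ f).left
  let I := Scheme.IdealSheafData.vanishingIdeal (⟨Set.range a, a.isClosedMap.isClosed_range⟩ : TopologicalSpace.Closeds H.left)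
  haveI : IsReduced I.subscheme := H23.RedSub.isReduced_vanishingIdeal _
  let V : Over (Spec (CommRingCat.of k)) := Over.mk (I.subschemeι ≫ H.hom)
  let j : V ⟶ H := Over.homMk I.subschemeι rfl
  haveI hjc : IsClosedImmersion j.left := inferInstanceAs (IsClosedImmersion I.subschemeι)
  haveI : Mono j := (Over.forget _).mono_of_mono_map (inferInstanceAs (Mono j.left))
  have hr : Set.range j.left = Set.range a := by
    show Set.range I.subschemeι = _
    rw [Scheme.IdealSheafData.range_subschemeι, Scheme.IdealSheafData.coe_support_vanishingIdeal]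
    rfl
  have hl : ∀ (T : Over (Spec (CommRingCat.of k))) (_ : IsReduced T.left) (b : T ⟶ H),
      Set.range b.left ⊆ Set.range a → ∃ l : T ⟶ V, l ≫ j = b := by
    intro T _ b hb
    obtain ⟨g, hg⟩ := H23.RedSub.exists_lift_closed b.left j.left (hb.trans hr.ge)
    exact ⟨Over.homMk g (by rw [← Over.w j, reassoc_of% hg, Over.w b]), Over.OverMorphism.ext hg⟩
  obtain ⟨q, hq⟩ := hl U inferInstance (i ≫ f) subset_rfl
  haveI hqfin : IsFinite q.left := by
    haveI : IsFinite (q.left ≫ j.left) := by rw [← Over.comp_left, hq]; infer_instance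
    exact IsFinite.of_comp q.left j.left
  haveI hqs : Surjective q.left := ⟨fun y => by
    obtain ⟨x, hx⟩ := hr.le ⟨y, rfl⟩
    refine ⟨x, j.left.isClosedEmbedding.injective ?_⟩
    rw [← hx, ← Scheme.Hom.comp_apply, ← Over.comp_left, hq]⟩
  haveI : IsReduced V.left := inferInstanceAs (IsReduced I.subscheme)
  haveI : LocallyOfFiniteType V.hom := inferInstanceAs (LocallyOfFiniteType (I.subschemeι ≫ H.hom))
  haveI : IsReduced (V ⊗ V).left := GrpSchLib.isReduced_pullback_of_perfectField V.hom V.hom
  haveI : IsReduced (𝟙_ (Over (Spec (CommRingCat.of k)))).left := inferInstanceAs (IsReduced (Spec (CommRingCat.of k)))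
  obtain ⟨η', he⟩ := hl _ inferInstance η[H] (by
    rw [← IsMonHom.one_hom (i ≫ f)]
    rintro _ ⟨z, rfl⟩
    exact ⟨η[U].left z, rfl⟩)
  obtain ⟨μ', hm⟩ := hl (V ⊗ V) inferInstance ((fst V V ≫ j) * (snd V V ≫ j)) (by
    rintro _ ⟨w, rfl⟩
    haveI : Surjective (q ⊗ₘ q).left := by
      rw [show (q ⊗ₘ q) = (q ▷ U) ≫ (V ◁ q) from MonoidalCategory.tensorHom_def q q]
      haveI : Surjective (q ▷ U).left := MorphismProperty.of_isPullback
        ((FpqcDescLib.isPullback_whiskerRight q U).map (Over.forget _)).flip hqs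
      haveI : Surjective (V ◁ q).left := MorphismProperty.of_isPullback
        ((FpqcDescLib.isPullback_whiskerLeft q V).map (Over.forget _)).flip hqs
      exact inferInstanceAs (Surjective ((q ▷ U).left ≫ (V ◁ q).left))
    obtain ⟨z, rfl⟩ := (q ⊗ₘ q).left.surjective w
    refine ⟨((fst U U * snd U U : U ⊗ U ⟶ U)).left z, ?_⟩
    rw [← Scheme.Hom.comp_apply, ← Over.comp_left, ← Scheme.Hom.comp_apply, ← Over.comp_left, MonObj.mul_comp,
      MonObj.comp_mul, tensorHom_fst_assoc, tensorHom_snd_assoc, hq])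
  obtain ⟨ι', hv⟩ := hl V inferInstance j⁻¹ (by
    rintro _ ⟨w, rfl⟩
    obtain ⟨z, rfl⟩ := q.left.surjective w
    refine ⟨((𝟙 U)⁻¹ : U ⟶ U).left z, ?_⟩
    rw [← Scheme.Hom.comp_apply, ← Over.comp_left, ← Scheme.Hom.comp_apply, ← Over.comp_left, GrpObj.inv_comp,
      GrpObj.comp_inv, Category.id_comp, hq])
  obtain ⟨str, hj⟩ := GrpSchLib.exists_grpObj_of_mono j η' he μ' hm ι' hv
  haveI := hj
  haveI : IsMonHom (q ≫ j) := by rw [hq]; infer_instance
  haveI hqm : IsMonHom q := SchClosure.isMonHom_of_comp_mono q j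
  haveI hsm : Smooth V.hom := GrpSchLib.smooth_of_perfectField_of_isReduced V
  have hconn : ConnectedSpace ↥V.left := q.left.surjective.connectedSpace q.left.continuous
  exact ⟨V, str, j, q, hj, hjc, hsm, hconn, hqm, hqfin, hqs, hq, (dim_eq_of_finite_surjective q).symm⟩

/-- The reduced identity component of the preimage of a smooth connected subgroup. -/
theorem exists_preimage [Surjective f.left] {V : Over (Spec (CommRingCat.of k))} [GrpObj V] (j : V ⟶ H) [IsMonHom j]
    [IsClosedImmersion j.left] [Smooth V.hom] [ConnectedSpace ↥V.left] :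
    ∃ (C : Over (Spec (CommRingCat.of k))) (_ : GrpObj C) (i : C ⟶ G) (p : C ⟶ V), IsMonHom i ∧
      IsClosedImmersion i.left ∧ Smooth C.hom ∧ ConnectedSpace ↥C.left ∧ IsMonHom p ∧ IsFinite p.left ∧
      Surjective p.left ∧ p ≫ j = i ≫ f ∧ topologicalKrullDim C.left = topologicalKrullDim V.left ∧
      ∀ Λ : SpecLaw.Series.{u}, Λ.Triv V → Λ.Triv C := by
  haveI : LocallyOfFiniteType V.hom := inferInstance
  let P := pullback f j
  let πG : P ⟶ G := pullback.fst _ _
  let πV : P ⟶ V := pullback.snd _ _
  have hsq := (IsPullback.of_hasPullback f j).map (Over.forget _)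
  haveI : IsClosedImmersion πG.left := MorphismProperty.of_isPullback (P := @IsClosedImmersion) hsq.flip ‹_›
  haveI : IsFinite πV.left := MorphismProperty.of_isPullback (P := @IsFinite) hsq ‹_›
  haveI : Surjective πV.left := MorphismProperty.of_isPullback (P := @Surjective) hsq ‹_›
  haveI : Mono j := (Over.forget _).mono_of_mono_map (inferInstanceAs (Mono j.left))
  haveI : Mono πG := (Over.forget _).mono_of_mono_map (inferInstanceAs (Mono πG.left))
  have hcond : πG ≫ f = πV ≫ j := pullback.condition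
  have hfacP : ∀ {T : Over (Spec (CommRingCat.of k))} (a : T ⟶ G) (b : T ⟶ V),
      a ≫ f = b ≫ j → ∃ a' : T ⟶ P, a' ≫ πG = a := fun a b hab =>
    ⟨pullback.lift a b hab, pullback.lift_fst _ _ _⟩
  obtain ⟨η', he'⟩ := hfacP η[G] η[V] (by rw [IsMonHom.one_hom, IsMonHom.one_hom])
  obtain ⟨μ', hm'⟩ := hfacP ((fst P P ≫ πG) * (snd P P ≫ πG)) ((fst P P ≫ πV) * (snd P P ≫ πV)) (by
    simp only [MonObj.mul_comp, Category.assoc, hcond])
  obtain ⟨ι', hv'⟩ := hfacP πG⁻¹ πV⁻¹ (by rw [GrpObj.inv_comp, GrpObj.inv_comp, hcond])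
  obtain ⟨strP, hP⟩ := GrpSchLib.exists_grpObj_of_mono πG η' he' μ' hm' ι' hv'
  haveI := hP
  haveI : IsMonHom (πV ≫ j) := by rw [← hcond]; infer_instance
  haveI : IsMonHom πV := SchClosure.isMonHom_of_comp_mono πV j
  haveI : LocallyOfFiniteType P.hom := by rw [← Over.w πG]; infer_instance
  haveI : QuasiCompact P.hom := by rw [← Over.w πG]; infer_instance
  obtain ⟨G₀, hG₀, incl, hincl, hinclc, -, hrange, hirr, -⟩ := GrpSchLib.exists_identityComponent (G := P)
  haveI := hinclc; haveI := hirr
  haveI : LocallyOfFiniteType G₀.hom := by rw [← Over.w incl]; infer_instance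
  haveI : QuasiCompact G₀.hom := by rw [← Over.w incl]; infer_instance
  obtain ⟨C, hCg, iC, hiC, hiCc, hCred, hsurj, hCft, hCqc⟩ := GrpSchLib.RedSubgroup.exists_redSubgroup G₀
  haveI := hiC; haveI := hiCc; haveI := hCred; haveI := hsurj; haveI := hCft
  let κ : C ⟶ P := iC ≫ incl
  haveI hκc : IsClosedImmersion κ.left := inferInstanceAs (IsClosedImmersion (iC.left ≫ incl.left))
  haveI hicl : IsClosedImmersion (κ ≫ πG).left := inferInstanceAs (IsClosedImmersion (κ.left ≫ πG.left))
  haveI : Mono (κ ≫ πG) := (Over.forget _).mono_of_mono_map (inferInstanceAs (Mono (κ ≫ πG).left))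
  haveI hsm : Smooth C.hom := GrpSchLib.smooth_of_perfectField_of_isReduced C
  haveI : IrreducibleSpace G₀.left := GeometricallyIrreducible.irreducibleSpace_of_subsingleton (f := G₀.hom)
  haveI hCirr : IrreducibleSpace C.left :=
    (iC.left.isClosedEmbedding.isEmbedding.toHomeomorphOfSurjective hsurj.1).irreducibleSpace_iff.mpr ‹_›
  haveI : GeometricallyIrreducible C.hom := GrpSchLib.geometricallyIrreducible_of_isAlgClosed C.hom
  haveI hpf : IsFinite (κ ≫ πV).left := inferInstanceAs (IsFinite (κ.left ≫ πV.left))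
  have hdim : topologicalKrullDim C.left = topologicalKrullDim V.left := by
    rw [LinPart.dim_eq_of_range κ (by
      show Set.range (iC.left ≫ incl.left) = _
      rw [Scheme.Hom.comp_base, TopCat.coe_comp, Set.range_comp, hsurj.1.range_eq, Set.image_univ, hrange])]
    exact dim_eq_of_finite_surjective πV
  haveI hps : Surjective (κ ≫ πV).left := by
    let p := (κ ≫ πV).left
    haveI hVirr : IrreducibleSpace V.left := by
      obtain ⟨g, hg, hge⟩ := GrpSchLib.exists_isMaxPt (η[V].left (IsLocalRing.closedPoint k))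
      rw [irreducibleSpace_def, Set.top_eq_univ,
        ← PreconnectedSpace.connectedComponent_eq_univ (η[V].left (IsLocalRing.closedPoint k)),
        GrpSchLib.connectedComponent_one hg hge]
      exact isIrreducible_singleton.closure
    haveI : IsFinite p := hpf
    have hle : VarDim.deg V.hom (genericPoint V.left) ≤ VarDim.deg V.hom (p (genericPoint C.left)) := by
      have h1 : VarDim.deg C.hom (genericPoint C.left) = VarDim.deg V.hom (p (genericPoint C.left)) := by
        rw [VarDim.deg_eq_add (f := p) V.hom (Over.w (κ ≫ πV)), H23.Isogeny.fdeg_eq_zero_of_finite, add_zero]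
      rw [← h1]
      have h2 := hdim
      rw [VarDim.topologicalKrullDim_eq_deg_genericPoint C.hom, VarDim.topologicalKrullDim_eq_deg_genericPoint V.hom] at h2
      exact le_of_eq (by exact_mod_cast h2.symm)
    have heq := VarDim.eq_of_specializes_of_deg_le V.hom (genericPoint_specializes (p (genericPoint C.left))) hle
    refine ⟨fun y => ?_⟩
    exact ((heq ▸ genericPoint_specializes y : p (genericPoint C.left) ⤳ y)).mem_closed
      p.isClosedMap.isClosed_range ⟨_, rfl⟩
  refine ⟨C, hCg, κ ≫ πG, κ ≫ πV, inferInstance, hicl, hsm, inferInstance, inferInstance, hpf, hps, ?_, hdim,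
    fun Λ hV => ?_⟩
  · simp only [Category.assoc, hcond]
  · rw [SpecLaw.triv_iff, ← cancel_mono (κ ≫ πG), MonObj.one_comp]
    haveI : IsSeparated H.hom := GrpSchLib.AntiAffine.isSeparated_grp H
    obtain ⟨N, hN, iN, hiN, hiNc, -, hker⟩ := GrpSchLib.exists_kernel f
    haveI := hiN; haveI := hiNc
    haveI : IsFinite N.hom := by
      have hk : IsPullback iN.left (toUnit N).left f.left η[H].left :=
        (hker : IsPullback iN (toUnit N) f η[H]).map (Over.forget _)
      haveI : IsFinite (toUnit N).left := MorphismProperty.of_isPullback hk ‹_›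
      rw [← Over.w (toUnit N)]
      exact inferInstanceAs (IsFinite ((toUnit N).left ≫ 𝟙 _))
    haveI : Smooth (Λ.obj C).hom := Λ.smooth_obj C hsm
    haveI : GeometricallyIrreducible (Λ.obj C).hom := Λ.irr_obj C hsm ‹_›
    haveI : IrreducibleSpace (Λ.obj C).left :=
      GeometricallyIrreducible.irreducibleSpace_of_subsingleton (f := (Λ.obj C).hom)
    haveI : IsReduced (Λ.obj C).left := GrpSchLib.isReduced_of_smooth_field (Λ.obj C).hom
    have h1 : (Λ.word C ≫ κ ≫ πG) ≫ f = 1 := by
      have hm : Λ.word C ≫ κ ≫ πV ∈ Λ.ser (Λ.obj C ⟶ V) :=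
        Λ.map_le (SpecLaw.compHom (κ ≫ πV) (Λ.obj C)) ⟨_, Λ.word_mem C, rfl⟩
      rw [hV] at hm
      simp only [Category.assoc, hcond]
      rw [← Category.assoc κ, ← Category.assoc, Subgroup.mem_bot.1 hm, MonObj.one_comp]
    obtain ⟨z, hz⟩ := Λ.point C
    refine SpecLaw.eq_one_of_factor (E := N) ?_ iN _ (hker.lift (Λ.word C ≫ κ ≫ πG) (toUnit _) ?_) (hker.lift_fst _ _ _) z
      (by rw [← Category.assoc, hz, MonObj.one_comp])
    · let u : N ⟶ 𝟙_ (Over (Spec (CommRingCat.of k))) := toUnit N
      haveI : IsFinite u.left := by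
        have hk : IsPullback iN.left u.left f.left η[H].left :=
          (hker : IsPullback iN (toUnit N) f η[H]).map (Over.forget _)
        exact MorphismProperty.of_isPullback hk ‹_›
      haveI : Nonempty N.left := ⟨η[N].left (IsLocalRing.closedPoint k)⟩
      haveI : Surjective u.left := ⟨fun y => ⟨Classical.arbitrary _, Subsingleton.elim (α := PrimeSpectrum k) _ _⟩⟩
      haveI : LocallyOfFiniteType (𝟙_ (Over (Spec (CommRingCat.of k)))).hom :=
        inferInstanceAs (LocallyOfFiniteType (𝟙 (Spec (CommRingCat.of k))))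
      rw [dim_eq_of_finite_surjective u]
      show topologicalKrullDim (PrimeSpectrum k) ≤ 0
      rw [PrimeSpectrum.topologicalKrullDim_eq_ringKrullDim, ringKrullDim_eq_zero_of_field]
    · rw [h1, Hom.one_def]

end Groth.Agent.AlgGrp25.SpecIsogeny
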