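import Groth.Prelude.Def_AGF
import Groth.Prelude.Def_Red2
import Groth.Agent.SGASolv20.Words
import Groth.Agent.AlgGrp25.SchClosure
import Groth.Agent.GrpSchLib.AntiAffineHom
import Groth.Agent.GrpSchLib.GeomIrr
import Groth.Agent.H23.TopDim

/-!
# Verbal laws under base change, subgroups and schematic closure

A series attaches to every group a subgroup, functorially, generated on the points of a group scheme by the
values of a word. The derived series and the lower central series are instances.
-/

universe u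

open CategoryTheory Limits AlgebraicGeometry MonoidalCategory CartesianMonoidalCategory MonObj GrpObj
open scoped CategoryTheory.Obj commutatorElement

set_option linter.style.haveILetI false
set_option synthInstance.maxHeartbeats 200000
set_option backward.isDefEq.respectTransparency false
set_option backward.isDefEq.respectTransparency.types false

noncomputable section

namespace Groth.Agent.AlgGrp25.SpecLaw

/-- A functorial subgroup of groups given on the points of group schemes by a word. -/
structure Series : Type (u + 1) where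
  /-- the subgroup -/
  ser : ∀ (P : Type u) [Group P], Subgroup P
  map_le : ∀ {P Q : Type u} [Group P] [Group Q] (f : P →* Q), (ser P).map f ≤ ser Q
  map_eq : ∀ {P Q : Type u} [Group P] [Group Q] (f : P →* Q), Function.Surjective f → (ser P).map f = ser Q
  /-- the parameters of the word -/
  obj : ∀ {S : Scheme.{u}} (G : Over S) [GrpObj G], Over S
  /-- the word -/
  word : ∀ {S : Scheme.{u}} (G : Over S) [GrpObj G], obj G ⟶ G
  eq_closure : ∀ {S : Scheme.{u}} (G : Over S) [GrpObj G] (T : Over S),
    ser (T ⟶ G) = Subgroup.closure (Set.range fun z : T ⟶ obj G => z ≫ word G)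
  flat_obj : ∀ {S : Scheme.{u}} (G : Over S) [GrpObj G], Flat G.hom → Flat (obj G).hom
  smooth_obj : ∀ {k : Type u} [Field k] (G : Over (Spec (CommRingCat.of k))) [GrpObj G],
    Smooth G.hom → Smooth (obj G).hom
  irr_obj : ∀ {k : Type u} [Field k] (G : Over (Spec (CommRingCat.of k))) [GrpObj G],
    Smooth G.hom → GeometricallyIrreducible G.hom → GeometricallyIrreducible (obj G).hom
  point : ∀ {S : Scheme.{u}} (G : Over S) [GrpObj G], ∃ z : 𝟙_ (Over S) ⟶ obj G, z ≫ word G = 1

/-- The series vanishes on the points of a group scheme. -/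
def Series.Triv (Λ : Series.{u}) {S : Scheme.{u}} (G : Over S) [GrpObj G] : Prop :=
  ∀ T : Over S, Λ.ser (T ⟶ G) = ⊥

theorem map_derivedSeries_eq' {P Q : Type u} [Group P] [Group Q] (f : P →* Q) (hf : Function.Surjective f) (n : ℕ) :
    (derivedSeries P n).map f = derivedSeries Q n := map_derivedSeries_eq hf n

theorem geometricallyIrreducible_tensor {k : Type u} [Field k] (X Y : Over (Spec (CommRingCat.of k))) [Smooth X.hom]
    [Smooth Y.hom] [GeometricallyIrreducible X.hom] [GeometricallyIrreducible Y.hom] :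
    GeometricallyIrreducible (X ⊗ Y).hom := by
  haveI : UniversallyOpen X.hom := inferInstance
  haveI : UniversallyOpen Y.hom := inferInstance
  exact GeometricallyIrreducible.comp (pullback.fst X.hom Y.hom) X.hom

open Groth.Agent.SGASolv20 in
theorem derObj_flat {S : Scheme.{u}} (G : Over S) [GrpObj G] (hG : Flat G.hom) : ∀ n, Flat (derObj G n).hom
  | 0 => hG
  | n + 1 => by
    have := derObj_flat G hG n
    exact inferInstanceAs (Flat (pullback.fst (derObj G n).hom (derObj G n).hom ≫ (derObj G n).hom))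

open Groth.Agent.SGASolv20 in
theorem lcsObj_flat {S : Scheme.{u}} (G : Over S) [GrpObj G] (hG : Flat G.hom) : ∀ n, Flat (lcsObj G n).hom
  | 0 => hG
  | n + 1 => by
    have := lcsObj_flat G hG n
    exact inferInstanceAs (Flat (pullback.fst (lcsObj G n).hom G.hom ≫ (lcsObj G n).hom))

open Groth.Agent.SGASolv20 in
theorem derObj_irr {k : Type u} [Field k] (G : Over (Spec (CommRingCat.of k))) [GrpObj G] (hs : Smooth G.hom)
    (hG : GeometricallyIrreducible G.hom) : ∀ n, GeometricallyIrreducible (derObj G n).hom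
  | 0 => hG
  | n + 1 => by
    have := derObj_irr G hs hG n
    have := smooth_derObj G n
    exact geometricallyIrreducible_tensor _ _

open Groth.Agent.SGASolv20 in
theorem lcsObj_irr {k : Type u} [Field k] (G : Over (Spec (CommRingCat.of k))) [GrpObj G] (hs : Smooth G.hom)
    (hG : GeometricallyIrreducible G.hom) : ∀ n, GeometricallyIrreducible (lcsObj G n).hom
  | 0 => hG
  | n + 1 => by
    have := lcsObj_irr G hs hG n
    have := smooth_lcsObj G n
    exact geometricallyIrreducible_tensor _ _

open Groth.Agent.SGASolv20 in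
theorem derWord_point {S : Scheme.{u}} (G : Over S) [GrpObj G] :
    ∀ n, ∃ z : 𝟙_ (Over S) ⟶ derObj G n, z ≫ derWord G n = 1
  | 0 => ⟨(1 : 𝟙_ (Over S) ⟶ G), Category.comp_id _⟩
  | n + 1 => by
    obtain ⟨z, hz⟩ := derWord_point G n
    exact ⟨lift z z, by rw [comp_derWord_succ, lift_fst, lift_snd, hz, commutatorElement_one_left]⟩

open Groth.Agent.SGASolv20 in
theorem lcsWord_point {S : Scheme.{u}} (G : Over S) [GrpObj G] :
    ∀ n, ∃ z : 𝟙_ (Over S) ⟶ lcsObj G n, z ≫ lcsWord G n = 1
  | 0 => ⟨(1 : 𝟙_ (Over S) ⟶ G), Category.comp_id _⟩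
  | n + 1 => by
    obtain ⟨z, hz⟩ := lcsWord_point G n
    exact ⟨lift z 1, by rw [comp_lcsWord_succ, lift_fst, lift_snd, hz, commutatorElement_one_left]⟩

/-- The `n`th step of the derived series. -/
def der (n : ℕ) : Series.{u} where
  ser P := derivedSeries P n
  map_le f := map_derivedSeries_le_derivedSeries f n
  map_eq f hf := map_derivedSeries_eq' f hf n
  obj G := SGASolv20.derObj G n
  word G := SGASolv20.derWord G n
  eq_closure G _ T := SGASolv20.derivedSeries_eq (G := G) (T := T) n
  flat_obj G _ h := derObj_flat G h n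
  smooth_obj G _ h := @SGASolv20.smooth_derObj _ _ G h n
  irr_obj G _ hs h := derObj_irr G hs h n
  point G _ := derWord_point G n

/-- The `n`th step of the lower central series. -/
def lcs (n : ℕ) : Series.{u} where
  ser P _ := Subgroup.lowerCentralSeries (⊤ : Subgroup P) n
  map_le {P Q} _ _ f := by
    rw [Subgroup.map_lowerCentralSeries]
    exact (Subgroup.lowerCentralSeries_mono n le_top)
  map_eq {P Q} _ _ f hf := by
    rw [Subgroup.map_lowerCentralSeries, Subgroup.map_top_of_surjective f hf]
  obj G := SGASolv20.lcsObj G n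
  word G := SGASolv20.lcsWord G n
  eq_closure G _ T := SGASolv20.lowerCentralSeries_eq (G := G) (T := T) n
  flat_obj G _ h := lcsObj_flat G h n
  smooth_obj G _ h := @SGASolv20.smooth_lcsObj _ _ G h n
  irr_obj G _ hs h := lcsObj_irr G hs h n
  point G _ := lcsWord_point G n

theorem isSolvableGrp_iff {S : Scheme.{u}} (G : Over S) [GrpObj G] :
    Red.IsSolvableGrp G ↔ ∃ n, (der n).Triv G := Iff.rfl

theorem isNilpotentGrp_iff {S : Scheme.{u}} (G : Over S) [GrpObj G] :
    AGF.IsNilpotentGrp G ↔ ∃ n, (lcs n).Triv G :=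
  exists_congr fun _ => forall_congr' fun _ => Subgroup.lowerCentralSeries_eq_bot_iff_upperCentralSeries_eq_top.symm

theorem isCommMonObj_iff {S : Scheme.{u}} (G : Over S) [GrpObj G] :
    IsCommMonObj G ↔ (lcs 1).Triv G := by
  constructor
  · intro h T
    show Subgroup.lowerCentralSeries (⊤ : Subgroup (T ⟶ G)) 1 = ⊥
    rw [Subgroup.lowerCentralSeries_succ, Subgroup.lowerCentralSeries_zero, eq_bot_iff, Subgroup.commutator_le]
    intro a _ b _
    rw [Subgroup.mem_bot, commutatorElement_eq_one_iff_mul_comm]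
    exact mul_comm a b
  · intro h
    have h' : ∀ {T : Over S} (a b : T ⟶ G), a * b = b * a := fun {T} a b => by
      rw [← commutatorElement_eq_one_iff_mul_comm, ← Subgroup.mem_bot]
      rw [← show Subgroup.lowerCentralSeries (⊤ : Subgroup (T ⟶ G)) 1 = ⊥ from h T]
      exact Subgroup.commutator_mem_commutator trivial trivial
    refine ⟨?_⟩
    have hb : (β_ G G).hom = lift (snd G G) (fst G G) := by ext <;> simp
    rw [hb]
    have h1 : (fst G G * snd G G : G ⊗ G ⟶ G) = μ[G] := by
      rw [Hom.mul_def, lift_fst_snd, Category.id_comp]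
    rw [← h1]
    conv_rhs => rw [h']
    rw [MonObj.comp_mul, lift_fst, lift_snd]

variable {Λ : Series.{u}}

theorem Series.word_mem {S : Scheme.{u}} (Λ : Series.{u}) (G : Over S) [GrpObj G] :
    Λ.word G ∈ Λ.ser (Λ.obj G ⟶ G) := by
  rw [Λ.eq_closure]
  exact Subgroup.subset_closure ⟨𝟙 _, Category.id_comp _⟩

theorem triv_iff {S : Scheme.{u}} (G : Over S) [GrpObj G] : Λ.Triv G ↔ Λ.word G = 1 := by
  refine ⟨fun h => Subgroup.mem_bot.1 (h (Λ.obj G) ▸ Λ.word_mem G), fun h T => ?_⟩
  rw [Λ.eq_closure, SGASolv20.closure_range_eq_bot_iff]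
  exact fun z => by rw [h, MonObj.comp_one]

/-- Composition with a homomorphism. -/
def compHom {S : Scheme.{u}} {H G : Over S} [GrpObj H] [GrpObj G] (i : H ⟶ G) [IsMonHom i] (T : Over S) :
    (T ⟶ H) →* (T ⟶ G) where
  toFun a := a ≫ i
  map_one' := MonObj.one_comp i
  map_mul' a b := MonObj.mul_comp a b i

theorem triv_of_mono {S : Scheme.{u}} {H G : Over S} [GrpObj H] [GrpObj G] (i : H ⟶ G) [IsMonHom i] [Mono i]
    (h : Λ.Triv G) : Λ.Triv H := fun T => by
  have h1 := Λ.map_le (compHom i T)
  rw [h T, le_bot_iff, Subgroup.map_eq_bot_iff_of_injective] at h1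
  · exact h1
  · exact fun a b hab => (cancel_mono i).1 hab

variable {S S' : Scheme.{u}} (f : S' ⟶ S)

/-- Points of a base change. -/
def adjHom (G : Over S) [GrpObj G] (T : Over S') : ((Over.map f).obj T ⟶ G) →* (T ⟶ Red.bc f G) where
  toFun a := (Over.mapPullbackAdj f).unit.app T ≫ (Over.pullback f).map a
  map_one' := by rw [Functor.map_one, MonObj.comp_one]
  map_mul' a b := by rw [Functor.map_mul, MonObj.comp_mul]

theorem adjHom_surjective (G : Over S) [GrpObj G] (T : Over S') : Function.Surjective (adjHom f G T) :=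
  fun b => ⟨((Over.mapPullbackAdj f).homEquiv T G).symm b,
    (((Over.mapPullbackAdj f).homEquiv_unit T G _).symm.trans (Equiv.apply_symm_apply _ b) :)⟩

theorem adjHom_naturality {H G : Over S} [GrpObj H] [GrpObj G] (i : H ⟶ G) (T : Over S')
    (a : (Over.map f).obj T ⟶ H) : adjHom f G T (a ≫ i) = adjHom f H T a ≫ (Over.pullback f).map i := by
  show (Over.mapPullbackAdj f).unit.app T ≫ _ = ((Over.mapPullbackAdj f).unit.app T ≫ _) ≫ _
  rw [Category.assoc, ← Functor.map_comp]

theorem triv_bc (G : Over S) [GrpObj G] (h : Λ.Triv G) : Λ.Triv (Red.bc f G) := fun T => by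
  rw [← Λ.map_eq (adjHom f G T) (adjHom_surjective f G T), h, Subgroup.map_bot]

/-- If the values of the law on `Z` lie in a subgroup `E`, so do those on the base change. -/
theorem bc_law_range {Z G E : Over S} [GrpObj Z] [GrpObj G] [GrpObj E] (c : Z ⟶ G) [IsMonHom c] (i : E ⟶ G)
    [IsMonHom i] (l : Λ.obj Z ⟶ E) (hl : l ≫ i = Λ.word Z ≫ c) (T : Over S') (a : T ⟶ Red.bc f Z)
    (ha : a ∈ Λ.ser (T ⟶ Red.bc f Z)) :
    ∃ b : T ⟶ Red.bc f E, b ≫ (Over.pullback f).map i = a ≫ (Over.pullback f).map c := by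
  rw [← Λ.map_eq (adjHom f Z T) (adjHom_surjective f Z T)] at ha
  obtain ⟨a₀, ha₀, rfl⟩ := ha
  have hle : Λ.ser ((Over.map f).obj T ⟶ Z) ≤ (compHom i ((Over.map f).obj T)).range.comap (compHom c _) := by
    rw [Λ.eq_closure, Subgroup.closure_le]
    rintro _ ⟨z, rfl⟩
    exact ⟨z ≫ l, by show (z ≫ l) ≫ i = (z ≫ Λ.word Z) ≫ c; rw [Category.assoc, hl, Category.assoc]⟩
  obtain ⟨b₀, hb₀⟩ := hle ha₀
  refine ⟨adjHom f E T b₀, ?_⟩
  rw [← adjHom_naturality, ← adjHom_naturality]
  exact congrArg _ hb₀

/-- A map from a connected reduced scheme with values in a finite subgroup and passing through the origin is trivial. -/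
theorem eq_one_of_factor {L : Type u} [Field L] [IsAlgClosed L] {Y E G : Over (Spec (CommRingCat.of L))} [GrpObj E]
    [GrpObj G] [LocallyOfFiniteType Y.hom] [LocallyOfFiniteType E.hom] [QuasiCompact E.hom]
    [LocallyOfFiniteType G.hom] [IsReduced Y.left] [PreconnectedSpace Y.left] (hE : topologicalKrullDim E.left ≤ 0)
    (i : E ⟶ G) (a : Y ⟶ G) (d : Y ⟶ E) (hd : d ≫ i = a) (z : 𝟙_ _ ⟶ Y) (hz : z ≫ a = 1) : a = 1 := by
  haveI : IsSeparated G.hom := GrpSchLib.AntiAffine.isSeparated_grp G
  haveI : CompactSpace E.left := QuasiCompact.compactSpace_of_compactSpace E.hom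
  haveI : IsLocallyNoetherian E.left := LocallyOfFiniteType.isLocallyNoetherian E.hom
  haveI : IsNoetherian E.left := {}
  haveI : DiscreteTopology E.left := (H23.TopDim.finite_discrete_of_dim_le_zero hE).2
  obtain ⟨e₀, he₀⟩ : ∃ e₀, ∀ y, d.left y = e₀ :=
    ⟨d.left (z.left (IsLocalRing.closedPoint L)),
      fun y => PreconnectedSpace.constant inferInstance d.left.continuous⟩
  haveI : LocallyOfFiniteType (a.left ≫ G.hom) := by rw [Over.w]; infer_instance
  refine Over.OverMorphism.ext (ext_of_apply_eq G.hom Set.univ isOpen_univ.isLocallyClosed dense_univ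
    (fun y _ _ => ?_) ((Over.w a).trans (Over.w (1 : Y ⟶ G)).symm))
  have h1 : ∀ y, a.left y = i.left e₀ := fun y => by
    rw [← hd, Over.comp_left, Scheme.Hom.comp_apply, he₀]
  rw [h1, ← h1 (z.left (IsLocalRing.closedPoint L)), ← Scheme.Hom.comp_apply, ← Over.comp_left, hz]
  show (toUnit (𝟙_ (Over (Spec (CommRingCat.of L)))) ≫ η[G]).left (IsLocalRing.closedPoint L) = (toUnit Y ≫ η[G]).left y
  simp only [Over.comp_left, Scheme.Hom.comp_apply]
  exact congrArg _ (Subsingleton.elim (α := PrimeSpectrum L) _ _)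

end Groth.Agent.AlgGrp25.SpecLaw
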