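import Groth.Agent.RegLoc6.Basic
import Mathlib.RingTheory.DiscreteValuationRing.TFAE
import Mathlib.RingTheory.Valuation.ValuationSubring
import Mathlib.RingTheory.Localization.FractionRing

/-!
# A valuation ring of the fraction field of a regular local ring with the same residue field

It is the composite of the valuations given by a regular system of parameters.
-/

universe u

open IsLocalRing

set_option linter.style.haveILetI false

namespace Groth.Agent.AlgGrp25.SpecRegVal

/-- Composite of a valuation subring with a valuation subring of a field receiving it. -/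
theorem exists_composite {K : Type u} [Field K] (V : ValuationSubring K) {E : Type u} [Field E] (π : V →+* E)
    (hπ : ∀ y : V, π y ≠ 0 → IsUnit y) (W : ValuationSubring E) :
    ∃ V' : ValuationSubring K, ∀ x, x ∈ V' ↔ ∃ h : x ∈ V, π ⟨x, h⟩ ∈ W := by
  refine ⟨{ toSubring := (W.toSubring.comap π).map V.toSubring.subtype, mem_or_inv_mem' := fun x => ?_ }, fun x => ?_⟩
  · by_cases hx : x ∈ V
    · by_cases hxW : π ⟨x, hx⟩ ∈ W
      · exact Or.inl ⟨⟨x, hx⟩, hxW, rfl⟩
      · obtain ⟨w, hw⟩ := isUnit_iff_exists_inv.1 (hπ ⟨x, hx⟩ fun h => hxW (h ▸ zero_mem W))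
        have hxw : x * (w : K) = 1 := congrArg Subtype.val hw
        refine Or.inr ⟨w, ?_, eq_inv_of_mul_eq_one_right hxw⟩
        show π w ∈ W
        rw [eq_inv_of_mul_eq_one_right (show π ⟨x, hx⟩ * π w = 1 by rw [← map_mul, hw, map_one])]
        exact (W.mem_or_inv_mem _).resolve_left hxW
    · have hxi : x⁻¹ ∈ V := (V.mem_or_inv_mem x).resolve_left hx
      refine Or.inr ⟨⟨x⁻¹, hxi⟩, ?_, rfl⟩
      show π ⟨x⁻¹, hxi⟩ ∈ W
      by_contra hW
      obtain ⟨w, hw⟩ := isUnit_iff_exists_inv.1 (hπ ⟨x⁻¹, hxi⟩ fun h => hW (h ▸ zero_mem W))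
      have h1 := eq_inv_of_mul_eq_one_right (show x⁻¹ * (w : K) = 1 from congrArg Subtype.val hw)
      rw [inv_inv] at h1
      exact hx (h1 ▸ w.2)
  · exact ⟨fun ⟨y, hy, hyx⟩ => ⟨hyx ▸ y.2, by subst hyx; exact hy⟩, fun ⟨h, hW⟩ => ⟨⟨x, h⟩, hW, rfl⟩⟩

/-- The image of a valuation ring in its fraction field. -/
theorem exists_range_valuationSubring {B : Type u} [CommRing B] [IsDomain B] [ValuationRing B] {K : Type u} [Field K]
    [Algebra B K] [IsFractionRing B K] :
    ∃ (V : ValuationSubring K) (r : V ≃+* B), ∀ b : B, ∃ h : algebraMap B K b ∈ V, r ⟨_, h⟩ = b := by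
  let V : ValuationSubring K := ⟨(algebraMap B K).range, ValuationRing.isInteger_or_isInteger B⟩
  let j : B ≃+* V := RingEquiv.ofBijective ((algebraMap B K).codRestrict V fun b => ⟨b, rfl⟩)
    ⟨fun a b h => IsFractionRing.injective B K (congrArg Subtype.val h),
      fun y => by obtain ⟨b, hb⟩ := y.2; exact ⟨b, Subtype.ext hb⟩⟩
  exact ⟨V, j.symm, fun b => ⟨⟨b, rfl⟩, j.symm_apply_apply b⟩⟩

theorem exists_valuation_aux : ∀ (n : ℕ) (A : Type u) [CommRing A] [IsRegularLocalRing A] [IsDomain A],
    (maximalIdeal A).spanFinrank ≤ n → ∀ (K : Type u) [Field K] [Algebra A K] [IsFractionRing A K],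
    ∃ (V : ValuationSubring K) (h : ∀ a, algebraMap A K a ∈ V) (ψ : V →+* ResidueField A),
      ψ.comp ((algebraMap A K).codRestrict V h) = residue A := by
  intro n
  induction n with
  | zero =>
    intro A _ _ _ h K _ _ _
    have hf : IsField A := RegLoc6.isField_of_spanFinrank_eq_zero (Nat.le_zero.mp h)
    letI := hf.toField
    haveI : ValuationRing A := inferInstance
    obtain ⟨V, r, hr⟩ := exists_range_valuationSubring (B := A) (K := K)
    refine ⟨V, fun a => (hr a).1, (residue A).comp r.toRingHom, RingHom.ext fun a => ?_⟩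
    exact congrArg (residue A) (hr a).2
  | succ n ih =>
    intro A _ _ _ h K _ _ _
    by_cases hf : IsField A
    · exact ih A (by
        rw [IsLocalRing.isField_iff_maximalIdeal_eq.mp hf]
        simp) K
    obtain ⟨x, hx, hx2⟩ : ∃ x ∈ maximalIdeal A, x ∉ maximalIdeal A ^ 2 := by
      by_contra! hc
      exact RegLoc6.maximalIdeal_sq_ne hf hc
    haveI := RegLoc6.isLocalRing_quot hx
    haveI := (RegLoc6.isRegularLocalRing_quot_and hx hx2).1
    haveI := RegLoc6.isDomain_of_isRegularLocalRing (A ⧸ Ideal.span {x})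
    let P : Ideal A := Ideal.span {x}
    haveI hP : P.IsPrime := (Ideal.Quotient.isDomain_iff_prime _).mp ‹_›
    let B := Localization.AtPrime P
    haveI : IsNoetherianRing B := IsLocalization.isNoetherianRing P.primeCompl B inferInstance
    haveI : IsDomain B := IsLocalization.isDomain_localization P.primeCompl_le_nonZeroDivisors
    haveI : ValuationRing B := by
      refine ((tfae_of_isNoetherianRing_of_isLocalRing_of_isDomain B).out 4 1).mp ?_
      rw [← Localization.AtPrime.map_eq_maximalIdeal, Ideal.map_span, Set.image_singleton]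
      exact ⟨⟨_, rfl⟩⟩
    let g : B →+* K := IsLocalization.lift (M := P.primeCompl) (g := algebraMap A K) fun s =>
      isUnit_iff_ne_zero.2 fun e => s.2 ((IsFractionRing.injective A K (e.trans (map_zero _).symm)) ▸ P.zero_mem)
    letI : Algebra B K := g.toAlgebra
    haveI : IsScalarTower A B K := IsScalarTower.of_algebraMap_eq fun a => (IsLocalization.lift_eq _ a).symm
    haveI : IsFractionRing B K := IsFractionRing.isFractionRing_of_isDomain_of_isLocalization P.primeCompl B K
    obtain ⟨V₁, r, hr⟩ := exists_range_valuationSubring (B := B) (K := K)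
    let E := FractionRing (A ⧸ P)
    let q : B →+* E := IsLocalization.lift (M := P.primeCompl)
      (g := (algebraMap (A ⧸ P) E).comp (Ideal.Quotient.mk P)) fun s => isUnit_iff_ne_zero.2 fun e =>
        s.2 (Ideal.Quotient.eq_zero_iff_mem.1 (IsFractionRing.injective (A ⧸ P) E (e.trans (map_zero _).symm)))
    have hq : ∀ b : B, q b ≠ 0 → IsUnit b := by
      intro b hb
      obtain ⟨a, s, rfl⟩ := IsLocalization.exists_mk'_eq P.primeCompl b
      rw [IsLocalization.AtPrime.isUnit_mk'_iff B P]
      intro ha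
      apply hb
      rw [IsLocalization.lift_mk'_spec, mul_zero, RingHom.comp_apply, Ideal.Quotient.eq_zero_iff_mem.2 ha, map_zero]
    obtain ⟨W, hW, χ, hχ⟩ := ih (A ⧸ P) (by
      have := RegLoc6.spanFinrank_quot_le hx hx2
      exact Nat.le_of_lt_succ (lt_of_lt_of_le (Nat.lt_of_succ_le this) h)) E
    obtain ⟨V, hV⟩ := exists_composite V₁ (q.comp r.toRingHom) (fun y hy => by
      have := (hq (r y) hy).map r.symm
      rwa [RingEquiv.symm_apply_apply] at this) W
    have hA : ∀ a, ∃ h : algebraMap A K a ∈ V₁, q (r ⟨_, h⟩) = algebraMap (A ⧸ P) E (Ideal.Quotient.mk P a) := by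
      intro a
      obtain ⟨h', e⟩ := hr (algebraMap A B a)
      have ha : algebraMap A K a = algebraMap B K (algebraMap A B a) := IsScalarTower.algebraMap_apply A B K a
      refine ⟨ha ▸ h', ?_⟩
      have h2 : (⟨algebraMap A K a, ha ▸ h'⟩ : V₁) = ⟨algebraMap B K (algebraMap A B a), h'⟩ := Subtype.ext ha
      rw [h2, e]
      exact IsLocalization.lift_eq _ a
    let π : V →+* W := ((q.comp r.toRingHom).comp ((V.subtype).codRestrict V₁ fun y => ((hV y).1 y.2).1)).codRestrict W
      fun y => ((hV y).1 y.2).2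
    haveI : IsLocalHom (Ideal.Quotient.mk P) := .of_surjective _ Ideal.Quotient.mk_surjective
    let e : ResidueField A ≃+* ResidueField (A ⧸ P) := RingEquiv.ofBijective (ResidueField.map (Ideal.Quotient.mk P))
      ⟨RingHom.injective _, fun y => by
        obtain ⟨z, rfl⟩ := residue_surjective y
        obtain ⟨a, rfl⟩ := Ideal.Quotient.mk_surjective z
        exact ⟨residue A a, rfl⟩⟩
    refine ⟨V, fun a => (hV _).2 ⟨(hA a).1, by rw [RingHom.comp_apply]; exact (hA a).2 ▸ hW _⟩,
      (e.symm.toRingHom.comp χ).comp π, RingHom.ext fun a => ?_⟩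
    rw [RingHom.comp_apply, RingHom.comp_apply, RingHom.comp_apply]
    refine e.injective ((e.apply_symm_apply _).trans ?_)
    refine Eq.trans ?_ (RingHom.congr_fun hχ (Ideal.Quotient.mk P a))
    refine congrArg χ (Subtype.ext ?_)
    exact (hA a).2

/-- A valuation ring of the fraction field of a regular local ring with the same residue field. -/
theorem exists_valuation (A : Type u) [CommRing A] [IsRegularLocalRing A] [IsDomain A] (K : Type u) [Field K]
    [Algebra A K] [IsFractionRing A K] :
    ∃ (V : ValuationSubring K) (h : ∀ a, algebraMap A K a ∈ V) (ψ : V →+* ResidueField A),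
      ψ.comp ((algebraMap A K).codRestrict V h) = residue A :=
  exists_valuation_aux _ A le_rfl K

end Groth.Agent.AlgGrp25.SpecRegVal
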