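import Groth.Agent.AlgGrp25.SpecDerived
import Groth.Agent.AlgGrp25.SpecRegVal
import Groth.Agent.GrpSchLib.GenericFibreExt

/-!
# Specialisation of subgroups over a regular local ring

The fraction field and the residue field of a regular local ring are the generic and special points of a
valuation ring, so closed subgroups of the generic fibre specialise with the same dimension.
-/

universe u

open CategoryTheory Limits AlgebraicGeometry MonoidalCategory CartesianMonoidalCategory MonObj GrpObj
open scoped CategoryTheory.Obj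

set_option linter.style.haveILetI false
set_option synthInstance.maxHeartbeats 200000
set_option maxHeartbeats 1000000
set_option backward.isDefEq.respectTransparency false
set_option backward.isDefEq.respectTransparency.types false

namespace Groth.Agent.AlgGrp25.SpecRegular

/-- The property of a subgroup kept by schematic closure. -/
def Prop' {S : Scheme.{u}} (normal : Prop) (Λ : Option (SpecLaw.Series.{u})) {G H : Over S} [GrpObj G] [GrpObj H]
    (i : H ⟶ G) : Prop :=
  (normal → AlgGrp.IsNormalHom i) ∧ ∀ l, Λ = some l → l.Triv H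

variable {R : Type u} [CommRing R] [IsDomain R] [ValuationRing R] {K : Type u} [Field K] [Algebra R K]
  [IsFractionRing R K] {G : Over (Spec (CommRingCat.of R))} [GrpObj G] [QuasiCompact G.hom]
  [LocallyOfFiniteType G.hom] {L : Type u} [Field L] (t : Spec (CommRingCat.of L) ⟶ Spec (CommRingCat.of R))

/-- A closed subgroup of the generic fibre gives one of the same dimension in every fibre. -/
theorem subgroup_special [Flat G.hom] (normal : Prop) (Λ : Option (SpecLaw.Series.{u}))
    (hsep : ∀ l, Λ = some l → IsSeparated G.hom) {H : Over (Spec (CommRingCat.of K))} [GrpObj H]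
    (j : H ⟶ Red.bc (SchClosure.σ R K) G) [IsMonHom j] [IsClosedImmersion j.left] (hj : Prop' normal Λ j) :
    ∃ (H' : Over (Spec (CommRingCat.of L))) (_ : GrpObj H') (i : H' ⟶ Red.bc t G),
      IsMonHom i ∧ IsClosedImmersion i.left ∧ Prop' normal Λ i ∧
      topologicalKrullDim H'.left = topologicalKrullDim H.left := by
  let F := Over.pullback (SchClosure.σ R K)
  let F' := Over.pullback t
  haveI : QuasiCompact (Red.bc (SchClosure.σ R K) G).hom :=
    inferInstanceAs (QuasiCompact (pullback.snd G.hom (SchClosure.σ R K)))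
  haveI : QuasiCompact H.hom := by rw [← Over.w j]; infer_instance
  obtain ⟨Z, hZg, c, e, hc, hcc, hZf, hZft, he, hei, hje, hfac⟩ := SchClosure.exists_closure j
  haveI := hc; haveI := hcc; haveI := hZf; haveI := hZft; haveI := he; haveI := hei
  refine ⟨Red.bc t Z, inferInstance, F'.map c, inferInstance,
    MorphismProperty.overPullbackMap (P := @IsClosedImmersion) _ c hcc, ⟨fun hn T g n => ?_, fun l hl => ?_⟩, ?_⟩
  · obtain ⟨l₂, hl₂⟩ := SchClosure.isNormalHom_of_factor j (hj.1 hn) c e hje hfac (G ⊗ Z) (fst G Z) (snd G Z)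
    obtain ⟨q, hq1, hq2⟩ := SpecDerived.exists_lift_map t g n
    refine ⟨q ≫ F'.map l₂, ?_⟩
    rw [Category.assoc, ← F'.map_comp, ← hl₂, Functor.map_mul, Functor.map_mul, SpecDerived.map_inv',
      Functor.map_comp, MonObj.comp_mul, MonObj.comp_mul, GrpObj.comp_inv, hq1, ← Category.assoc, hq2]
  · haveI := hsep l hl
    haveI : IsSeparated Z.hom := by rw [← Over.w c]; infer_instance
    refine SpecLaw.triv_bc t Z ((SpecLaw.triv_iff Z).2 ?_)
    haveI : Flat (l.obj Z).hom := l.flat_obj Z hZf
    have h1 : F.map (l.word Z) ∈ l.ser (F.obj (l.obj Z) ⟶ F.obj Z) :=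
      l.map_le (F.homMonoidHom (X := l.obj Z) (M := Z)) ⟨_, l.word_mem Z, rfl⟩
    rw [SpecLaw.triv_of_mono e (hj.2 l hl), Subgroup.mem_bot] at h1
    refine GrpSchLib.hom_ext_of_generic (IsFractionRing.injective R K) _ _ ?_
    have e1 : ∀ a : l.obj Z ⟶ Z, (F.map a).left ≫ pullback.fst Z.hom (SchClosure.σ R K) =
        pullback.fst (l.obj Z).hom (SchClosure.σ R K) ≫ a.left := fun a => pullback.lift_fst _ _ _
    show pullback.fst (l.obj Z).hom (SchClosure.σ R K) ≫ _ = pullback.fst (l.obj Z).hom (SchClosure.σ R K) ≫ _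
    rw [← e1, ← e1, h1, Functor.map_one]
  · show topologicalKrullDim (Red.bc t Z).left = _
    rw [SpecFamily.dim_bc_eq t (SchClosure.σ R K)]
    haveI : IsIso e.left := ((Over.forget _).mapIso (asIso e)).isIso_hom
    exact e.left.homeomorph.isHomeomorph.topologicalKrullDim_eq

theorem prop'_transport {S : Scheme.{u}} {normal : Prop} {Λ : Option (SpecLaw.Series.{u})} {A B H : Over S} [GrpObj A]
    [GrpObj B] [GrpObj H] (a : A ≅ B) [IsMonHom a.hom] (j : H ⟶ A) (h : Prop' normal Λ j) :
    Prop' normal Λ (j ≫ a.hom) :=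
  ⟨fun hn => SpecDerived.conj_transport a j (h.1 hn), h.2⟩

omit [CommRing R] [IsDomain R] [ValuationRing R] in
/-- A closed subgroup of the generic fibre over a regular local ring specialises. -/
theorem subgroup_regular (A : Type u) [CommRing A] [IsDomain A] [IsRegularLocalRing A] (K : Type u) [Field K]
    [Algebra A K] [IsFractionRing A K] (G : Over (Spec (CommRingCat.of A))) [GrpObj G] [Flat G.hom]
    [LocallyOfFiniteType G.hom] [QuasiCompact G.hom] (normal : Prop) (Λ : Option (SpecLaw.Series.{u}))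
    (hsep : ∀ l, Λ = some l → IsSeparated G.hom) {H : Over (Spec (CommRingCat.of K))} [GrpObj H]
    (j : H ⟶ Red.bc (Spec.map (CommRingCat.ofHom (algebraMap A K))) G) [IsMonHom j] [IsClosedImmersion j.left]
    (hj : Prop' normal Λ j) :
    ∃ (H' : Over (Spec (CommRingCat.of (IsLocalRing.ResidueField A)))) (_ : GrpObj H')
      (i : H' ⟶ Red.bc (Spec.map (CommRingCat.ofHom (algebraMap A (IsLocalRing.ResidueField A)))) G),
      IsMonHom i ∧ IsClosedImmersion i.left ∧ Prop' normal Λ i ∧
      topologicalKrullDim H'.left = topologicalKrullDim H.left := by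
  obtain ⟨V, hV, ψ, hψ⟩ := SpecRegVal.exists_valuation A K
  let v : Spec (CommRingCat.of V) ⟶ Spec (CommRingCat.of A) :=
    Spec.map (CommRingCat.ofHom ((algebraMap A K).codRestrict V hV))
  have h1 : SchClosure.σ V K ≫ v = Spec.map (CommRingCat.ofHom (algebraMap A K)) := by
    simp only [v, SchClosure.σ]
    rw [← Spec.map_comp, ← CommRingCat.ofHom_comp]
    rfl
  have h2 : Spec.map (CommRingCat.ofHom ψ) ≫ v =
      Spec.map (CommRingCat.ofHom (algebraMap A (IsLocalRing.ResidueField A))) := by
    simp only [v]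
    rw [← Spec.map_comp, ← CommRingCat.ofHom_comp, hψ]
    rfl
  let GV := Red.bc v G
  haveI : LocallyOfFiniteType GV.hom := inferInstanceAs (LocallyOfFiniteType (pullback.snd G.hom v))
  haveI : QuasiCompact GV.hom := inferInstanceAs (QuasiCompact (pullback.snd G.hom v))
  haveI : Flat GV.hom := inferInstanceAs (Flat (pullback.snd G.hom v))
  have hsepV : ∀ l, Λ = some l → IsSeparated GV.hom := fun l hl => by
    haveI := hsep l hl
    exact inferInstanceAs (IsSeparated (pullback.snd G.hom v))
  obtain ⟨a₁⟩ := GrpSchLib.MultTypeBC.bc_bc (SchClosure.σ V K) v G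
  obtain ⟨a₂⟩ := GrpSchLib.MultTypeBC.bc_congr h1 G
  obtain ⟨b₁⟩ := GrpSchLib.MultTypeBC.bc_bc (Spec.map (CommRingCat.ofHom ψ)) v G
  obtain ⟨b₂⟩ := GrpSchLib.MultTypeBC.bc_congr h2 G
  let a : Red.bc (SchClosure.σ V K) GV ≅ Red.bc (Spec.map (CommRingCat.ofHom (algebraMap A K))) G :=
    (Grp.forget _).mapIso (a₁ ≪≫ a₂)
  let b : Red.bc (Spec.map (CommRingCat.ofHom ψ)) GV ≅
      Red.bc (Spec.map (CommRingCat.ofHom (algebraMap A (IsLocalRing.ResidueField A)))) G :=
    (Grp.forget _).mapIso (b₁ ≪≫ b₂)
  haveI : IsMonHom a.inv := (a₁ ≪≫ a₂).inv.hom.isMonHom_hom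
  haveI : IsMonHom a.symm.hom := ‹IsMonHom a.inv›
  haveI : IsMonHom b.hom := (b₁ ≪≫ b₂).hom.hom.isMonHom_hom
  haveI : IsIso a.inv.left := ((Over.forget _).mapIso a).isIso_inv
  haveI : IsIso b.hom.left := ((Over.forget _).mapIso b).isIso_hom
  haveI : IsClosedImmersion (j ≫ a.inv).left := inferInstanceAs (IsClosedImmersion (j.left ≫ a.inv.left))
  obtain ⟨H', hg, i, hi, hic, hp, hdim⟩ := subgroup_special (Spec.map (CommRingCat.ofHom ψ)) (G := GV) normal Λ hsepV
    (j ≫ a.inv) (prop'_transport a.symm j hj)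
  haveI := hi; haveI := hic
  exact ⟨H', hg, i ≫ b.hom, inferInstance, inferInstanceAs (IsClosedImmersion (i.left ≫ b.hom.left)),
    prop'_transport b i hp, hdim⟩

end Groth.Agent.AlgGrp25.SpecRegular
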