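import Groth.Agent.AlgGrp25.TorusProper
import Groth.Agent.Sga3xB.Subtori
import Groth.Agent.S19147
import Groth.Agent.GrpSchLib.SmoothReduced
import Groth.Agent.GrpSchLib.AntiAffineHom
import Groth.Agent.GrpSchLib.GeomIrr
import Groth.Agent.Sga3xB.EtaleKilled
import Groth.Agent.H23.MulEtale

/-! The target of a surjective homomorphism from a torus onto a smooth group over a field is a torus. -/

universe u

open CategoryTheory Limits AlgebraicGeometry MonoidalCategory CartesianMonoidalCategory MonObj GrpObj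

set_option linter.style.haveILetI false
set_option backward.isDefEq.respectTransparency false
set_option backward.isDefEq.respectTransparency.types false

namespace Groth.Agent.AlgGrp25.TorusImage

variable {k : Type u} [Field k]

/-- Being a torus descends along field extensions. -/
theorem isTorus_of_bc {L : Type u} [Field L] (φ : k →+* L) {X : Over (Spec (CommRingCat.of k))} [GrpObj X]
    (h : Red.IsTorus (Red.bc (Spec.map (CommRingCat.ofHom φ)) X)) : Red.IsTorus X := by
  obtain ⟨S', f, hff, hfs, hqc, hloc⟩ := h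
  let σ := Spec.map (CommRingCat.ofHom φ)
  haveI : Flat σ := GrpSchLib.flat_spec_map_field φ
  haveI := hff; haveI := hfs
  haveI : Surjective σ := ⟨fun x =>
    ⟨IsLocalRing.closedPoint L, Subsingleton.elim (α := PrimeSpectrum k) _ _⟩⟩
  refine ⟨S', f ≫ σ, inferInstance, inferInstance, fun V _ => ?_, fun s' => ?_⟩
  · obtain ⟨W, hW, hWV⟩ := hqc (σ ⁻¹ᵁ V) (by
      rcases Set.eq_empty_or_nonempty (V : Set ↥(Spec (CommRingCat.of k))) with h | ⟨x, hx⟩
      · rw [show σ ⁻¹ᵁ V = ⊥ from TopologicalSpace.Opens.ext (by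
          show σ ⁻¹' (V : Set ↥(Spec (CommRingCat.of k))) = ∅
          rw [h]; rfl)]
        exact isAffineOpen_bot _
      · rw [show σ ⁻¹ᵁ V = ⊤ from top_unique fun z _ => by
          show σ z ∈ V
          rw [Subsingleton.elim (α := PrimeSpectrum k) (σ z) x]
          exact hx]
        exact isAffineOpen_top _)
    refine ⟨W, hW, ?_⟩
    show (fun z => σ (f z)) '' (W : Set S') = _
    rw [← Set.image_image (g := fun z => σ z), hWV]
    exact Set.image_preimage_eq _ σ.surjective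
  · obtain ⟨U, hU, r, ⟨e⟩⟩ := hloc s'
    obtain ⟨e1⟩ := GrpSchLib.MultTypeBC.bc_bc (U.ι ≫ f) σ X
    obtain ⟨e2⟩ := GrpSchLib.MultTypeBC.bc_congr (Category.assoc U.ι f σ).symm X
    exact ⟨U, hU, r, ⟨e2 ≪≫ e1.symm ≪≫ e⟩⟩

/-- A smooth group receiving a surjective homomorphism from a torus is a torus. -/
theorem isTorus_of_surjective {T X : Over (Spec (CommRingCat.of k))} [GrpObj T] [GrpObj X] [Smooth X.hom]
    [QuasiCompact X.hom] (hT : Red.IsTorus T) (v : T ⟶ X) [IsMonHom v] [Surjective v.left] : Red.IsTorus X := by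
  obtain ⟨L, _, φ, r, ⟨e⟩⟩ := TorusProper.exists_split_field hT
  obtain ⟨e'⟩ := GrpSchLib.AffineHopf.nonempty_DS_iso L (Fin r → ℤ)
  let σ := Spec.map (CommRingCat.ofHom φ)
  refine isTorus_of_bc φ ?_
  let F := Over.pullback σ
  let g := e ≪≫ e'
  let w : Red.DS (Spec (CommRingCat.of L)) (Fin r → ℤ) ⟶ Red.bc σ T := g.inv.hom.hom
  haveI : IsMonHom w := g.inv.hom.isMonHom_hom
  haveI : IsMonHom (F.map v) := (F.mapGrp.map (Grp.ofHom v)).hom.isMonHom_hom
  haveI : IsSeparated X.hom := GrpSchLib.AntiAffine.isSeparated_grp X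
  haveI : Smooth (Red.bc σ X).hom := inferInstanceAs (Smooth (pullback.snd X.hom σ))
  haveI : QuasiCompact (Red.bc σ X).hom := inferInstanceAs (QuasiCompact (pullback.snd X.hom σ))
  haveI : IsSeparated (Red.bc σ X).hom := inferInstanceAs (IsSeparated (pullback.snd X.hom σ))
  haveI : IsLocallyNoetherian (Red.bc σ X).left := LocallyOfFiniteType.isLocallyNoetherian (Red.bc σ X).hom
  haveI : LocallyOfFinitePresentation (Red.bc σ X).hom := inferInstance
  obtain ⟨Q, _, j, hj, f', hf', hjc, -, -, hfac, hloc⟩ := S19147.result (Fin r → ℤ) (Red.bc σ X) (w ≫ F.map v)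
  haveI := hjc
  haveI : Surjective (F.map v).left := MorphismProperty.overPullbackMap (P := @Surjective) σ v inferInstance
  haveI : IsIso g.inv.hom.hom := ⟨g.hom.hom.hom, congrArg (fun z => z.hom.hom) g.inv_hom_id,
    congrArg (fun z => z.hom.hom) g.hom_inv_id⟩
  haveI : IsIso w.left := inferInstanceAs (IsIso ((Over.forget _).map g.inv.hom.hom))
  haveI : Surjective j.left := by
    haveI : Surjective (f'.left ≫ j.left) := by rw [← Over.comp_left, hfac, Over.comp_left]; infer_instance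
    exact Surjective.of_comp f'.left j.left
  haveI : IsReduced (Red.bc σ X).left := GrpSchLib.isReduced_of_smooth_field (Red.bc σ X).hom
  haveI : IsIso j.left := isIso_of_isClosedImmersion_of_surjective j.left
  haveI : IsIso j := by
    haveI : IsIso ((Over.forget _).map j) := ‹IsIso j.left›
    exact isIso_of_reflects_iso j (Over.forget _)
  have hQ : Red.IsTorus Q := Sga3xB.isTorus_of_locSplit hloc
  haveI := hj
  let ej : Grp.mk Q ≅ Grp.mk (Red.bc σ X) := Grp.mkIso (asIso j)
  obtain ⟨S', f, h1, h2, h3, h4⟩ := hQ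
  refine ⟨S', f, h1, h2, h3, fun s' => ?_⟩
  obtain ⟨U, hU, r', ⟨e3⟩⟩ := h4 s'
  obtain ⟨e4⟩ := GrpSchLib.MultTypeBC.bc_iso (U.ι ≫ f) ej
  exact ⟨U, hU, r', ⟨e4.symm ≪≫ e3⟩⟩

/-- Powers are surjective on a torus. -/
theorem surjective_pow {T : Over (Spec (CommRingCat.of k))} [GrpObj T] (hT : Red.IsTorus T) (n : ℕ) (hn : 1 ≤ n) :
    Surjective (𝟙 T ^ n : T ⟶ T).left := by
  obtain ⟨L, _, φ, r, ⟨e⟩⟩ := TorusProper.exists_split_field hT
  obtain ⟨e'⟩ := GrpSchLib.AffineHopf.nonempty_DS_iso L (Fin r → ℤ)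
  let σ := Spec.map (CommRingCat.ofHom φ)
  let g := e ≪≫ e'
  let D := Red.DS (Spec (CommRingCat.of L)) (Fin r → ℤ)
  let w : D ⟶ Red.bc σ T := g.inv.hom.hom
  haveI : IsMonHom w := g.inv.hom.isMonHom_hom
  haveI : IsIso w.left := by
    haveI : IsIso w := ⟨g.hom.hom.hom, congrArg (fun z => z.hom.hom) g.inv_hom_id,
      congrArg (fun z => z.hom.hom) g.hom_inv_id⟩
    exact inferInstanceAs (IsIso ((Over.forget _).map w))
  haveI : Surjective (𝟙 D ^ n : D ⟶ D).left := by
    have h : (𝟙 D ^ n : D ⟶ D) = Red.DSmap (Spec (CommRingCat.of L)) (n • AddMonoidHom.id (Fin r → ℤ)) :=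
      Red23Lib.Pinned.dsCh_ext fun m => by
        rw [Sga3xB.dsCh_pow, ← Category.id_comp (Red.DSmap _ _), Red23Lib.Pinned.dsCh_DSmap,
          show (n • AddMonoidHom.id (Fin r → ℤ)) m = n • m from rfl, Red23Lib.Pinned.dsCh_nsmul]
    rw [h]
    exact (Sga3xB.flat_surjective_DSmap _ fun a b hab => funext fun i =>
      mul_left_cancel₀ (Int.natCast_ne_zero.mpr (by omega : n ≠ 0)) (by simpa using congrFun hab i)).2
  have hw : (𝟙 D ^ n) ≫ w = w ≫ (𝟙 (Red.bc σ T) ^ n) := by
    rw [MonObj.pow_comp, MonObj.comp_pow, Category.id_comp, Category.comp_id]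
  haveI : Surjective (w.left ≫ (𝟙 (Red.bc σ T) ^ n : Red.bc σ T ⟶ Red.bc σ T).left) := by
    rw [← Over.comp_left, ← hw, Over.comp_left]; infer_instance
  have hs : Surjective (𝟙 (Red.bc σ T) ^ n : Red.bc σ T ⟶ Red.bc σ T).left := Surjective.of_comp w.left _
  have hsq := (H23.MulEtale.isPullback_map σ (𝟙 T ^ n)).w
  have hmap : ((Over.pullback σ).map (𝟙 T ^ n)).left = (𝟙 (Red.bc σ T) ^ n : Red.bc σ T ⟶ Red.bc σ T).left :=
    congrArg CommaMorphism.left (H23.MulEtale.map_pow σ n)
  rw [hmap] at hsq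
  haveI := hs
  haveI : Surjective σ := ⟨fun x => ⟨IsLocalRing.closedPoint L, Subsingleton.elim (α := PrimeSpectrum k) _ _⟩⟩
  haveI : Surjective (pullback.fst T.hom σ) := MorphismProperty.pullback_fst (P := @Surjective) _ _ inferInstance
  haveI : Surjective (pullback.fst T.hom σ ≫ (𝟙 T ^ n : T ⟶ T).left) := by rw [hsq]; infer_instance
  exact Surjective.of_comp (pullback.fst T.hom σ) _

end Groth.Agent.AlgGrp25.TorusImage
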