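import Groth.Agent.AlgGrp25.TorusProper
import Groth.Agent.GrpSchLib.RankOneNonComm
import Groth.Agent.S3280
import Groth.Agent.S13371

/-! A homomorphism from the additive group to a torus is trivial. -/

universe u

open CategoryTheory Limits AlgebraicGeometry MonoidalCategory CartesianMonoidalCategory MonObj

set_option linter.style.haveILetI false

namespace Groth.Agent.AlgGrp25.TorusUnip

open GrpSchLib GrpSchLib.AffineHopf TorusProper

variable {K : Type u} [Field K]

theorem lft_ga : LocallyOfFiniteType (Red.Ga (Spec (CommRingCat.of K))).hom := by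
  haveI := GrpSchLib.RankOne.smooth_ga (Spec (CommRingCat.of K))
  infer_instance

theorem qc_ga : QuasiCompact (Red.Ga (Spec (CommRingCat.of K))).hom := by
  haveI : IsAffineHom (Red.GaZ.{u}).hom := inferInstanceAs (IsAffineHom (Spec.map _))
  exact inferInstanceAs (QuasiCompact (pullback.snd Red.GaZ.hom _))

/-- A torus over a field is of finite type. -/
theorem lft_qc_torus {T : Over (Spec (CommRingCat.of K))} [GrpObj T] (hT : Red.IsTorus T) :
    LocallyOfFiniteType T.hom ∧ QuasiCompact T.hom := by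
  obtain ⟨L, _, φ, r, ⟨e⟩⟩ := exists_split_field hT
  let σ := Spec.map (CommRingCat.ofHom φ)
  let A := MonoidAlgebra L (Multiplicative (Fin r → ℤ))
  let j : Red.bc σ T ≅ sp L A := (Grp.forget _).mapIso e
  haveI : LocallyOfFiniteType (sp L A).hom :=
    HasRingHomProperty.Spec_iff.mpr (RingHom.finiteType_algebraMap.mpr inferInstance)
  haveI : QuasiCompact (sp L A).hom := inferInstanceAs (QuasiCompact (Spec.map _))
  haveI h1 : LocallyOfFiniteType (pullback.snd T.hom σ) := by
    rw [show pullback.snd T.hom σ = j.hom.left ≫ (sp L A).hom from (Over.w j.hom).symm]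
    infer_instance
  haveI h2 : QuasiCompact (pullback.snd T.hom σ) := by
    rw [show pullback.snd T.hom σ = j.hom.left ≫ (sp L A).hom from (Over.w j.hom).symm]
    infer_instance
  letI : Algebra K L := φ.toAlgebra
  haveI : Flat σ := flat_spec_map_field φ
  haveI : Surjective σ := surjective_spec_map_field φ
  haveI hσ : (@Surjective ⊓ @Flat ⊓ @QuasiCompact : MorphismProperty Scheme.{u}) σ := ⟨⟨inferInstance, inferInstance⟩, inferInstance⟩
  exact ⟨MorphismProperty.of_pullback_snd_of_descendsAlong (P := @LocallyOfFiniteType)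
      (Q := @Surjective ⊓ @Flat ⊓ @QuasiCompact) hσ h1,
    MorphismProperty.of_pullback_snd_of_descendsAlong (P := @QuasiCompact)
      (Q := @Surjective ⊓ @Flat ⊓ @QuasiCompact) hσ h2⟩

theorem eq_one_of_split (r : ℕ)
    (w : Red.Ga (Spec (CommRingCat.of K)) ⟶ sp K (MonoidAlgebra K (Multiplicative (Fin r → ℤ)))) [IsMonHom w] :
    w = 1 := by
  classical
  obtain ⟨a⟩ := nonempty_DS_iso K ℤ
  have hgen : ∀ i : Fin r, w ≫ dMap (AddMonoidHom.single (fun _ => ℤ) i) = 1 := fun i => by
    let v := w ≫ dMap (AddMonoidHom.single (fun _ : Fin r => ℤ) i)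
    have h : (v ≫ a.hom.hom.hom) = 1 := S13371.result _ (v ≫ a.hom.hom.hom)
    calc v = (v ≫ a.hom.hom.hom) ≫ a.inv.hom.hom := by
          rw [Category.assoc, show a.hom.hom.hom ≫ a.inv.hom.hom = 𝟙 _ from
            congrArg (fun z => z.hom.hom) a.hom_inv_id, Category.comp_id]
      _ = 1 := by rw [h, MonObj.one_comp]
  let res : Finset (Fin r) → ((Fin r → ℤ) →+ (Fin r → ℤ)) := fun s =>
    ∑ i ∈ s, (AddMonoidHom.single (fun _ => ℤ) i).comp (Pi.evalAddMonoidHom (fun _ => ℤ) i)
  have hs : ∀ s, w ≫ dMap (res s) = 1 := by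
    intro s
    induction s using Finset.induction with
    | empty => simp only [res, Finset.sum_empty, dMap_zero, MonObj.comp_one]
    | @insert i s hi ih =>
      rw [show res (insert i s) = (AddMonoidHom.single (fun _ => ℤ) i).comp (Pi.evalAddMonoidHom (fun _ => ℤ) i) + res s
        from Finset.sum_insert hi, dMap_add, MonObj.comp_mul, ih, _root_.mul_one, ← dMap_comp, ← Category.assoc,
        hgen, MonObj.one_comp]
  have huniv : res Finset.univ = AddMonoidHom.id _ := by
    refine AddMonoidHom.ext fun m => funext fun j => ?_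
    simp [res, Pi.single_apply]
  have h := hs Finset.univ
  rwa [huniv, dMap_id, Category.comp_id] at h

/-- A homomorphism from the additive group to a torus is trivial. -/
theorem eq_one {T : Over (Spec (CommRingCat.of K))} [GrpObj T] (hT : Red.IsTorus T)
    (v : Red.Ga (Spec (CommRingCat.of K)) ⟶ T) [IsMonHom v] : v = 1 := by
  obtain ⟨L, _, φ, r, ⟨e⟩⟩ := exists_split_field hT
  let σ := Spec.map (CommRingCat.ofHom φ)
  let F := Over.pullback σ
  obtain ⟨d₁⟩ := MultTypeBC.bc_bc σ (IsTerminal.from specULiftZIsTerminal (Spec (CommRingCat.of K))) Red.GaZ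
  obtain ⟨d₂⟩ := MultTypeBC.bc_congr
    (specULiftZIsTerminal.hom_ext (σ ≫ IsTerminal.from specULiftZIsTerminal (Spec (CommRingCat.of K)))
      (IsTerminal.from specULiftZIsTerminal (Spec (CommRingCat.of L)))) Red.GaZ
  let d : Grp.mk (Red.bc σ (Red.Ga (Spec (CommRingCat.of K)))) ≅ Grp.mk (Red.Ga (Spec (CommRingCat.of L))) :=
    d₁ ≪≫ d₂
  haveI : IsMonHom (F.map v) := (F.mapGrp.map (Grp.ofHom v)).hom.isMonHom_hom
  haveI : IsMonHom (e.hom.hom.hom) := e.hom.hom.isMonHom_hom
  haveI : IsMonHom (d.inv.hom.hom) := d.inv.hom.isMonHom_hom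
  have h := eq_one_of_split r (d.inv.hom.hom ≫ F.map v ≫ e.hom.hom.hom)
  have e1 : d.hom.hom.hom ≫ d.inv.hom.hom = 𝟙 _ := congrArg (fun z => z.hom.hom) d.hom_inv_id
  have e2 : e.hom.hom.hom ≫ e.inv.hom.hom = 𝟙 _ := congrArg (fun z => z.hom.hom) e.hom_inv_id
  refine AntiAffine.eq_of_map_eq φ ?_
  calc F.map v = (d.hom.hom.hom ≫ d.inv.hom.hom) ≫ F.map v ≫ (e.hom.hom.hom ≫ e.inv.hom.hom) := by
        rw [e1, e2, Category.id_comp, Category.comp_id]
    _ = d.hom.hom.hom ≫ (d.inv.hom.hom ≫ F.map v ≫ e.hom.hom.hom) ≫ e.inv.hom.hom := by simp only [Category.assoc]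
    _ = 1 := by
      haveI : IsMonHom (e.inv.hom.hom) := e.inv.hom.isMonHom_hom
      rw [h, MonObj.one_comp, MonObj.comp_one]
    _ = F.map 1 := (map_one F.homMonoidHom).symm

end Groth.Agent.AlgGrp25.TorusUnip
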